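import Mathlib
set_option linter.all false

/-!
# Higher limits over orbit categories, by explicit cochains (helper539, for S5242)

`G` a finite group acting on a finite set `Ω` such that all point stabilizers are `p`-groups and every `p`-subgroup
fixes a point (`PSet p G Ω`; in use `Ω = G / Sylow`).  A cochain with `k` points with coefficients in the functor
`P ↦ D^P` (`D` a `G`-module) is simply a `G`-equivariant function `c : (Fin k → Ω) → D`; it is supported on a set
`V` of subgroups if `c x = 0` whenever the stabilizer of the tuple `x` is not in `V`.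
-/

set_option autoImplicit false

namespace Cfsg.Agent.H539.Lim

open MulAction

/-! ### Layer 1: module coefficients -/

/-- the stabilizer of a tuple of points (= the intersection of the stabilizers of the points) -/
abbrev st (G : Type*) [Group G] {Ω : Type*} [MulAction G Ω] {k : ℕ} (x : Fin k → Ω) : Subgroup G :=
  MulAction.stabilizer G x

/-- conjugate subgroup `g P g⁻¹` -/
abbrev cj {G : Type*} [Group G] (g : G) (P : Subgroup G) : Subgroup G :=
  P.map (MulAut.conj g).toMonoidHom

/-- all point stabilizers are `p`-groups and every `p`-subgroup fixes a point -/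
structure PSet (p : ℕ) (G : Type*) [Group G] (Ω : Type*) [MulAction G Ω] : Prop where
  pgroup : ∀ x : Ω, IsPGroup p (stabilizer G x)
  exists_fix : ∀ P : Subgroup G, IsPGroup p P → ∃ x : Ω, P ≤ stabilizer G x

/-- invariance of a set of subgroups under conjugation -/
def IsInv {G : Type*} [Group G] (V : Set (Subgroup G)) : Prop :=
  ∀ (g : G) (P : Subgroup G), P ∈ V → cj g P ∈ V

/-- coboundary of a function on `k`-tuples (module coefficients) -/
def dd {Ω D : Type*} [AddCommGroup D] {k : ℕ} (c : (Fin k → Ω) → D) (x : Fin (k + 1) → Ω) : D :=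
  ∑ i : Fin (k + 1), ((-1 : ℤ) ^ (i : ℕ)) • c (fun j => x (i.succAbove j))

/-- `c` is an equivariant function on `k`-tuples supported on the tuples with stabilizer in `V` -/
structure IsCoch {G : Type*} [Group G] {Ω : Type*} [MulAction G Ω] {D : Type*} [AddCommGroup D]
    [DistribMulAction G D] (V : Set (Subgroup G)) {k : ℕ} (c : (Fin k → Ω) → D) : Prop where
  smul : ∀ (g : G) (x : Fin k → Ω), c (g • x) = g • c x
  supp : ∀ x, st G x ∉ V → c x = 0

/-- `c` is a cocycle on `V` -/
def IsCoc {G : Type*} [Group G] {Ω : Type*} [MulAction G Ω] {D : Type*} [AddCommGroup D]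
    (V : Set (Subgroup G)) {k : ℕ} (c : (Fin k → Ω) → D) : Prop :=
  ∀ x : Fin (k + 1) → Ω, st G x ∈ V → dd c x = 0

/-- `Van G Ω D V n`: `H^n(V ; P ↦ D^P) = 0`.  (`n = 0`: cochains on points; `V` is always assumed convex =
`Set.OrdConnected` and invariant in use.) -/
def Van (G : Type*) [Group G] (Ω : Type*) [MulAction G Ω] (D : Type*) [AddCommGroup D]
    [DistribMulAction G D] (V : Set (Subgroup G)) : ℕ → Prop
  | 0 => ∀ c : (Fin 1 → Ω) → D, IsCoch V c → IsCoc (G := G) V c → ∀ x, c x = 0
  | (n + 1) => ∀ c : (Fin (n + 2) → Ω) → D, IsCoch V c → IsCoc (G := G) V c →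
      ∃ b : (Fin (n + 1) → Ω) → D, IsCoch V b ∧ ∀ x, st G x ∈ V → c x = dd b x

/-- `D` is a `p`-group (additively) -/
def IsPTors (p : ℕ) (D : Type*) [AddCommGroup D] : Prop := ∀ d : D, ∃ k : ℕ, (p ^ k : ℕ) • d = 0

/-- the points fixed by `X` -/
def FixPt {G : Type*} [Group G] (X : Subgroup G) (Ω : Type*) [MulAction G Ω] : Type _ :=
  {y : Ω // X ≤ stabilizer G y}

/-- the normalizer of `X` (as in the prelude) -/
abbrev Nz {G : Type*} [Group G] (X : Subgroup G) : Subgroup G := Subgroup.normalizer (X : Set G)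

instance instFixPt {G : Type*} [Group G] (X : Subgroup G) (Ω : Type*) [MulAction G Ω] :
    MulAction ↥(Nz X) (FixPt X Ω) where
  smul n y := ⟨(n : G) • y.1, by
    intro u hu
    have h1 : (n : G)⁻¹ * u * n ∈ X := by
      have := (Subgroup.mem_normalizer_iff.mp (Subgroup.inv_mem _ n.2) u).mp hu
      simpa using this
    have h2 := y.2 h1
    rw [mem_stabilizer_iff] at h2 ⊢
    calc u • (n : G) • y.1 = (n : G) • (((n : G)⁻¹ * u * n) • y.1) := by
          rw [smul_smul, smul_smul]; congr 1; group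
      _ = (n : G) • y.1 := by rw [h2]⟩
  one_smul y := Subtype.ext (one_smul G y.1)
  mul_smul a b y := Subtype.ext (mul_smul (a : G) (b : G) y.1)

instance instFiniteFixPt {G : Type*} [Group G] (X : Subgroup G) (Ω : Type*) [MulAction G Ω] [Finite Ω] :
    Finite (FixPt X Ω) := inferInstanceAs (Finite {y : Ω // X ≤ stabilizer G y})

theorem FixPt.coe_smul {G : Type*} [Group G] (X : Subgroup G) {Ω : Type*} [MulAction G Ω]
    (n : ↥(Nz X)) (y : FixPt X Ω) : (n • y).1 = (n : G) • y.1 := rfl

/-- norm-good subgroups: the norm from a subgroup `M` of index `p` of `A` is multiplication by `p` on the vectors `z`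
fixed by `M` with `p z` fixed by `A`.  (Quadratic action for `p` odd; `D^M = D^A` for all `M` of index two for `p = 2`;
trivial action.) -/
def NGood {G : Type*} [Group G] (p : ℕ) (D : Type*) [AddCommGroup D] [DistribMulAction G D]
    (A : Subgroup G) : Prop :=
  ∀ M : Subgroup G, M ≤ A → M.relIndex A = p → ∀ z : D, (∀ m ∈ M, m • z = z) →
    (∀ a ∈ A, a • (p • z) = p • z) → ∀ a ∈ A, a ∉ M → ∑ i ∈ Finset.range p, a ^ i • z = p • z

/-- the submodule of vectors fixed by the normal subgroup `Y` -/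
def DFix {G : Type*} [Group G] (Y : Subgroup G) (D : Type*) [AddCommGroup D] [DistribMulAction G D] :
    AddSubgroup D where
  carrier := {d | ∀ u ∈ Y, u • d = d}
  zero_mem' := fun u _ => smul_zero u
  add_mem' := fun {a b} ha hb u hu => by rw [smul_add, ha u hu, hb u hu]
  neg_mem' := fun {a} ha u hu => by rw [smul_neg, ha u hu]

instance instDFix {G : Type*} [Group G] (Y : Subgroup G) [Y.Normal] (D : Type*) [AddCommGroup D]
    [DistribMulAction G D] : DistribMulAction G (DFix Y D) where
  smul g d := ⟨g • d.1, fun u hu => by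
    have h1 : g⁻¹ * u * g ∈ Y := by
      have := Subgroup.Normal.conj_mem ‹Y.Normal› u hu g⁻¹
      simpa using this
    calc u • g • d.1 = g • ((g⁻¹ * u * g) • d.1) := by rw [smul_smul, smul_smul]; congr 1; group
      _ = g • d.1 := by rw [d.2 _ h1]⟩
  one_smul d := Subtype.ext (one_smul G d.1)
  mul_smul a b d := Subtype.ext (mul_smul a b d.1)
  smul_zero g := Subtype.ext (smul_zero g)
  smul_add g a b := Subtype.ext (smul_add g a.1 b.1)

theorem DFix.coe_smul {G : Type*} [Group G] (Y : Subgroup G) [Y.Normal] {D : Type*} [AddCommGroup D]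
    [DistribMulAction G D] (g : G) (d : DFix Y D) : ((g • d : DFix Y D) : D) = g • (d : D) := rfl

/-! ### Layer 2: general coefficient systems (contravariant functors on the transporter category, inner
automorphisms acting trivially) -/

universe u v

/-- coefficient system: for `g P g⁻¹ ≤ Q` a map `M Q → M P`, functorial, elements of `P` acting trivially on `M P` -/
structure Coef (G : Type u) [Group G] where
  M : Subgroup G → Type v
  [acg : ∀ P, AddCommGroup (M P)]
  τ : ∀ (g : G) (P Q : Subgroup G), (∀ u ∈ P, g * u * g⁻¹ ∈ Q) → (M Q →+ M P)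
  τ_comp : ∀ (g h : G) (P Q R : Subgroup G) (h1 : ∀ u ∈ P, g * u * g⁻¹ ∈ Q) (h2 : ∀ u ∈ Q, h * u * h⁻¹ ∈ R)
    (h3 : ∀ u ∈ P, (h * g) * u * (h * g)⁻¹ ∈ R) (m : M R), τ g P Q h1 (τ h Q R h2 m) = τ (h * g) P R h3 m
  τ_inner : ∀ (P : Subgroup G) (u : G) (_ : u ∈ P) (h : ∀ w ∈ P, u * w * u⁻¹ ∈ P) (m : M P), τ u P P h m = m

attribute [instance] Coef.acg

namespace Coef

variable {G : Type u} [Group G] (C : Coef.{u, v} G) {Ω : Type*} [MulAction G Ω]

/-- restriction `M Q → M P` for `P ≤ Q` -/
def res {P Q : Subgroup G} (h : P ≤ Q) : C.M Q →+ C.M P :=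
  C.τ 1 P Q (fun u hu => by simpa using h hu)

theorem st_succAbove_le (G : Type*) [Group G] {Ω : Type*} [MulAction G Ω] {k : ℕ} (x : Fin (k + 1) → Ω)
    (i : Fin (k + 1)) : st G x ≤ st G (fun j => x (i.succAbove j)) := by
  intro g hg
  rw [MulAction.mem_stabilizer_iff] at hg ⊢
  funext j
  exact congrFun hg (i.succAbove j)

/-- the coboundary -/
def dd {k : ℕ} (c : ∀ x : Fin k → Ω, C.M (st G x)) (x : Fin (k + 1) → Ω) : C.M (st G x) :=
  ∑ i : Fin (k + 1), ((-1 : ℤ) ^ (i : ℕ)) •
    C.res (st_succAbove_le G x i) (c (fun j => x (i.succAbove j)))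

theorem conj_st (G : Type*) [Group G] {Ω : Type*} [MulAction G Ω] {k : ℕ} (g : G) (x : Fin k → Ω) :
    ∀ u ∈ st G x, g * u * g⁻¹ ∈ st G (g • x) := by
  intro u hu
  rw [MulAction.mem_stabilizer_iff] at hu ⊢
  calc (g * u * g⁻¹) • g • x = g • u • x := by rw [smul_smul, smul_smul]; congr 1; group
    _ = g • x := by rw [hu]

/-- equivariant cochains supported on `V` -/
structure IsCoch (V : Set (Subgroup G)) {k : ℕ} (c : ∀ x : Fin k → Ω, C.M (st G x)) : Prop where
  equiv : ∀ (g : G) (x : Fin k → Ω), C.τ g (st G x) (st G (g • x)) (conj_st G g x) (c (g • x)) = c x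
  supp : ∀ x, st G x ∉ V → c x = 0

def IsCoc (V : Set (Subgroup G)) {k : ℕ} (c : ∀ x : Fin k → Ω, C.M (st G x)) : Prop :=
  ∀ x : Fin (k + 1) → Ω, st G x ∈ V → C.dd c x = 0

/-- `H^n(V ; C) = 0` -/
def Van (Ω : Type*) [MulAction G Ω] (V : Set (Subgroup G)) : ℕ → Prop
  | 0 => ∀ c : (∀ x : Fin 1 → Ω, C.M (st G x)), C.IsCoch V c → C.IsCoc V c → ∀ x, c x = 0
  | (n + 1) => ∀ c : (∀ x : Fin (n + 2) → Ω, C.M (st G x)), C.IsCoch V c → C.IsCoc V c →
      ∃ b : (∀ x : Fin (n + 1) → Ω, C.M (st G x)), C.IsCoch V b ∧ ∀ x, st G x ∈ V → c x = C.dd b x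

/-- restriction of a coefficient system to a subgroup `N` of `G` -/
def restr (N : Subgroup G) : Coef.{u, v} ↥N where
  M P := C.M (P.map N.subtype)
  acg _ := C.acg _
  τ n P Q h := C.τ (n : G) (P.map N.subtype) (Q.map N.subtype) (by
    rintro u ⟨w, hw, rfl⟩
    exact ⟨n * w * n⁻¹, h w hw, rfl⟩)
  τ_comp g h P Q R h1 h2 h3 m := C.τ_comp _ _ _ _ _ _ _ _ m
  τ_inner P u hu h m := C.τ_inner (P.map N.subtype) (u : G) (Subgroup.mem_map_of_mem N.subtype hu) _ m

/-- morphism of coefficient systems on `V` -/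
structure HomOn (C C' : Coef.{u, v} G) (V : Set (Subgroup G)) where
  f : ∀ P : Subgroup G, C.M P →+ C'.M P
  nat : ∀ (g : G) (P Q : Subgroup G) (h : ∀ u ∈ P, g * u * g⁻¹ ∈ Q), P ∈ V → Q ∈ V → ∀ m : C.M Q,
    f P (C.τ g P Q h m) = C'.τ g P Q h (f Q m)

/-- the fixed point functor of a module as a coefficient system -/
def ofMod (G : Type u) [Group G] (D : Type v) [AddCommGroup D] [DistribMulAction G D] : Coef.{u, v} G where
  M P := ↥(DFix P D)
  acg _ := inferInstance
  τ g P Q h :=
    { toFun := fun d => ⟨g⁻¹ • d.1, fun u hu => by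
        have := d.2 _ (h u hu)
        calc u • g⁻¹ • d.1 = g⁻¹ • ((g * u * g⁻¹) • d.1) := by rw [smul_smul, smul_smul]; congr 1; group
          _ = g⁻¹ • d.1 := by rw [this]⟩
      map_zero' := Subtype.ext (smul_zero _)
      map_add' := fun a b => Subtype.ext (smul_add _ _ _) }
  τ_comp g h P Q R h1 h2 h3 m := Subtype.ext (by
    show g⁻¹ • h⁻¹ • m.1 = (h * g)⁻¹ • m.1
    rw [smul_smul, mul_inv_rev])
  τ_inner P u hu h m := Subtype.ext (by
    show u⁻¹ • m.1 = m.1
    exact m.2 _ (P.inv_mem hu))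

end Coef

/-! ### centric subgroups, Thompson subgroups, offenders -/

/-- `P` contains every `p`-element centralizing it -/
def Centric {G : Type*} [Group G] (p : ℕ) (P : Subgroup G) : Prop :=
  ∀ u : G, (∀ v ∈ P, u * v = v * u) → (∃ k : ℕ, u ^ (p ^ k) = 1) → u ∈ P

/-- abelian subgroup -/
def IsAb {G : Type*} [Group G] (A : Subgroup G) : Prop := ∀ a ∈ A, ∀ b ∈ A, a * b = b * a

open Classical in
/-- maximal order of an abelian subgroup of `P` -/
noncomputable def dmax {G : Type*} [Group G] (P : Subgroup G) : ℕ :=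
  sSup {n : ℕ | ∃ A : Subgroup G, A ≤ P ∧ IsAb A ∧ Nat.card A = n}

/-- Thompson subgroup: generated by the abelian subgroups of maximal order -/
noncomputable def JT {G : Type*} [Group G] (P : Subgroup G) : Subgroup G :=
  sSup {A : Subgroup G | A ≤ P ∧ IsAb A ∧ Nat.card A = dmax P}

/-- best offender on `D` (including subgroups acting trivially): `A` abelian, `|B| |D^B| ≤ |A| |D^A|` for all `B ≤ A` -/
def BO {G : Type*} [Group G] (D : Type*) [AddCommGroup D] [DistribMulAction G D] (A : Subgroup G) : Prop :=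
  IsAb A ∧ ∀ B : Subgroup G, B ≤ A → Nat.card B * Nat.card (DFix B D) ≤ Nat.card A * Nat.card (DFix A D)

/-- `J_D(P)`: generated by the best offenders in `P` -/
def JD {G : Type*} [Group G] (D : Type*) [AddCommGroup D] [DistribMulAction G D] (P : Subgroup G) : Subgroup G :=
  sSup {A : Subgroup G | A ≤ P ∧ BO D A}

end Cfsg.Agent.H539.Lim
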