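import Cfsg.Agent.H539.Lim.DefsZ
import Cfsg.Agent.H539.Lim.Defs
import Cfsg.Agent.H118.Lim.Local_mg
import Cfsg.Agent.H309.Lim.Norm
import Cfsg.Agent.H215.Timm
import Cfsg.Agent.PLocal.Timmesfeld
set_option linter.all false

-- part: H647/Lim/DZ
section
/-!
# S5242 (TEAM LIM), pieces GA2, GA3: `Z(X)` as a module for `N(X)`, the collection `VX`
-/

set_option autoImplicit false

namespace Cfsg.Agent.H647.Lim

open MulAction Cfsg.Agent.H539.Lim

universe u v w

section general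

variable {G : Type u} [Group G] {Ω : Type v} [MulAction G Ω]

/-- only the `p`-subgroups in `V` matter -/
theorem van_congr_coef {p : ℕ} (hΩ : PSet p G Ω) (C : Coef.{u, w} G) {V V' : Set (Subgroup G)}
    (h : ∀ P : Subgroup G, IsPGroup p P → (P ∈ V ↔ P ∈ V')) {n : ℕ} (hv : C.Van Ω V n) : C.Van Ω V' n := by
  have hst : ∀ (k : ℕ) (x : Fin (k + 1) → Ω), st G x ∈ V ↔ st G x ∈ V' := by
    intro k x
    apply h
    refine (hΩ.pgroup (x 0)).to_le ?_
    intro g hg
    rw [mem_stabilizer_iff] at hg ⊢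
    exact congrFun hg 0
  cases n with
  | zero =>
    intro c hc hcc
    refine hv c ⟨hc.equiv, fun x hx => hc.supp x fun h' => hx ((hst 0 x).2 h')⟩ ?_
    intro x hx
    exact hcc x ((hst 1 x).1 hx)
  | succ n =>
    intro c hc hcc
    obtain ⟨b, hb, hbc⟩ := hv c ⟨hc.equiv, fun x hx => hc.supp x fun h' => hx ((hst _ x).2 h')⟩
      (fun x hx => hcc x ((hst _ x).1 hx))
    exact ⟨b, ⟨hb.equiv, fun x hx => hb.supp x fun h' => hx ((hst _ x).1 h')⟩,
      fun x hx => hbc x ((hst _ x).2 hx)⟩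

theorem centric_mono {p : ℕ} {P Q : Subgroup G} (h : P ≤ Q) (hP : Centric p P) : Centric p Q := by
  intro u hu hk
  exact h (hP u (fun v hv => hu v (h hv)) hk)

theorem mem_cj {g : G} {P : Subgroup G} {x : G} : x ∈ cj g P ↔ g⁻¹ * x * g ∈ P := by
  constructor
  · rintro ⟨y, hy, rfl⟩
    have : g⁻¹ * (MulAut.conj g).toMonoidHom y * g = y := by
      change g⁻¹ * (g * y * g⁻¹) * g = y
      group
    rw [this]; exact hy
  · intro hx
    refine ⟨_, hx, ?_⟩
    change g * (g⁻¹ * x * g) * g⁻¹ = x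
    group

theorem pow_conj (g u : G) (n : ℕ) : (g⁻¹ * u * g) ^ n = g⁻¹ * u ^ n * g := by
  have := conj_pow (a := g⁻¹) (b := u) (i := n)
  simpa using this

theorem centric_cj {p : ℕ} (g : G) {P : Subgroup G} (hP : Centric p P) : Centric p (cj g P) := by
  rintro u hu ⟨k, hk⟩
  rw [mem_cj]
  apply hP
  · intro v hv
    have h1 := hu (g * v * g⁻¹) ⟨v, hv, rfl⟩
    calc g⁻¹ * u * g * v = g⁻¹ * (u * (g * v * g⁻¹)) * g := by group
      _ = g⁻¹ * (g * v * g⁻¹ * u) * g := by rw [h1]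
      _ = v * (g⁻¹ * u * g) := by group
  · exact ⟨k, by rw [pow_conj, hk]; group⟩

theorem isPGroup_cj {p : ℕ} (g : G) {P : Subgroup G} (hP : IsPGroup p P) : IsPGroup p (cj g P) :=
  hP.map _

theorem map_cj_subtype {N : Subgroup G} (g : N) (Q : Subgroup N) :
    (cj g Q).map N.subtype = cj (g : G) (Q.map N.subtype) := by
  rw [cj, cj, Subgroup.map_map, Subgroup.map_map]
  rfl

end general

section DZ

variable {G : Type u} [Group G]

/-- the centre of `X` as a subgroup of `G` -/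
def zX (X : Subgroup G) : Subgroup G where
  carrier := {z | z ∈ X ∧ ∀ u ∈ X, z * u = u * z}
  one_mem' := ⟨X.one_mem, fun u _ => by simp⟩
  mul_mem' := by
    rintro a b ⟨ha, ha'⟩ ⟨hb, hb'⟩
    refine ⟨X.mul_mem ha hb, fun u hu => ?_⟩
    rw [mul_assoc, hb' u hu, ← mul_assoc, ha' u hu, mul_assoc]
  inv_mem' := by
    rintro a ⟨ha, ha'⟩
    refine ⟨X.inv_mem ha, fun u hu => ?_⟩
    have := ha' u hu
    calc a⁻¹ * u = a⁻¹ * (u * a) * a⁻¹ := by group
      _ = a⁻¹ * (a * u) * a⁻¹ := by rw [this]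
      _ = u * a⁻¹ := by group

theorem mem_zX {X : Subgroup G} {z : G} : z ∈ zX X ↔ z ∈ X ∧ ∀ u ∈ X, z * u = u * z := Iff.rfl

instance (X : Subgroup G) : CommGroup ↥(zX X) :=
  { (inferInstance : Group ↥(zX X)) with
    mul_comm := fun a b => Subtype.ext (a.2.2 b.1 b.2.1) }

/-- the centre of `X` as a module for the normalizer -/
def DZ (X : Subgroup G) : Type u := Additive ↥(zX X)

instance (X : Subgroup G) : AddCommGroup (DZ X) := inferInstanceAs (AddCommGroup (Additive ↥(zX X)))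

instance (X : Subgroup G) [Finite G] : Finite (DZ X) := inferInstanceAs (Finite ↥(zX X))

/-- the element of the group -/
def DZ.val {X : Subgroup G} (d : DZ X) : G := ((Additive.toMul (show Additive ↥(zX X) from d) : ↥(zX X)) : G)

/-- the element of the module -/
def DZ.mk {X : Subgroup G} (z : G) (hz : z ∈ zX X) : DZ X := Additive.ofMul (⟨z, hz⟩ : ↥(zX X))

theorem DZ.ext {X : Subgroup G} {a b : DZ X} (h : a.val = b.val) : a = b := by
  apply Additive.toMul.injective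
  exact Subtype.ext h

@[simp] theorem DZ.val_mk {X : Subgroup G} (z : G) (hz : z ∈ zX X) : (DZ.mk z hz).val = z := rfl
theorem DZ.val_mem {X : Subgroup G} (d : DZ X) : d.val ∈ zX X := (Additive.toMul (show Additive ↥(zX X) from d)).2
@[simp] theorem DZ.val_zero {X : Subgroup G} : (0 : DZ X).val = 1 := rfl
@[simp] theorem DZ.val_add {X : Subgroup G} (a b : DZ X) : (a + b).val = a.val * b.val := rfl

theorem zX_conj {X : Subgroup G} {g z : G} (hg : g ∈ Nz X) (hz : z ∈ zX X) : g * z * g⁻¹ ∈ zX X := by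
  refine ⟨(Subgroup.mem_normalizer_iff.mp hg z).1 hz.1, fun u hu => ?_⟩
  have h1 : g⁻¹ * u * g ∈ X := by
    have := (Subgroup.mem_normalizer_iff.mp (Subgroup.inv_mem _ hg) u).mp hu
    simpa using this
  have h2 := hz.2 _ h1
  calc g * z * g⁻¹ * u = g * (z * (g⁻¹ * u * g)) * g⁻¹ := by group
    _ = g * (g⁻¹ * u * g * z) * g⁻¹ := by rw [h2]
    _ = u * (g * z * g⁻¹) := by group

instance (X : Subgroup G) : DistribMulAction ↥(Nz X) (DZ X) where
  smul g d := DZ.mk ((g : G) * d.val * (g : G)⁻¹) (zX_conj g.2 d.val_mem)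
  one_smul d := DZ.ext (by
    change (1 : G) * d.val * (1 : G)⁻¹ = d.val
    group)
  mul_smul a b d := DZ.ext (by
    change ((a : G) * (b : G)) * d.val * ((a : G) * (b : G))⁻¹ = (a : G) * ((b : G) * d.val * (b : G)⁻¹) * (a : G)⁻¹
    group)
  smul_zero g := DZ.ext (by
    change (g : G) * 1 * (g : G)⁻¹ = 1
    group)
  smul_add g a b := DZ.ext (by
    change (g : G) * (a.val * b.val) * (g : G)⁻¹ = ((g : G) * a.val * (g : G)⁻¹) * ((g : G) * b.val * (g : G)⁻¹)
    group)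

theorem DZ.val_smul {X : Subgroup G} (g : ↥(Nz X)) (d : DZ X) : (g • d).val = (g : G) * d.val * (g : G)⁻¹ := rfl

theorem DZ.smul_eq_iff {X : Subgroup G} (g : ↥(Nz X)) (d : DZ X) : g • d = d ↔ (g : G) * d.val = d.val * (g : G) := by
  constructor
  · intro h
    have h1 := congrArg DZ.val h
    rw [DZ.val_smul] at h1
    rwa [mul_inv_eq_iff_eq_mul] at h1
  · intro h
    apply DZ.ext
    rw [DZ.val_smul, h]
    group

theorem DZ.val_nsmul {X : Subgroup G} (n : ℕ) (d : DZ X) : (n • d).val = d.val ^ n := by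
  induction n with
  | zero => rw [zero_smul, pow_zero]; rfl
  | succ n ih => rw [succ_nsmul, DZ.val_add, ih, pow_succ]

theorem isPTors_DZ {p : ℕ} {X : Subgroup G} (hX : IsPGroup p X) : IsPTors p (DZ X) := by
  intro d
  obtain ⟨k, hk⟩ := hX ⟨d.val, d.val_mem.1⟩
  refine ⟨k, DZ.ext ?_⟩
  rw [DZ.val_nsmul]
  exact congrArg Subtype.val hk

end DZ

/-- the collection of the piece -/
def VX {G : Type u} [Group G] (p : ℕ) (X : Subgroup G) : Set (Subgroup ↥(Nz X)) :=
  {Q | Centric p (Q.map (Nz X).subtype) ∧ IsPGroup p Q ∧ JT (Q.map (Nz X).subtype) = X}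

end Cfsg.Agent.H647.Lim
end

-- part: H234/Lim/Comp
section
/-!
# Comparison of coefficient systems with modules, change of group (helper234, S5242 F4)
-/

set_option autoImplicit false
set_option linter.unusedVariables false

namespace Cfsg.Agent.H234.Lim

open MulAction Cfsg.Agent.H539.Lim

universe u v w

section

variable {G : Type u} [Group G] {Ω : Type v} [MulAction G Ω]

theorem st_smul (g : G) {k : ℕ} (x : Fin k → Ω) : st G (g • x) = cj g (st G x) := by
  ext u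
  rw [MulAction.mem_stabilizer_iff, Subgroup.mem_map]
  constructor
  · intro h
    refine ⟨g⁻¹ * u * g, ?_, ?_⟩
    · rw [MulAction.mem_stabilizer_iff, mul_smul, mul_smul, h, inv_smul_smul]
    · simp [mul_assoc]
  · rintro ⟨w, hw, rfl⟩
    rw [MulAction.mem_stabilizer_iff] at hw
    simp only [MulEquiv.toMonoidHom_eq_coe, MonoidHom.coe_coe, MulAut.conj_apply]
    rw [mul_smul, mul_smul, inv_smul_smul, hw]

theorem mem_smul {V : Set (Subgroup G)} (hVi : IsInv V) (g : G) {k : ℕ} {x : Fin k → Ω} :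
    st G (g • x) ∈ V ↔ st G x ∈ V := by
  constructor
  · intro h
    have := hVi g⁻¹ _ h
    rw [← st_smul, inv_smul_smul] at this
    exact this
  · intro h
    rw [st_smul]
    exact hVi g _ h

theorem tau_congr (C : Coef.{u, w} G) {g g' : G} (hg : g = g') (P Q : Subgroup G) (h : ∀ u ∈ P, g * u * g⁻¹ ∈ Q)
    (h' : ∀ u ∈ P, g' * u * g'⁻¹ ∈ Q) (m : C.M Q) : C.τ g P Q h m = C.τ g' P Q h' m := by
  subst hg
  rfl

theorem Coef.van_of_mod (C : Coef.{u, w} G) {D : Type w} [AddCommGroup D] [DistribMulAction G D] {V : Set (Subgroup G)}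
    (hV : V.OrdConnected) (hVi : IsInv V) (e : ∀ P ∈ V, C.M P ≃+ ↥(DFix P D))
    (hnat : ∀ (g : G) (P Q : Subgroup G) (h : ∀ u ∈ P, g * u * g⁻¹ ∈ Q) (hP : P ∈ V) (hQ : Q ∈ V) (m : C.M Q),
      ((e P hP (C.τ g P Q h m) : ↥(DFix P D)) : D) = g⁻¹ • ((e Q hQ m : ↥(DFix Q D)) : D)) {n : ℕ}
    (h : Van G Ω D V n) : C.Van Ω V n := by
  classical
  let F : ∀ {k : ℕ} (_ : ∀ x : Fin k → Ω, C.M (st G x)), (Fin k → Ω) → D :=
    fun c x => if hx : st G x ∈ V then ((e _ hx (c x) : ↥(DFix (st G x) D)) : D) else 0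
  have F_pos : ∀ {k : ℕ} (c : ∀ x : Fin k → Ω, C.M (st G x)) (x : Fin k → Ω) (hx : st G x ∈ V),
      F c x = ((e _ hx (c x) : ↥(DFix (st G x) D)) : D) := fun c x hx => dif_pos hx
  have F_neg : ∀ {k : ℕ} (c : ∀ x : Fin k → Ω, C.M (st G x)) (x : Fin k → Ω) (_ : st G x ∉ V),
      F c x = 0 := fun c x hx => dif_neg hx
  -- coboundaries
  have Fdd : ∀ {k : ℕ} (c : ∀ x : Fin k → Ω, C.M (st G x)), (∀ x, st G x ∉ V → c x = 0) →
      ∀ (x : Fin (k + 1) → Ω) (hx : st G x ∈ V), ((e _ hx (C.dd c x) : ↥(DFix (st G x) D)) : D) = dd (F c) x := by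
    intro k c hc x hx
    unfold Coef.dd dd
    rw [map_sum, AddSubgroup.val_finsetSum]
    refine Finset.sum_congr rfl fun i _ => ?_
    rw [map_zsmul, AddSubgroup.coe_zsmul]
    congr 1
    by_cases hy : st G (fun j => x (i.succAbove j)) ∈ V
    · rw [F_pos _ _ hy]
      have := hnat 1 _ _ (fun u hu => by simpa using Coef.st_succAbove_le G x i hu) hx hy
        (c (fun j => x (i.succAbove j)))
      refine this.trans ?_
      have h5 : ∀ d : D, (1 : G)⁻¹ • d = d := fun d => by rw [inv_one, one_smul]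
      exact h5 _
    · rw [F_neg _ _ hy, hc _ hy, map_zero, map_zero, AddSubgroup.coe_zero]
  have Fcoch : ∀ {k : ℕ} (c : ∀ x : Fin k → Ω, C.M (st G x)), C.IsCoch V c → IsCoch V (F c) := by
    intro k c hc
    refine ⟨fun g x => ?_, fun x hx => F_neg c x hx⟩
    by_cases hx : st G x ∈ V
    · have hgx : st G (g • x) ∈ V := (mem_smul hVi g).2 hx
      rw [F_pos _ _ hx, F_pos _ _ hgx]
      have := hnat g _ _ (Coef.conj_st G g x) hx hgx (c (g • x))
      rw [hc.equiv g x] at this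
      rw [this, smul_inv_smul]
    · rw [F_neg _ _ hx, F_neg _ _ (fun h => hx ((mem_smul hVi g).1 h)), smul_zero]
  have Fcoc : ∀ {k : ℕ} (c : ∀ x : Fin k → Ω, C.M (st G x)), (∀ x, st G x ∉ V → c x = 0) → C.IsCoc V c →
      IsCoc (G := G) V (F c) := by
    intro k c hc hcc x hx
    rw [← Fdd c hc x hx, hcc x hx, map_zero, AddSubgroup.coe_zero]
  cases n with
  | zero =>
    intro c hc hcc x
    by_cases hx : st G x ∈ V
    · have := h (F c) (Fcoch c hc) (Fcoc c hc.supp hcc) x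
      rw [F_pos _ _ hx] at this
      have h2 : e _ hx (c x) = 0 := Subtype.ext this
      exact (map_eq_zero_iff _ (e _ hx).injective).1 h2
    · exact hc.supp x hx
  | succ n =>
    intro c hc hcc
    obtain ⟨b', hb', hcb⟩ := h (F c) (Fcoch c hc) (Fcoc c hc.supp hcc)
    have hfix : ∀ x : Fin (n + 1) → Ω, b' x ∈ DFix (st G x) D := by
      intro x u hu
      rw [← hb'.smul u x, MulAction.mem_stabilizer_iff.1 hu]
    let b : ∀ x : Fin (n + 1) → Ω, C.M (st G x) := fun x =>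
      if hx : st G x ∈ V then (e _ hx).symm ⟨b' x, hfix x⟩ else 0
    have b_pos : ∀ x (hx : st G x ∈ V), b x = (e _ hx).symm ⟨b' x, hfix x⟩ := fun x hx => dif_pos hx
    have b_neg : ∀ x, st G x ∉ V → b x = 0 := fun x hx => dif_neg hx
    have hFb : F b = b' := by
      funext x
      by_cases hx : st G x ∈ V
      · rw [F_pos _ _ hx, b_pos x hx, AddEquiv.apply_symm_apply]
      · rw [F_neg _ _ hx, hb'.supp x hx]
    refine ⟨b, ⟨fun g x => ?_, b_neg⟩, fun x hx => ?_⟩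
    · by_cases hx : st G x ∈ V
      · have hgx : st G (g • x) ∈ V := (mem_smul hVi g).2 hx
        apply (e _ hx).injective
        apply Subtype.ext
        rw [hnat g _ _ (Coef.conj_st G g x) hx hgx, b_pos _ hgx, b_pos _ hx, AddEquiv.apply_symm_apply,
          AddEquiv.apply_symm_apply]
        show g⁻¹ • b' (g • x) = b' x
        rw [hb'.smul, inv_smul_smul]
      · rw [b_neg x hx, b_neg _ (fun h => hx ((mem_smul hVi g).1 h)), map_zero]
    · apply (e _ hx).injective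
      apply Subtype.ext
      rw [Fdd b b_neg x hx, hFb, ← hcb x hx, F_pos _ _ hx]

end

section

variable {G : Type u} [Group G] {Ω : Type v} [MulAction G Ω] (C : Coef.{u, w} G)

theorem map_st {H : Type u} [Group H] [MulAction H Ω] (φ : G →* H) (hφ : Function.Surjective φ)
    (hΩ : ∀ (g : G) (x : Ω), g • x = φ g • x) {k : ℕ} (x : Fin k → Ω) : (st G x).map φ = st H x := by
  have hx : ∀ g : G, g • x = φ g • x := fun g => funext fun j => hΩ g (x j)
  ext u
  rw [Subgroup.mem_map, MulAction.mem_stabilizer_iff]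
  constructor
  · rintro ⟨g, hg, rfl⟩
    rw [← hx]
    exact hg
  · intro hu
    obtain ⟨g, rfl⟩ := hφ u
    exact ⟨g, (hx g).trans hu, rfl⟩

theorem Coef.van_of_surj {H : Type u} [Group H] [MulAction H Ω] (φ : G →* H) (hφ : Function.Surjective φ)
    (hΩ : ∀ (g : G) (x : Ω), g • x = φ g • x) (C' : Coef.{u, w} H) {V : Set (Subgroup G)}
    {V' : Set (Subgroup H)} (hV : V.OrdConnected) (hVi : IsInv V)
    (hVV : ∀ P : Subgroup G, φ.ker ≤ P → (P ∈ V ↔ P.map φ ∈ V'))
    (e : ∀ P ∈ V, C.M P ≃+ C'.M (P.map φ))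
    (hnat : ∀ (g : G) (P Q : Subgroup G) (h : ∀ u ∈ P, g * u * g⁻¹ ∈ Q) (h' : ∀ u ∈ P.map φ,
      φ g * u * (φ g)⁻¹ ∈ Q.map φ) (hP : P ∈ V) (hQ : Q ∈ V) (m : C.M Q),
      e P hP (C.τ g P Q h m) = C'.τ (φ g) (P.map φ) (Q.map φ) h' (e Q hQ m)) {n : ℕ}
    (h : C'.Van Ω V' n) : C.Van Ω V n := by
  classical
  have hker : ∀ {k : ℕ} (x : Fin k → Ω), φ.ker ≤ st G x := by
    intro k x g hg
    rw [MulAction.mem_stabilizer_iff]
    funext j
    show g • x j = x j
    rw [hΩ, MonoidHom.mem_ker.1 hg, one_smul]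
  have hst : ∀ {k : ℕ} (x : Fin k → Ω), (st G x).map φ = st H x := fun x => map_st φ hφ hΩ x
  have hmem : ∀ {k : ℕ} (x : Fin k → Ω), st G x ∈ V ↔ st H x ∈ V' := by
    intro k x
    rw [hVV _ (hker x), hst]
  have hgx : ∀ {k : ℕ} (g : G) (x : Fin k → Ω), φ g • x = g • x := fun g x => funext fun j => (hΩ g (x j)).symm
  -- the transports
  have hT : ∀ {k : ℕ} (x : Fin k → Ω), ∀ u ∈ st H x, 1 * u * 1⁻¹ ∈ (st G x).map φ := by
    intro k x u hu
    rw [hst]
    simpa using hu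
  have hT' : ∀ {k : ℕ} (x : Fin k → Ω), ∀ u ∈ (st G x).map φ, 1 * u * 1⁻¹ ∈ st H x := by
    intro k x u hu
    rw [hst] at hu
    simpa using hu
  let T : ∀ {k : ℕ} (x : Fin k → Ω), C'.M ((st G x).map φ) →+ C'.M (st H x) := fun x =>
    C'.τ 1 (st H x) ((st G x).map φ) (hT x)
  let T' : ∀ {k : ℕ} (x : Fin k → Ω), C'.M (st H x) →+ C'.M ((st G x).map φ) := fun x =>
    C'.τ 1 ((st G x).map φ) (st H x) (hT' x)
  have hτ1 : ∀ (P : Subgroup H) (h1 : ∀ u ∈ P, (1 * 1 : H) * u * (1 * 1 : H)⁻¹ ∈ P) (m : C'.M P),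
      C'.τ (1 * 1) P P h1 m = m := by
    intro P h1 m
    exact C'.τ_inner P (1 * 1) (by simp) h1 m
  have hTT' : ∀ {k : ℕ} (x : Fin k → Ω) m, T x (T' x m) = m := by
    intro k x m
    show C'.τ 1 _ _ _ (C'.τ 1 _ _ _ m) = m
    rw [C'.τ_comp 1 1 _ _ _ (hT x) (hT' x) (fun u hu => by simpa using hu) m, hτ1]
  have hT'T : ∀ {k : ℕ} (x : Fin k → Ω) m, T' x (T x m) = m := by
    intro k x m
    show C'.τ 1 _ _ _ (C'.τ 1 _ _ _ m) = m
    rw [C'.τ_comp 1 1 _ _ _ (hT' x) (hT x) (fun u hu => by simpa using hu) m, hτ1]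
  have hTinj : ∀ {k : ℕ} (x : Fin k → Ω), Function.Injective (T x) := fun x a b hab => by
    rw [← hT'T x a, hab, hT'T]
  -- naturality of the transport
  have hTn : ∀ {k l : ℕ} (x : Fin k → Ω) (y : Fin l → Ω) (g : H)
      (h1 : ∀ u ∈ st H x, g * u * g⁻¹ ∈ st H y) (h2 : ∀ u ∈ (st G x).map φ, g * u * g⁻¹ ∈ (st G y).map φ)
      (m : C'.M ((st G y).map φ)), C'.τ g (st H x) (st H y) h1 (T y m) = T x (C'.τ g _ _ h2 m) := by
    intro k l x y g h1 h2 m
    show C'.τ g _ _ _ (C'.τ 1 _ _ _ m) = C'.τ 1 _ _ _ (C'.τ g _ _ _ m)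
    have h3 : ∀ u ∈ st H x, (1 * g) * u * (1 * g)⁻¹ ∈ (st G y).map φ := fun u hu => by
      rw [hst]; simpa using h1 u hu
    rw [C'.τ_comp g 1 _ _ _ h1 (hT y) h3 m]
    have h4 : ∀ u ∈ st H x, (g * 1) * u * (g * 1)⁻¹ ∈ (st G y).map φ := fun u hu => by
      rw [hst]; simpa using h1 u hu
    rw [C'.τ_comp 1 g _ _ _ (hT x) h2 h4 m]
    exact tau_congr C' (by rw [one_mul, mul_one]) _ _ _ _ _
  let F : ∀ {k : ℕ} (_ : ∀ x : Fin k → Ω, C.M (st G x)), ∀ x : Fin k → Ω, C'.M (st H x) :=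
    fun c x => if hx : st G x ∈ V then T x (e _ hx (c x)) else 0
  have F_pos : ∀ {k : ℕ} (c : ∀ x : Fin k → Ω, C.M (st G x)) (x : Fin k → Ω) (hx : st G x ∈ V),
      F c x = T x (e _ hx (c x)) := fun c x hx => dif_pos hx
  have F_neg : ∀ {k : ℕ} (c : ∀ x : Fin k → Ω, C.M (st G x)) (x : Fin k → Ω) (_ : st G x ∉ V),
      F c x = 0 := fun c x hx => dif_neg hx
  have Fdd : ∀ {k : ℕ} (c : ∀ x : Fin k → Ω, C.M (st G x)), (∀ x, st G x ∉ V → c x = 0) →
      ∀ (x : Fin (k + 1) → Ω) (hx : st G x ∈ V), T x (e _ hx (C.dd c x)) = C'.dd (F c) x := by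
    intro k c hc x hx
    unfold Coef.dd
    rw [map_sum, map_sum]
    refine Finset.sum_congr rfl fun i _ => ?_
    rw [map_zsmul, map_zsmul]
    congr 1
    by_cases hy : st G (fun j => x (i.succAbove j)) ∈ V
    · rw [F_pos _ _ hy]
      have h1 : ∀ u ∈ (st G x).map φ, φ 1 * u * (φ 1)⁻¹ ∈ (st G (fun j => x (i.succAbove j))).map φ := by
        intro u hu
        rw [map_one]
        simpa using Subgroup.map_mono (Coef.st_succAbove_le G x i) hu
      have h2 := hnat 1 _ _ (fun u hu => by simpa using Coef.st_succAbove_le G x i hu) h1 hx hy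
        (c (fun j => x (i.succAbove j)))
      have h3 : e _ hx (C.res (Coef.st_succAbove_le G x i) (c (fun j => x (i.succAbove j)))) = _ := h2
      rw [h3]
      have h4 : ∀ u ∈ st H x, φ 1 * u * (φ 1)⁻¹ ∈ st H (fun j => x (i.succAbove j)) := by
        intro u hu
        rw [map_one]
        simpa using Coef.st_succAbove_le H x i hu
      rw [← hTn x _ (φ 1) h4 h1]
      show C'.τ (φ 1) _ _ _ _ = C'.τ 1 _ _ _ _
      exact tau_congr C' (map_one φ) _ _ _ _ _
    · rw [F_neg _ _ hy, hc _ hy, map_zero, map_zero, map_zero, map_zero]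
  have Fcoch : ∀ {k : ℕ} (c : ∀ x : Fin k → Ω, C.M (st G x)), C.IsCoch V c → C'.IsCoch V' (F c) := by
    intro k c hc
    refine ⟨fun g' x => ?_, fun x hx => F_neg c x (fun h => hx ((hmem x).1 h))⟩
    obtain ⟨g, rfl⟩ := hφ g'
    have gen : ∀ (y : Fin k → Ω) (hy : y = g • x) (h1 : ∀ u ∈ st H x, φ g * u * (φ g)⁻¹ ∈ st H y),
        C'.τ (φ g) (st H x) (st H y) h1 (F c y) = F c x := by
      intro y hy h1
      subst hy
      by_cases hx : st G x ∈ V
      · have hgx : st G (g • x) ∈ V := (mem_smul hVi g).2 hx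
        rw [F_pos _ _ hx, F_pos _ _ hgx]
        have h2 : ∀ u ∈ (st G x).map φ, φ g * u * (φ g)⁻¹ ∈ (st G (g • x)).map φ := by
          rintro _ ⟨u, hu, rfl⟩
          exact ⟨g * u * g⁻¹, Coef.conj_st G g x u hu, by simp⟩
        rw [hTn x (g • x) (φ g) h1 h2, ← hnat g _ _ (Coef.conj_st G g x) h2 hx hgx (c (g • x)), hc.equiv g x]
      · rw [F_neg _ _ hx, F_neg _ _ (fun h => hx ((mem_smul hVi g).1 h)), map_zero]
    exact gen _ (hgx g x) _
  have Fcoc : ∀ {k : ℕ} (c : ∀ x : Fin k → Ω, C.M (st G x)), (∀ x, st G x ∉ V → c x = 0) → C.IsCoc V c →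
      C'.IsCoc V' (F c) := by
    intro k c hc hcc x hx
    have hx' := (hmem x).2 hx
    rw [← Fdd c hc x hx', hcc x hx', map_zero, map_zero]
  cases n with
  | zero =>
    intro c hc hcc x
    by_cases hx : st G x ∈ V
    · have := h (F c) (Fcoch c hc) (Fcoc c hc.supp hcc) x
      rw [F_pos _ _ hx] at this
      have h2 : e _ hx (c x) = 0 := (map_eq_zero_iff _ (hTinj x)).1 this
      exact (map_eq_zero_iff _ (e _ hx).injective).1 h2
    · exact hc.supp x hx
  | succ n =>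
    intro c hc hcc
    obtain ⟨b', hb', hcb⟩ := h (F c) (Fcoch c hc) (Fcoc c hc.supp hcc)
    let b : ∀ x : Fin (n + 1) → Ω, C.M (st G x) := fun x =>
      if hx : st G x ∈ V then (e _ hx).symm (T' x (b' x)) else 0
    have b_pos : ∀ x (hx : st G x ∈ V), b x = (e _ hx).symm (T' x (b' x)) := fun x hx => dif_pos hx
    have b_neg : ∀ x, st G x ∉ V → b x = 0 := fun x hx => dif_neg hx
    have hFb : F b = b' := by
      funext x
      by_cases hx : st G x ∈ V
      · rw [F_pos _ _ hx, b_pos x hx, AddEquiv.apply_symm_apply, hTT']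
      · rw [F_neg _ _ hx, hb'.supp x (fun h => hx ((hmem x).2 h))]
    refine ⟨b, ⟨fun g x => ?_, b_neg⟩, fun x hx => ?_⟩
    · by_cases hx : st G x ∈ V
      · have hgx' : st G (g • x) ∈ V := (mem_smul hVi g).2 hx
        apply (e _ hx).injective
        apply hTinj x
        have h2 : ∀ u ∈ (st G x).map φ, φ g * u * (φ g)⁻¹ ∈ (st G (g • x)).map φ := by
          rintro _ ⟨u, hu, rfl⟩
          exact ⟨g * u * g⁻¹, Coef.conj_st G g x u hu, by simp⟩
        have h1 : ∀ u ∈ st H x, φ g * u * (φ g)⁻¹ ∈ st H (g • x) := by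
          intro u hu
          rw [← hst] at hu ⊢
          exact h2 u hu
        rw [hnat g _ _ (Coef.conj_st G g x) h2 hx hgx', ← hTn x (g • x) (φ g) h1 h2]
        rw [← F_pos b _ hgx', ← F_pos b _ hx, hFb]
        have gen : ∀ (y : Fin (n + 1) → Ω) (hy : y = φ g • x) (h1 : ∀ u ∈ st H x, φ g * u * (φ g)⁻¹ ∈ st H y),
            C'.τ (φ g) (st H x) (st H y) h1 (b' y) = b' x := by
          intro y hy h1
          subst hy
          exact hb'.equiv (φ g) x
        exact gen _ (hgx g x).symm h1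
      · rw [b_neg x hx, b_neg _ (fun h => hx ((mem_smul hVi g).1 h)), map_zero]
    · apply (e _ hx).injective
      apply hTinj x
      rw [Fdd b b_neg x hx, hFb, ← hcb x ((hmem x).1 hx), F_pos _ _ hx]

end

end Cfsg.Agent.H234.Lim
end

-- part: H539/Lim/PieceA
section
/-!
# S5242 (TEAM LIM), pieces GA2, GA3, common part: the pieces with a fixed Thompson subgroup as module pieces
-/

set_option autoImplicit false

namespace Cfsg.Agent.H539.Lim.PA

open MulAction Cfsg.Agent.H539.Lim Cfsg.Agent.H647.Lim Cfsg.Agent.H835.Lim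

universe u v w

section piece

variable {G : Type u} [Group G] {Ω : Type v} [MulAction G Ω] {p : ℕ}

theorem VX_ordConnected [Finite G] (X : Subgroup G) : (VX p X).OrdConnected := by
  refine Set.ordConnected_iff.2 ?_
  rintro P ⟨hP1, hP2, hP3⟩ Q ⟨hQ1, hQ2, hQ3⟩ hPQ R ⟨hPR, hRQ⟩
  have h1 : P.map (Nz X).subtype ≤ R.map (Nz X).subtype := Subgroup.map_mono hPR
  have h2 : R.map (Nz X).subtype ≤ Q.map (Nz X).subtype := Subgroup.map_mono hRQ
  refine ⟨centric_mono h1 hP1, hQ2.to_le hRQ, ?_⟩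
  have h3 : JT (Q.map (Nz X).subtype) ≤ R.map (Nz X).subtype :=
    hQ3.le.trans (hP3.symm.le.trans ((JT_le _).trans h1))
  rw [JT_sandwich h3 h2, hQ3]

theorem VX_inv [Finite G] (X : Subgroup G) : IsInv (VX p X) := by
  rintro g Q ⟨h1, h2, h3⟩
  refine ⟨?_, isPGroup_cj g h2, ?_⟩
  · rw [map_cj_subtype]
    exact centric_cj _ h1
  · rw [map_cj_subtype, (JT_conj _ _).1, h3]
    ext x
    rw [mem_cj]
    have := Subgroup.mem_normalizer_iff.mp (Subgroup.inv_mem _ g.2) x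
    rw [inv_inv] at this
    exact this.symm

/-- `Z(P) = Z(X)^P` for `P` with Thompson subgroup `X` -/
theorem zc_le_zX [Finite G] {X P : Subgroup G} (hP : JT P = X) {z : G} (hz : z ∈ P) (hc : ∀ u ∈ P, z * u = u * z) :
    z ∈ zX X := by
  have hXP : X ≤ P := by rw [← hP]; exact JT_le P
  have h1 : z ∈ JT P := centralizer_JT P z hz fun v hv => hc v (JT_le P hv)
  rw [hP] at h1
  exact ⟨h1, fun u hu => hc u (hXP hu)⟩

/-- the comparison isomorphism -/
noncomputable def eZ [Finite G] (X : Subgroup G) (Q : Subgroup ↥(Nz X)) (hQ : Q ∈ VX p X) :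
    ((Coef.Z p G).restr (Nz X)).M Q ≃+ ↥(DFix Q (DZ X)) where
  toFun m := ⟨DZ.mk ((Additive.toMul (show Additive ↥(zc p (Q.map (Nz X).subtype)) from m) :
      ↥(zc p (Q.map (Nz X).subtype))) : G)
      (zc_le_zX hQ.2.2 (Additive.toMul (show Additive ↥(zc p (Q.map (Nz X).subtype)) from m)).2.1
        (Additive.toMul (show Additive ↥(zc p (Q.map (Nz X).subtype)) from m)).2.2.1), by
      intro u hu
      rw [DZ.smul_eq_iff, DZ.val_mk]
      exact ((Additive.toMul (show Additive ↥(zc p (Q.map (Nz X).subtype)) from m)).2.2.1 _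
        (Subgroup.mem_map_of_mem _ hu)).symm⟩
  invFun d := Additive.ofMul (⟨d.1.val, by
      have hXP : X ≤ Q.map (Nz X).subtype := by
        conv_lhs => rw [← hQ.2.2]
        exact JT_le _
      refine ⟨hXP d.1.val_mem.1, ?_, Or.inr ⟨hQ.1, hQ.2.1.map _⟩⟩
      rintro _ ⟨u, hu, rfl⟩
      exact ((DZ.smul_eq_iff _ _).1 (d.2 u hu)).symm⟩ : ↥(zc p (Q.map (Nz X).subtype)))
  left_inv m := rfl
  right_inv d := rfl
  map_add' a b := rfl

theorem eZ_val [Finite G] (X : Subgroup G) (Q : Subgroup ↥(Nz X)) (hQ : Q ∈ VX p X)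
    (m : ((Coef.Z p G).restr (Nz X)).M Q) : (eZ X Q hQ m).1.val =
      ((Additive.toMul (show Additive ↥(zc p (Q.map (Nz X).subtype)) from m) :
      ↥(zc p (Q.map (Nz X).subtype))) : G) := rfl

theorem Z_τ_val (p : ℕ) (g : G) (P Q : Subgroup G) (h : ∀ u ∈ P, g * u * g⁻¹ ∈ Q)
    (hP : Centric p P ∧ IsPGroup p P) (m : (Coef.Z p G).M Q) :
    ((Additive.toMul (show Additive ↥(zc p P) from (Coef.Z p G).τ g P Q h m) : ↥(zc p P)) : G) =
      g⁻¹ * ((Additive.toMul (show Additive ↥(zc p Q) from m) : ↥(zc p Q)) : G) * g := by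
  classical
  have h1 : (Coef.Z p G).τ g P Q h m = Additive.ofMul (⟨g⁻¹ * ((Additive.toMul (show Additive ↥(zc p Q) from m) :
      ↥(zc p Q)) : G) * g, zc_conj p h hP _ (Additive.toMul (show Additive ↥(zc p Q) from m)).2⟩ : ↥(zc p P)) := by
    apply congrArg Additive.ofMul
    exact dif_pos hP
  rw [h1]
  rfl

/-- **comparison**: the piece of the centre functor follows from the module piece -/
theorem piece_of_mod [Fact p.Prime] [Finite G] [Finite Ω] (hΩ : PSet p G Ω) (X : Subgroup G)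
    (hXp : IsPGroup p X) {n : ℕ} (h : Van ↥(Nz X) (FixPt X Ω) (DZ X) (VX p X) n) :
    ((Coef.Z p G).restr (Nz X)).Van (FixPt X Ω)
      {Q : Subgroup ↥(Nz X) | Centric p (Q.map (Nz X).subtype) ∧ JT (Q.map (Nz X).subtype) = X} n := by
  refine van_congr_coef (Cfsg.Agent.H95.Lim.pset_fixPt hΩ X hXp) _ (V := VX p X) ?_ ?_
  · intro P hP
    exact ⟨fun h => ⟨h.1, h.2.2⟩, fun h => ⟨h.1, hP, h.2⟩⟩
  · refine Cfsg.Agent.H234.Lim.Coef.van_of_mod _ (VX_ordConnected X) (VX_inv X) (eZ X) ?_ h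
    intro g P Q hPQ hP hQ m
    apply DZ.ext
    rw [eZ_val, DZ.val_smul, eZ_val]
    have hc : Centric p (P.map (Nz X).subtype) ∧ IsPGroup p ↥(P.map (Nz X).subtype) := ⟨hP.1, hP.2.1.map _⟩
    have h1 := Z_τ_val p (g : G) (P.map (Nz X).subtype) (Q.map (Nz X).subtype) (by
      rintro u ⟨w, hw, rfl⟩
      exact ⟨g * w * g⁻¹, hPQ w hw, rfl⟩) hc m
    rw [Subgroup.coe_inv, inv_inv]
    exact h1

end piece

end Cfsg.Agent.H539.Lim.PA
end

-- part: H291/Lim/Off
section
/-!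
# Offenders: conjugation, monotonicity, inheritance (S5242, piece D3)
-/

set_option autoImplicit false

namespace Cfsg.Agent.H291.Lim

open MulAction Cfsg.Agent.H539.Lim

universe u v w

/-- best offender with a kernel `Y` -/
def BOY {G : Type*} [Group G] (Y : Subgroup G) (D : Type*) [AddCommGroup D] [DistribMulAction G D]
    (A : Subgroup G) : Prop :=
  Y ≤ A ∧ (∀ a ∈ A, ∀ b ∈ A, a * b * a⁻¹ * b⁻¹ ∈ Y) ∧ ∀ B : Subgroup G, Y ≤ B → B ≤ A →
    Nat.card B * Nat.card (DFix B D) ≤ Nat.card A * Nat.card (DFix A D)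

def JDY {G : Type*} [Group G] (Y : Subgroup G) (D : Type*) [AddCommGroup D] [DistribMulAction G D]
    (P : Subgroup G) : Subgroup G := sSup {A : Subgroup G | A ≤ P ∧ BOY Y D A}

section

variable {G : Type u} [Group G]

theorem cj_mul (g h : G) (P : Subgroup G) : cj g (cj h P) = cj (g * h) P := by
  unfold cj
  rw [Subgroup.map_map]
  congr 1
  ext x
  simp

theorem cj_one (P : Subgroup G) : cj 1 P = P := by
  unfold cj
  ext x
  simp

theorem cj_mono (g : G) {P Q : Subgroup G} (h : P ≤ Q) : cj g P ≤ cj g Q := Subgroup.map_mono h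

theorem cj_inv_cj (g : G) (P : Subgroup G) : cj g⁻¹ (cj g P) = P := by rw [cj_mul, inv_mul_cancel, cj_one]

theorem cj_cj_inv (g : G) (P : Subgroup G) : cj g (cj g⁻¹ P) = P := by rw [cj_mul, mul_inv_cancel, cj_one]

theorem mem_cj {g : G} {P : Subgroup G} {x : G} : x ∈ cj g P ↔ g⁻¹ * x * g ∈ P := by
  unfold cj
  rw [Subgroup.mem_map]
  constructor
  · rintro ⟨y, hy, rfl⟩
    simpa [mul_assoc] using hy
  · intro h
    exact ⟨_, h, by simp [mul_assoc]⟩

theorem card_cj (g : G) (P : Subgroup G) : Nat.card (cj g P) = Nat.card P :=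
  Nat.card_congr (P.equivMapOfInjective _ (MulAut.conj g).injective).toEquiv.symm

theorem cj_ne_bot {g : G} {P : Subgroup G} (h : P ≠ ⊥) : cj g P ≠ ⊥ := by
  intro h1
  apply h
  rw [← cj_inv_cj g P, h1]
  exact Subgroup.map_bot _

variable {D : Type w} [AddCommGroup D] [DistribMulAction G D]

theorem card_DFix_cj (g : G) (P : Subgroup G) : Nat.card (DFix (cj g P) D) = Nat.card (DFix P D) := by
  refine Nat.card_congr
    { toFun := fun d => ⟨g⁻¹ • d.1, fun u hu => ?_⟩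
      invFun := fun d => ⟨g • d.1, fun u hu => ?_⟩
      left_inv := fun d => Subtype.ext (smul_inv_smul g d.1)
      right_inv := fun d => Subtype.ext (inv_smul_smul g d.1) }
  · have h1 : g * u * g⁻¹ ∈ cj g P := by rw [mem_cj]; simpa [mul_assoc] using hu
    calc u • g⁻¹ • d.1 = g⁻¹ • ((g * u * g⁻¹) • d.1) := by rw [smul_smul, smul_smul]; congr 1; group
      _ = g⁻¹ • d.1 := by rw [d.2 _ h1]
  · rw [mem_cj] at hu
    calc u • g • d.1 = g • ((g⁻¹ * u * g) • d.1) := by rw [smul_smul, smul_smul]; congr 1; group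
      _ = g • d.1 := by rw [d.2 _ hu]

theorem bo_cj {A : Subgroup G} (g : G) (h : BO D A) : BO D (cj g A) := by
  refine ⟨fun a ha b hb => ?_, fun B hB => ?_⟩
  · rw [mem_cj] at ha hb
    have := h.1 _ ha _ hb
    have h2 : g * ((g⁻¹ * a * g) * (g⁻¹ * b * g)) * g⁻¹ = g * ((g⁻¹ * b * g) * (g⁻¹ * a * g)) * g⁻¹ := by rw [this]
    simpa [mul_assoc] using h2
  · have h1 : Cfsg.Agent.H539.Lim.cj g⁻¹ B ≤ A := by
      have := cj_mono g⁻¹ hB
      rwa [cj_inv_cj] at this
    have h2 := h.2 _ h1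
    rwa [card_cj, card_DFix_cj, ← card_cj g A, ← card_DFix_cj (D := D) g A] at h2

theorem JD_le (P : Subgroup G) : JD D P ≤ P := sSup_le fun _ h => h.1

theorem le_JD {A P : Subgroup G} (h : BO D A) (hA : A ≤ P) : A ≤ JD D P := le_sSup ⟨hA, h⟩

theorem JD_mono {P Q : Subgroup G} (h : P ≤ Q) : JD D P ≤ JD D Q :=
  sSup_le fun _ hA => le_JD hA.2 (hA.1.trans h)

theorem JD_JD (P : Subgroup G) : JD D (JD D P) = JD D P :=
  le_antisymm (JD_le _) (sSup_le fun _ hA => le_JD hA.2 (le_JD hA.2 hA.1))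

theorem cj_JD_le (g : G) (P : Subgroup G) : cj g (JD D P) ≤ JD D (cj g P) := by
  have h : JD D P ≤ cj g⁻¹ (JD D (cj g P)) := by
    refine sSup_le fun A hA => ?_
    have h1 := cj_mono g⁻¹ (le_JD (bo_cj g hA.2) (cj_mono g hA.1))
    rwa [cj_inv_cj] at h1
  have h2 := cj_mono g h
  rwa [cj_cj_inv] at h2

theorem JD_cj (g : G) (P : Subgroup G) : JD D (cj g P) = cj g (JD D P) := by
  refine le_antisymm ?_ (cj_JD_le g P)
  have h := cj_mono g (cj_JD_le (D := D) g⁻¹ (cj g P))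
  rwa [cj_cj_inv, cj_inv_cj] at h

theorem JD_ne_bot_iff {P : Subgroup G} : JD D P ≠ ⊥ ↔ ∃ A : Subgroup G, A ≤ P ∧ A ≠ ⊥ ∧ BO D A := by
  constructor
  · intro h
    by_contra h1
    push Not at h1
    apply h
    rw [eq_bot_iff]
    refine sSup_le fun A hA => ?_
    by_contra h2
    exact h1 A hA.1 (fun h3 => h2 (h3 ▸ le_rfl)) hA.2
  · rintro ⟨A, hA, h1, h2⟩ h3
    exact h1 (eq_bot_iff.2 (h3 ▸ le_JD h2 hA))

/-! ### inheritance -/

theorem card_sub_mul {E : Type*} [AddCommGroup E] [Finite E] {H K L : AddSubgroup E} (hH : H ≤ L) (hK : K ≤ L) :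
    Nat.card H * Nat.card K ≤ Nat.card L * Nat.card ↥(H ⊓ K) := by
  have h1 : Nat.card H = Nat.card ↥(H ⊓ K) * K.relIndex H := by
    rw [← AddSubgroup.relIndex_bot_left, ← AddSubgroup.relIndex_bot_left,
      ← AddSubgroup.inf_relIndex_left H K, AddSubgroup.relIndex_mul_relIndex _ _ _ bot_le inf_le_left]
  have h2 : Nat.card L = Nat.card K * K.relIndex L := by
    rw [← AddSubgroup.relIndex_bot_left, ← AddSubgroup.relIndex_bot_left,
      AddSubgroup.relIndex_mul_relIndex _ _ _ bot_le hK]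
  have h3 : K.relIndex H ≤ K.relIndex L :=
    AddSubgroup.relIndex_le_of_le_right hH (AddSubgroup.index_ne_zero_of_finite (H := K.addSubgroupOf L))
  calc Nat.card H * Nat.card K = Nat.card ↥(H ⊓ K) * K.relIndex H * Nat.card K := by rw [h1]
    _ ≤ Nat.card ↥(H ⊓ K) * K.relIndex L * Nat.card K := by gcongr
    _ = Nat.card L * Nat.card ↥(H ⊓ K) := by rw [h2]; ring

theorem DFix_anti {P Q : Subgroup G} (h : P ≤ Q) : DFix Q D ≤ DFix P D := fun _ hd u hu => hd u (h hu)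

/-- inheritance of best offenders by submodules -/
theorem bo_inherit [Finite D] {A : Subgroup G} (hA : BO D A) (U : AddSubgroup D) {B : Subgroup G} (hB : B ≤ A) :
    Nat.card B * Nat.card ↥(U ⊓ DFix B D) ≤ Nat.card A * Nat.card ↥(U ⊓ DFix A D) := by
  have h1 := card_sub_mul (H := U ⊓ DFix B D) (K := DFix A D) (L := DFix B D) inf_le_right (DFix_anti hB)
  have h2 : U ⊓ DFix B D ⊓ DFix A D = U ⊓ DFix A D := by
    rw [inf_assoc, inf_eq_right.2 (DFix_anti (D := D) hB)]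
  rw [h2] at h1
  have h3 := hA.2 B hB
  have h4 : 0 < Nat.card (DFix A D) := Nat.card_pos
  refine Nat.le_of_mul_le_mul_right (c := Nat.card (DFix A D)) ?_ h4
  calc Nat.card B * Nat.card ↥(U ⊓ DFix B D) * Nat.card (DFix A D)
      = Nat.card B * (Nat.card ↥(U ⊓ DFix B D) * Nat.card (DFix A D)) := by ring
    _ ≤ Nat.card B * (Nat.card (DFix B D) * Nat.card ↥(U ⊓ DFix A D)) := by gcongr
    _ = (Nat.card B * Nat.card (DFix B D)) * Nat.card ↥(U ⊓ DFix A D) := by ring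
    _ ≤ (Nat.card A * Nat.card (DFix A D)) * Nat.card ↥(U ⊓ DFix A D) := by gcongr
    _ = Nat.card A * Nat.card ↥(U ⊓ DFix A D) * Nat.card (DFix A D) := by ring

theorem card_sup_mul_inf [Finite G] (H Y : Subgroup G) [Y.Normal] :
    Nat.card ↥(H ⊔ Y) * Nat.card ↥(H ⊓ Y) = Nat.card H * Nat.card Y := by
  have h1 : Nat.card H = Nat.card ↥(H ⊓ Y) * Y.relIndex H := by
    rw [← Subgroup.relIndex_bot_left, ← Subgroup.relIndex_bot_left,
      ← Subgroup.inf_relIndex_left H Y, Subgroup.relIndex_mul_relIndex _ _ _ bot_le inf_le_left]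
  have h2 : Nat.card ↥(H ⊔ Y) = Nat.card Y * Y.relIndex H := by
    rw [← Subgroup.relIndex_sup_right (K := Y) (H := H), ← Subgroup.relIndex_bot_left, ← Subgroup.relIndex_bot_left,
      Subgroup.relIndex_mul_relIndex _ _ _ bot_le le_sup_right]
  rw [h2, h1]; ring

/-- a best offender gives a best offender modulo `Y` on the fixed points of `Y` -/
theorem bo_boy [Finite G] [Finite D] {A : Subgroup G} (hA : BO D A) (Y : Subgroup G) [hY : Y.Normal] :
    BOY Y (DFix Y D) (A ⊔ Y) := by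
  refine ⟨le_sup_right, ?_, fun B hYB hB => ?_⟩
  · intro a ha b hb
    obtain ⟨a₁, ha₁, y₁, hy₁, rfl⟩ := Subgroup.mem_sup_of_normal_right.1 ha
    obtain ⟨b₁, hb₁, y₂, hy₂, rfl⟩ := Subgroup.mem_sup_of_normal_right.1 hb
    rw [← QuotientGroup.eq_one_iff]
    have e1 : ((y₁ : G) : G ⧸ Y) = 1 := (QuotientGroup.eq_one_iff _).2 hy₁
    have e2 : ((y₂ : G) : G ⧸ Y) = 1 := (QuotientGroup.eq_one_iff _).2 hy₂
    have e3 : ((a₁ : G) : G ⧸ Y) * (b₁ : G) = (b₁ : G) * (a₁ : G) := by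
      rw [← QuotientGroup.mk_mul, ← QuotientGroup.mk_mul, hA.1 a₁ ha₁ b₁ hb₁]
    simp only [QuotientGroup.mk_mul, QuotientGroup.mk_inv, e1, e2, mul_one]
    rw [e3]; group
  · -- `B = (A ⊓ B) ⊔ Y`
    have hBe : B = (A ⊓ B) ⊔ Y := by
      refine le_antisymm (fun b hb => ?_) (sup_le inf_le_right hYB)
      obtain ⟨a, ha, y, hy, rfl⟩ := Subgroup.mem_sup_of_normal_right.1 (hB hb)
      refine Subgroup.mem_sup_of_normal_right.2 ⟨a, ⟨ha, ?_⟩, y, hy, rfl⟩
      have := B.mul_mem hb (B.inv_mem (hYB hy))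
      simpa using this
    have hcard : ∀ C : Subgroup G, Nat.card (DFix (C ⊔ Y) ↥(DFix Y D)) = Nat.card ↥(DFix Y D ⊓ DFix C D) := by
      intro C
      refine Nat.card_congr
        { toFun := fun d => ⟨d.1.1, d.1.2, fun u hu => ?_⟩
          invFun := fun d => ⟨⟨d.1, d.2.1⟩, fun u hu => ?_⟩
          left_inv := fun d => rfl
          right_inv := fun d => rfl }
      · exact congrArg Subtype.val (d.2 u (Subgroup.mem_sup_left hu))
      · obtain ⟨c, hc, y, hy, rfl⟩ := Subgroup.mem_sup_of_normal_right.1 hu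
        apply Subtype.ext
        show (c * y) • d.1 = d.1
        rw [mul_smul, d.2.1 y hy, d.2.2 c hc]
    have e1 := card_sup_mul_inf (A ⊓ B) Y
    have e2 := card_sup_mul_inf A Y
    have e3 : A ⊓ B ⊓ Y = A ⊓ Y := by rw [inf_assoc, inf_eq_right.2 hYB]
    rw [e3, ← hBe] at e1
    have h3 := bo_inherit hA (DFix Y D) (B := A ⊓ B) inf_le_left
    have h4 : Nat.card (DFix B ↥(DFix Y D)) = Nat.card ↥(DFix Y D ⊓ DFix (A ⊓ B) D) := by
      conv_lhs => rw [hBe]
      exact hcard _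
    rw [h4, hcard A]
    have h5 : 0 < Nat.card ↥(A ⊓ Y) := Nat.card_pos
    refine Nat.le_of_mul_le_mul_right (c := Nat.card ↥(A ⊓ Y)) ?_ h5
    calc Nat.card B * Nat.card ↥(DFix Y D ⊓ DFix (A ⊓ B) D) * Nat.card ↥(A ⊓ Y)
        = (Nat.card B * Nat.card ↥(A ⊓ Y)) * Nat.card ↥(DFix Y D ⊓ DFix (A ⊓ B) D) := by ring
      _ = Nat.card Y * (Nat.card ↥(A ⊓ B) * Nat.card ↥(DFix Y D ⊓ DFix (A ⊓ B) D)) := by rw [e1]; ring
      _ ≤ Nat.card Y * (Nat.card A * Nat.card ↥(DFix Y D ⊓ DFix A D)) := by gcongr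
      _ = (Nat.card A * Nat.card Y) * Nat.card ↥(DFix Y D ⊓ DFix A D) := by ring
      _ = Nat.card ↥(A ⊔ Y) * Nat.card ↥(DFix Y D ⊓ DFix A D) * Nat.card ↥(A ⊓ Y) := by rw [← e2]; ring

/-- restriction of a best offender to a subgroup `N` -/
theorem bo_subgroupOf {A : Subgroup G} (hA : BO D A) {N : Subgroup G} (hAN : A ≤ N) : BO D (A.subgroupOf N) := by
  have hfix : ∀ B : Subgroup N, Nat.card (DFix B D) = Nat.card (DFix (B.map N.subtype) D) := by
    intro B
    refine Nat.card_congr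
      { toFun := fun d => ⟨d.1, ?_⟩
        invFun := fun d => ⟨d.1, ?_⟩
        left_inv := fun d => rfl
        right_inv := fun d => rfl }
    · rintro u ⟨b, hb, rfl⟩
      exact d.2 b hb
    · intro u hu
      exact d.2 (u : G) (Subgroup.mem_map_of_mem N.subtype hu)
  have hcard : ∀ B : Subgroup N, Nat.card B = Nat.card (B.map N.subtype) := fun B =>
    Nat.card_congr (B.equivMapOfInjective _ N.subtype_injective).toEquiv
  have hmap : (A.subgroupOf N).map N.subtype = A := by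
    rw [Subgroup.subgroupOf_map_subtype, inf_eq_left.2 hAN]
  refine ⟨fun a ha b hb => Subtype.ext (hA.1 a ha b hb), fun B hB => ?_⟩
  have h1 : B.map N.subtype ≤ A := by
    have := Subgroup.map_mono (f := N.subtype) hB
    rwa [hmap] at this
  have h2 := hA.2 _ h1
  rw [hcard B, hfix B, hcard (A.subgroupOf N), hfix (A.subgroupOf N), hmap]
  exact h2

end

end Cfsg.Agent.H291.Lim
end

-- part: H296/Lim/GoodBO
section
/-!
# S5242, D2: Timmesfeld replacement for best offenders, `p` odd (helper296, task 5206)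

`exists_good_of_BO` : a nontrivial best offender `A` on a finite abelian `p`-group `D` contains a nontrivial best
offender `B` with `[D, B, B] = 0` (so `NGood`) and `|B| |D^B| = |A| |D^A|`.
-/

set_option autoImplicit false
set_option linter.unusedSectionVars false

namespace Cfsg.Agent.H296.Lim

open Cfsg.Agent.H539.Lim Cfsg.Agent.H215.Timm

variable {G : Type*} [Group G] {D : Type*} [AddCommGroup D] [DistribMulAction G D]

/-- the measure `|C_A(L)| |L|` -/
noncomputable def ms (A : Subgroup G) (L : AddSubgroup D) : ℕ := Nat.card (kr A L) * Nat.card L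

theorem kr_anti {A : Subgroup G} {L L' : AddSubgroup D} (h : L ≤ L') : kr A L' ≤ kr A L :=
  fun _ hx => ⟨hx.1, fun v hv => hx.2 v (h hv)⟩

theorem kr_sup {A : Subgroup G} (L L' : AddSubgroup D) : kr A L ⊓ kr A L' = kr A (L ⊔ L') := by
  apply le_antisymm
  · rintro x ⟨h1, h2⟩
    refine ⟨h1.1, fun v hv => ?_⟩
    obtain ⟨a, ha, b, hb, rfl⟩ := AddSubgroup.mem_sup.1 hv
    rw [smul_add, h1.2 a ha, h2.2 b hb]
  · exact le_inf (kr_anti le_sup_left) (kr_anti le_sup_right)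

theorem mem_DFix {A : Subgroup G} {v : D} : v ∈ DFix A D ↔ ∀ a ∈ A, a • v = v := Iff.rfl

/-- `[v, A]` -/
def cm (A : Subgroup G) (v : D) : AddSubgroup D := AddSubgroup.closure {w | ∃ b ∈ A, w = b • v - v}

theorem mem_cm {A : Subgroup G} {v : D} {b : G} (hb : b ∈ A) : b • v - v ∈ cm A v :=
  AddSubgroup.subset_closure ⟨b, hb, rfl⟩

variable [Finite G] [Finite D]

theorem ms_super (A : Subgroup G) (L L' : AddSubgroup D) : ms A L * ms A L' ≤ ms A (L ⊔ L') * ms A (L ⊓ L') := by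
  have h1 := PLocal.Timmesfeld.card_mul_card_le (B₁ := kr A L) (B₂ := kr A L') (B₃ := kr A (L ⊓ L'))
    (kr_anti inf_le_left) (kr_anti inf_le_right)
  rw [kr_sup] at h1
  have h2 := H263.FF.Basic.card_sup_inf L L'
  unfold ms
  calc _ = (Nat.card (kr A L) * Nat.card (kr A L')) * (Nat.card L * Nat.card L') := by ring
    _ ≤ (Nat.card (kr A (L ⊔ L')) * Nat.card (kr A (L ⊓ L'))) * (Nat.card L * Nat.card L') := Nat.mul_le_mul_right _ h1
    _ = _ := by rw [← h2]; ring

theorem ms_le {A : Subgroup G} (hAB : BO D A) (L : AddSubgroup D) : ms A L ≤ Nat.card A * Nat.card (DFix A D) := by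
  refine le_trans (Nat.mul_le_mul_left _ ?_) (hAB.2 (kr A L) kr_le)
  exact H263.FF.Basic.card_le fun v hv u hu => hu.2 v hv

theorem le_ms_cm {A : Subgroup G} (hA : IsAb A) (v : D) :
    Nat.card A * Nat.card (DFix A D) ≤ ms A (cm A v ⊔ DFix A D) := by
  refine H263.FF.Basic.card_fib (A := A) (S := kr A (cm A v ⊔ DFix A D)) (C := DFix A D)
    (W := cm A v ⊔ DFix A D) le_sup_right (fun b => b • v - v) (fun b hb => le_sup_left (a := cm A v) (mem_cm hb)) ?_
  intro a ha b hb hab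
  have hx : b⁻¹ * a ∈ A := mul_mem (inv_mem hb) ha
  have h1 : (b⁻¹ * a) • v - v ∈ DFix A D := by
    intro d hd
    have e : (b⁻¹ * a) • v - v = b⁻¹ • ((a • v - v) - (b • v - v)) := by
      rw [sub_sub_sub_cancel_right, smul_sub, inv_smul_smul, mul_smul]
    rw [e, hab _ (inv_mem hb), hab d hd]
  rw [← kr_sup]
  refine ⟨⟨hx, fun w hw => ?_⟩, hx, fun w hw => hw _ hx⟩
  have h2 : cm A v ≤ AddSubgroup.comap (DistribSMul.toAddMonoidHom D (b⁻¹ * a) - AddMonoidHom.id D) ⊥ := by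
    unfold cm
    rw [AddSubgroup.closure_le]
    rintro _ ⟨c, hc, rfl⟩
    change (b⁻¹ * a) • (c • v - v) - (c • v - v) = 0
    have h3 := h1 c hc
    have e1 : (b⁻¹ * a) • (c • v - v) = c • ((b⁻¹ * a) • v - v) + (c • v - v) - ((b⁻¹ * a) • v - v) := by
      rw [smul_sub, smul_sub, smul_smul, smul_smul, hA _ hx c hc]
      abel
    rw [e1, h3]
    abel
  have h3 : (b⁻¹ * a) • w - w = 0 := h2 hw
  exact sub_eq_zero.1 h3

/-- fixed points modulo an invariant subgroup -/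
theorem exists_fixed' {p : ℕ} [hp : Fact p.Prime] {T : Subgroup G} (hT : IsPGroup p T)
    {K : AddSubgroup D} (hK : ∀ t ∈ T, ∀ v ∈ K, t • v ∈ K) (hw : ∃ w, w ∉ K ∧ p • w ∈ K) :
    ∃ v, v ∉ K ∧ ∀ t ∈ T, t • v - v ∈ K := by
  classical
  have key : ∀ (t : T) (v : D), H263.FF.Basic.qact K (t : G) (hK t t.2) (QuotientAddGroup.mk v) =
      QuotientAddGroup.mk ((t : G) • v) := fun t v => rfl
  let act : MulAction T (D ⧸ K) :=
    { smul := fun t q => H263.FF.Basic.qact K (t : G) (hK t t.2) q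
      one_smul := by
        intro q
        induction q using QuotientAddGroup.induction_on with
        | H v =>
          change H263.FF.Basic.qact K ((1 : T) : G) (hK (1 : T) (1 : T).2) (QuotientAddGroup.mk v) = QuotientAddGroup.mk v
          rw [key]; simp
      mul_smul := by
        intro s t q
        induction q using QuotientAddGroup.induction_on with
        | H v =>
          change H263.FF.Basic.qact K ((s * t : T) : G) (hK (s * t : T) (s * t : T).2) (QuotientAddGroup.mk v) =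
            H263.FF.Basic.qact K (s : G) (hK s s.2) (H263.FF.Basic.qact K (t : G) (hK t t.2) (QuotientAddGroup.mk v))
          rw [key, key, key]; simp [mul_smul] }
  have hcard : p ∣ Nat.card (D ⧸ K) := by
    obtain ⟨w, hwK, hpw⟩ := hw
    have ho : addOrderOf (QuotientAddGroup.mk w : D ⧸ K) = p := by
      apply addOrderOf_eq_prime
      · rw [← QuotientAddGroup.mk_nsmul]
        exact (QuotientAddGroup.eq_zero_iff _).2 hpw
      · intro h
        exact hwK ((QuotientAddGroup.eq_zero_iff w).1 h)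
    rw [← ho]
    exact addOrderOf_dvd_natCard _
  have h0 : (0 : D ⧸ K) ∈ MulAction.fixedPoints T (D ⧸ K) := fun t => map_zero (H263.FF.Basic.qact K (t : G) (hK t t.2))
  obtain ⟨q, hq, hq0⟩ := hT.exists_fixed_point_of_prime_dvd_card_of_fixed_point (D ⧸ K) hcard h0
  induction q using QuotientAddGroup.induction_on with
  | H v =>
    refine ⟨v, fun hv => hq0 ((QuotientAddGroup.eq_zero_iff v).2 hv).symm, fun t ht => ?_⟩
    have h1 : (QuotientAddGroup.mk (t • v) : D ⧸ K) = QuotientAddGroup.mk v := hq ⟨t, ht⟩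
    rw [eq_comm, QuotientAddGroup.eq] at h1
    rwa [sub_eq_neg_add]

/-- a `p`-group acting nontrivially: an invariant proper subgroup containing `D^A` and `[D, A]` -/
theorem exists_proper' {p : ℕ} [hp : Fact p.Prime] (hD : IsPTors p D) {A : Subgroup G} (hA : IsPGroup p A)
    (hne : DFix A D ≠ ⊤) : ∃ K : AddSubgroup D, DFix A D ≤ K ∧ K ≠ ⊤ ∧ ∀ b ∈ A, ∀ v : D, b • v - v ∈ K := by
  obtain ⟨K, ⟨hK1, hK2, hK3⟩, hmax⟩ := (Set.toFinite {K : AddSubgroup D | DFix A D ≤ K ∧ K ≠ ⊤ ∧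
    ∀ b ∈ A, ∀ v ∈ K, b • v ∈ K}).exists_maximal
    ⟨DFix A D, le_rfl, hne, fun b hb v hv => by rw [hv b hb]; exact hv⟩
  refine ⟨K, hK1, hK2, ?_⟩
  have hw : ∃ w, w ∉ K ∧ p • w ∈ K := by
    obtain ⟨v, hv⟩ : ∃ v, v ∉ K := by
      by_contra hcon
      push Not at hcon
      exact hK2 (eq_top_iff.2 fun v _ => hcon v)
    obtain ⟨k, hk⟩ := hD v
    by_contra hcon
    push Not at hcon
    have h1 : ∀ j : ℕ, (p ^ j : ℕ) • v ∉ K := by
      intro j
      induction j with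
      | zero => rw [pow_zero, one_smul]; exact hv
      | succ j ih =>
        rw [pow_succ', mul_smul]
        exact hcon _ ih
    exact h1 k (by rw [hk]; exact K.zero_mem)
  obtain ⟨v₁, hv₁K, hv₁'⟩ := exists_fixed' hA hK3 hw
  let E : AddSubgroup D :=
    { carrier := {v | ∀ b ∈ A, b • v - v ∈ K}
      zero_mem' := fun t ht => by rw [smul_zero, sub_zero]; exact zero_mem _
      add_mem' := fun {a b} ha hb t ht => by
        have := K.add_mem (ha t ht) (hb t ht)
        rw [smul_add]; convert this using 1; abel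
      neg_mem' := fun {a} ha t ht => by
        have := K.neg_mem (ha t ht)
        rw [smul_neg]; convert this using 1; abel }
  have hKE : K ≤ E := fun v hv b hb => K.sub_mem (hK3 b hb v hv) hv
  have hE : E = ⊤ := by
    by_contra hne'
    have h1 : E ∈ {K : AddSubgroup D | DFix A D ≤ K ∧ K ≠ ⊤ ∧ ∀ b ∈ A, ∀ v ∈ K, b • v ∈ K} := by
      refine ⟨hK1.trans hKE, hne', fun b hb v hv => ?_⟩
      have h2 := hv b hb
      have h3 : b • v = (b • v - v) + v := by abel
      rw [h3]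
      exact E.add_mem (hKE h2) hv
    exact hv₁K (hmax h1 hKE hv₁')
  intro b hb v
  have h1 : v ∈ E := by rw [hE]; trivial
  exact h1 b hb

/-- **Timmesfeld replacement**, `p` odd. -/
theorem exists_good_of_BO {p : ℕ} [hp : Fact p.Prime] (hp2 : p ≠ 2) (hD : IsPTors p D)
    {A : Subgroup G} (hA : IsPGroup p A) (hAB : BO D A) (h1 : A ≠ ⊥) :
    ∃ B : Subgroup G, B ≤ A ∧ B ≠ ⊥ ∧ BO D B ∧ NGood p D B ∧
      Nat.card B * Nat.card (DFix B D) = Nat.card A * Nat.card (DFix A D) := by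
  classical
  have : Fintype D := Fintype.ofFinite D
  set m := Nat.card A * Nat.card (DFix A D) with hm
  have hm0 : 0 < m := Nat.mul_pos Nat.card_pos Nat.card_pos
  set RR : AddSubgroup D := Finset.univ.sup (cm A) with hRR
  have hmem : ∀ b ∈ A, ∀ v : D, b • v - v ∈ RR := fun b hb v =>
    Finset.le_sup (f := cm A) (Finset.mem_univ v) (mem_cm hb)
  have hmain : m ≤ ms A (RR ⊔ DFix A D) := by
    rw [hRR]
    refine Finset.sup_induction (p := fun L => m ≤ ms A (L ⊔ DFix A D)) ?_ ?_ ?_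
    · rw [bot_sup_eq]
      refine Nat.mul_le_mul_right _ (Subgroup.card_le_of_le fun a ha => ⟨ha, fun v hv => hv a ha⟩)
    · intro L hL L' hL'
      have h3 := ms_super A (L ⊔ DFix A D) (L' ⊔ DFix A D)
      have h4 : (L ⊔ DFix A D) ⊔ (L' ⊔ DFix A D) = L ⊔ L' ⊔ DFix A D := (sup_sup_distrib_right L L' _).symm
      rw [h4] at h3
      have h5 := ms_le hAB ((L ⊔ DFix A D) ⊓ (L' ⊔ DFix A D))
      have h6 : m * m ≤ ms A (L ⊔ L' ⊔ DFix A D) * m :=
        (Nat.mul_le_mul hL hL').trans (h3.trans (Nat.mul_le_mul_left _ h5))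
      exact Nat.le_of_mul_le_mul_right h6 hm0
    · intro v _
      exact le_ms_cm hAB.1 v
  set B := kr A (RR ⊔ DFix A D) with hB
  have hBA : B ≤ A := kr_le
  have hle : RR ⊔ DFix A D ≤ DFix B D := fun v hv u hu => hu.2 v hv
  have hcard1 : m ≤ Nat.card B * Nat.card (RR ⊔ DFix A D : AddSubgroup D) := hmain
  have hcard2 := hAB.2 B hBA
  have hcard3 : Nat.card (RR ⊔ DFix A D : AddSubgroup D) = Nat.card (DFix B D) := by
    refine le_antisymm (H263.FF.Basic.card_le hle) ?_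
    exact Nat.le_of_mul_le_mul_left (hcard2.trans hcard1) Nat.card_pos
  have hfix : RR ⊔ DFix A D = DFix B D := H263.FF.Basic.eq_of_card_le hle hcard3.ge
  have hBm : Nat.card B * Nat.card (DFix B D) = m := le_antisymm hcard2 (by rw [← hcard3]; exact hcard1)
  refine ⟨B, hBA, ?_, ⟨fun a ha b hb => hAB.1 a (hBA ha) b (hBA hb), fun B' hB' => ?_⟩, ?_, hBm⟩
  · intro hbot
    by_cases htr : DFix A D = ⊤
    · apply h1
      rw [eq_bot_iff, ← hbot]
      intro a ha
      refine ⟨ha, fun v _ => ?_⟩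
      have : v ∈ DFix A D := by rw [htr]; trivial
      exact this a ha
    · obtain ⟨K, hK1, hK2, hK3⟩ := exists_proper' hD hA htr
      apply hK2
      have h2 : RR ≤ K := Finset.sup_le fun v _ => (AddSubgroup.closure_le _).2 (by
        rintro _ ⟨b, hb, rfl⟩
        exact hK3 b hb v)
      rw [eq_top_iff]
      intro v _
      have h3 : v ∈ DFix B D := by
        intro u hu
        rw [hbot, Subgroup.mem_bot] at hu
        rw [hu, one_smul]
      rw [← hfix] at h3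
      exact (sup_le h2 hK1) h3
  · rw [hBm]
    exact hAB.2 B' (hB'.trans hBA)
  · intro M hMB hMp z hz hpz a ha haM
    set δ := a • z - z with hδ
    have haδ : a • δ = δ := ha.2 δ (le_sup_left (a := RR) (hmem a (hBA ha) z))
    have hpow : ∀ i : ℕ, a ^ i • z = z + i • δ := by
      intro i
      induction i with
      | zero => rw [pow_zero, one_smul, zero_smul, add_zero]
      | succ i ih =>
        rw [pow_succ', mul_smul, ih, smul_add, smul_comm a i δ, haδ, succ_nsmul, ← add_assoc]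
        have : a • z = z + δ := by rw [hδ]; abel
        rw [this]
        abel
    have hpδ : p • δ = 0 := by
      rw [hδ, smul_sub, smul_comm p a z, hpz a ha, sub_self]
    have hodd : p % 2 = 1 := hp.out.eq_two_or_odd.resolve_left hp2
    rw [Finset.sum_congr rfl fun i _ => hpow i, Finset.sum_add_distrib, Finset.sum_const, Finset.card_range,
      ← Finset.sum_smul, Finset.sum_range_id]
    have h5 : p * (p - 1) / 2 = ((p - 1) / 2) * p := by
      obtain ⟨k, hk⟩ : ∃ k, p = 2 * k + 1 := ⟨p / 2, by omega⟩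
      have h6 : p - 1 = 2 * k := by omega
      rw [h6, Nat.mul_div_cancel_left _ (by norm_num), show p * (2 * k) = 2 * (k * p) by ring,
        Nat.mul_div_cancel_left _ (by norm_num)]
    rw [h5, mul_smul, hpδ, smul_zero, add_zero]

end Cfsg.Agent.H296.Lim
end

-- part: H539/Lim/Star
section
/-!
# D3: the local theorem (helper539, for S5242; offender lemmas by helper291)
-/

set_option autoImplicit false

namespace Cfsg.Agent.H539.Lim

open MulAction Cfsg.Agent.H291.Lim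

universe u v w

/-! ### the quotient by a normal subgroup acting trivially -/

section Quot

variable {H : Type u} [Group H] (Y : Subgroup H) [Y.Normal] {Ω : Type v} [MulAction H Ω] {D : Type w}
  [AddCommGroup D] [DistribMulAction H D]

/-- the action of `H / Y` on `Ω` -/
@[instance_reducible] def qAct (hY : ∀ x : Ω, Y ≤ stabilizer H x) : MulAction (H ⧸ Y) Ω :=
  MulAction.compHom Ω (QuotientGroup.lift Y (MulAction.toPermHom H Ω) (by
    intro u hu
    ext x
    exact hY x hu))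

/-- the action of `H / Y` on `D` -/
@[instance_reducible] def qActD (hY : ∀ u ∈ Y, ∀ d : D, u • d = d) : DistribMulAction (H ⧸ Y) D where
  smul q d := QuotientGroup.lift Y (MulAction.toPermHom H D) (by
    intro u hu
    ext x
    exact hY u hu x) q d
  one_smul d := by
    change QuotientGroup.lift Y (MulAction.toPermHom H D) _ 1 d = d
    rw [map_one]; rfl
  mul_smul a b d := by
    change QuotientGroup.lift Y (MulAction.toPermHom H D) _ (a * b) d =
      QuotientGroup.lift Y (MulAction.toPermHom H D) _ a (QuotientGroup.lift Y (MulAction.toPermHom H D) _ b d)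
    rw [map_mul]; rfl
  smul_zero q := by
    obtain ⟨g, rfl⟩ := QuotientGroup.mk'_surjective Y q
    exact smul_zero g
  smul_add q a b := by
    obtain ⟨g, rfl⟩ := QuotientGroup.mk'_surjective Y q
    exact smul_add g a b

theorem card_comap_mk [Finite H] (B : Subgroup (H ⧸ Y)) :
    Nat.card (B.comap (QuotientGroup.mk' Y)) = Nat.card Y * Nat.card B := by
  have h1 := Subgroup.card_mul_index (B.comap (QuotientGroup.mk' Y))
  have h2 := Subgroup.card_mul_index B
  have h3 := Subgroup.index_comap_of_surjective B (QuotientGroup.mk'_surjective Y)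
  have h4 := Subgroup.card_eq_card_quotient_mul_card_subgroup Y
  have h5 : B.index ≠ 0 := Subgroup.index_ne_zero_of_finite
  rw [h3] at h1
  apply Nat.eq_of_mul_eq_mul_right (Nat.pos_of_ne_zero h5)
  rw [h1, h4, ← h2]; ring

end Quot

theorem starY_quot {p : ℕ} [Fact p.Prime] {H : Type u} [Group H] [Finite H] (Y : Subgroup H) [Y.Normal]
    {Ω : Type v} [MulAction H Ω] [Finite Ω] {D : Type w} [AddCommGroup D] [DistribMulAction H D] [Finite D]
    (hΩ : PSet p H Ω) (hD : IsPTors p D)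
    (hY : ∀ x : Ω, Y ≤ stabilizer H x) (hYD : ∀ u ∈ Y, ∀ d : D, u • d = d)
    (n : ℕ)
    (hstar : ∀ (_ : MulAction (H ⧸ Y) Ω) (_ : DistribMulAction (H ⧸ Y) D), PSet p (H ⧸ Y) Ω →
      ∀ R : Set (Subgroup (H ⧸ Y)), IsInv R → ⊥ ∈ R → IsLowerSet R →
        (∀ P : Subgroup (H ⧸ Y), IsPGroup p P → JD D P ∈ R → P ∈ R) → Van (H ⧸ Y) Ω D R (n + 2))
    (R : Set (Subgroup H)) (hRi : IsInv R) (hYR : Y ∈ R)
    (hlow : ∀ P ∈ R, ∀ Q : Subgroup H, Y ≤ Q → Q ≤ P → Q ∈ R)
    (hJ : ∀ P : Subgroup H, IsPGroup p P → Y ≤ P → JDY Y D P ∈ R → P ∈ R) : Van H Ω D R (n + 2) := by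
  classical
  rcases isEmpty_or_nonempty Ω with he | ⟨⟨x₀⟩⟩
  · exact Cfsg.Agent.H309.Lim.van_of_isEmpty _
  have hYp : IsPGroup p Y := (hΩ.pgroup x₀).to_le (hY x₀)
  letI i1 : MulAction (H ⧸ Y) Ω := qAct Y hY
  letI i2 : DistribMulAction (H ⧸ Y) D := qActD Y hYD
  have a1 : ∀ (g : H) (x : Ω), g • x = (QuotientGroup.mk' Y g) • x := fun g x => rfl
  have a2 : ∀ (g : H) (d : D), g • d = (QuotientGroup.mk' Y g) • d := fun g d => rfl
  have hst1 : ∀ x : Ω, (stabilizer (H ⧸ Y) x).comap (QuotientGroup.mk' Y) = stabilizer H x := by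
    intro x; ext g
    simp only [Subgroup.mem_comap, mem_stabilizer_iff, a1]
  have hst : ∀ (k : ℕ) (x : Fin k → Ω), (st (H ⧸ Y) x).comap (QuotientGroup.mk' Y) = st H x := by
    intro k x; ext g
    simp only [Subgroup.mem_comap, mem_stabilizer_iff]
    rfl
  have hsurj := QuotientGroup.mk'_surjective Y
  have hker : (QuotientGroup.mk' Y).ker = Y := QuotientGroup.ker_mk' Y
  have hΩ' : PSet p (H ⧸ Y) Ω := by
    refine ⟨fun x => ?_, fun P hP => ?_⟩
    · have h1 : stabilizer (H ⧸ Y) x = (stabilizer H x).map (QuotientGroup.mk' Y) := by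
        rw [← hst1, Subgroup.map_comap_eq_self_of_surjective hsurj]
      rw [h1]
      exact (hΩ.pgroup x).map _
    · have h1 : IsPGroup p (P.comap (QuotientGroup.mk' Y)) :=
        hP.comap_of_ker_isPGroup _ (by rw [hker]; exact hYp)
      obtain ⟨x, hx⟩ := hΩ.exists_fix _ h1
      refine ⟨x, ?_⟩
      rw [← hst1] at hx
      exact (Subgroup.comap_le_comap_of_surjective hsurj).mp hx
  set R' : Set (Subgroup (H ⧸ Y)) := {P | P.comap (QuotientGroup.mk' Y) ∈ R} with hR'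
  have key := hstar i1 i2 hΩ' R' ?_ ?_ ?_ ?_
  · exact van_of_surj (QuotientGroup.mk' Y) hsurj a1 a2 (V' := R')
      (fun k x => by rw [hR', Set.mem_setOf_eq, hst]) key
  · intro g P hP
    obtain ⟨g', rfl⟩ := hsurj g
    have h1 : (cj (QuotientGroup.mk' Y g') P).comap (QuotientGroup.mk' Y) =
        cj g' (P.comap (QuotientGroup.mk' Y)) := by
      ext x
      rw [Subgroup.mem_comap, H291.Lim.mem_cj, H291.Lim.mem_cj, Subgroup.mem_comap]
      simp only [map_mul, map_inv]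
    rw [hR', Set.mem_setOf_eq, h1]
    exact hRi g' _ hP
  · rw [hR', Set.mem_setOf_eq, MonoidHom.comap_bot, hker]
    exact hYR
  · intro P Q hQP hP
    refine hlow _ hP _ ?_ (Subgroup.comap_mono hQP)
    exact le_of_eq_of_le hker.symm (MonoidHom.ker_le_comap _ _)
  · intro P hP hPR
    have hYP : Y ≤ P.comap (QuotientGroup.mk' Y) := le_of_eq_of_le hker.symm (MonoidHom.ker_le_comap _ _)
    refine hJ _ (hP.comap_of_ker_isPGroup _ (by rw [hker]; exact hYp)) hYP ?_
    refine hlow _ hPR _ ?_ ?_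
    · refine le_sSup ⟨hYP, le_rfl, ?_, ?_⟩
      · intro a ha b hb
        exact Y.mul_mem (Y.mul_mem (Y.mul_mem ha hb) (Y.inv_mem ha)) (Y.inv_mem hb)
      · intro B h1 h2
        rw [le_antisymm h2 h1]
    · refine sSup_le ?_
      rintro A ⟨hAP, hYA, hAab, hAB⟩
      have hAc : (A.map (QuotientGroup.mk' Y)).comap (QuotientGroup.mk' Y) = A := by
        rw [Subgroup.comap_map_eq, hker, sup_eq_left.mpr hYA]
      have hBO : BO D (A.map (QuotientGroup.mk' Y)) := by
        refine ⟨?_, ?_⟩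
        · rintro _ ⟨a, ha, rfl⟩ _ ⟨b, hb, rfl⟩
          have h1 := hAab a ha b hb
          rw [← hker, MonoidHom.mem_ker] at h1
          simp only [map_mul, map_inv] at h1
          have h2 := mul_eq_one_iff_eq_inv.mp h1
          rw [inv_inv] at h2
          have h3 := mul_inv_eq_iff_eq_mul.mp h2
          exact h3
        · intro B hB
          have hB1 : Y ≤ B.comap (QuotientGroup.mk' Y) := le_of_eq_of_le hker.symm (MonoidHom.ker_le_comap _ _)
          have hB2 : B.comap (QuotientGroup.mk' Y) ≤ A := by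
            rw [← hAc]; exact Subgroup.comap_mono hB
          have h1 := hAB _ hB1 hB2
          have e1 : ∀ C : Subgroup (H ⧸ Y), Nat.card (DFix (C.comap (QuotientGroup.mk' Y)) D) =
              Nat.card (DFix C D) := by
            intro C
            refine Nat.card_congr
              { toFun := fun d => ⟨d.1, fun u hu => ?_⟩
                invFun := fun d => ⟨d.1, fun u hu => ?_⟩
                left_inv := fun d => rfl
                right_inv := fun d => rfl }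
            · obtain ⟨g, rfl⟩ := hsurj u
              exact d.2 g hu
            · exact d.2 (QuotientGroup.mk' Y u) hu
          have e2 : Nat.card A = Nat.card Y * Nat.card (A.map (QuotientGroup.mk' Y)) := by
            rw [← card_comap_mk, hAc]
          have e3 : Nat.card (DFix A D) = Nat.card (DFix (A.map (QuotientGroup.mk' Y)) D) := by
            rw [← e1, hAc]
          rw [e1, card_comap_mk, e2, e3] at h1
          have h2 : 0 < Nat.card Y := Nat.card_pos
          refine Nat.le_of_mul_le_mul_left (c := Nat.card Y) ?_ h2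
          calc _ = Nat.card Y * Nat.card B * Nat.card (DFix B D) := by ring
            _ ≤ _ := h1
            _ = _ := by ring
      have h2 : A.map (QuotientGroup.mk' Y) ≤ P := Subgroup.map_le_iff_le_comap.mpr hAP
      rw [← hAc]
      exact Subgroup.comap_mono (le_JD hBO h2)

/-! ### the pieces -/

/-- the set `{P ∈ R | |J(P)| = i}` -/
theorem piece {p : ℕ} [Fact p.Prime] {G : Type u} [Group G] [Finite G] {Ω : Type v} [MulAction G Ω] [Finite Ω]
    {D : Type w} [AddCommGroup D] [DistribMulAction G D] [Finite D] (hΩ : PSet p G Ω) (hD : IsPTors p D) (n : ℕ)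
    (IH : ∀ (H : Type u) [Group H] [Finite H] (Ω' : Type v) [MulAction H Ω'] [Finite Ω'] (D' : Type w)
      [AddCommGroup D'] [DistribMulAction H D'] [Finite D'], Nat.card H < Nat.card G → PSet p H Ω' →
      IsPTors p D' → ∀ R : Set (Subgroup H), IsInv R → ⊥ ∈ R → IsLowerSet R →
        (∀ P : Subgroup H, IsPGroup p P → JD D' P ∈ R → P ∈ R) → Van H Ω' D' R (n + 2))
    (R : Set (Subgroup G)) (hRi : IsInv R) (hlow : IsLowerSet R)
    (hJ : ∀ P : Subgroup G, IsPGroup p P → JD D P ∈ R → P ∈ R) (i : ℕ) (hi : i ≠ 1) :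
    Van G Ω D {P | P ∈ R ∧ Nat.card (JD D P) = i} (n + 2) := by
  classical
  set V : Set (Subgroup G) := {P | P ∈ R ∧ Nat.card (JD D P) = i} with hV
  have hVi : IsInv V := by
    rintro g P ⟨h1, h2⟩
    exact ⟨hRi g P h1, by rw [JD_cj, H291.Lim.card_cj]; exact h2⟩
  refine Cfsg.Agent.H95.Lim.van_of_local hΩ hVi (JD D) (fun P _ => JD_le P) (fun g P _ => JD_cj g P) ?_ (n + 2) ?_
  · rintro P ⟨hP, hPi⟩ Q ⟨hQ, hQi⟩ hPQ
    exact Subgroup.eq_of_le_of_card_ge (JD_mono hPQ) (by rw [hPi, hQi])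
  rintro P ⟨hPR, hPi⟩
  set J₀ : Subgroup G := JD D P with hJ₀
  have hJJ : JD D J₀ = J₀ := JD_JD P
  have hJR : J₀ ∈ R := hlow (JD_le P) hPR
  by_cases hJp : IsPGroup p J₀
  swap
  · have : IsEmpty (FixPt J₀ Ω) := ⟨fun y => hJp ((hΩ.pgroup y.1).to_le y.2)⟩
    exact Cfsg.Agent.H309.Lim.van_of_isEmpty _
  have hΩ' := Cfsg.Agent.H95.Lim.pset_fixPt hΩ J₀ hJp
  set Y : Subgroup (Nz J₀) := J₀.subgroupOf (Nz J₀) with hYdef
  have hJN : J₀ ≤ Nz J₀ := Subgroup.le_normalizer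
  haveI hYn : Y.Normal := Subgroup.normal_in_normalizer
  have hYmap : Y.map (Nz J₀).subtype = J₀ := by
    rw [hYdef, Subgroup.subgroupOf_map_subtype, inf_eq_left.2 hJN]
  have hYfix : ∀ x : FixPt J₀ Ω, Y ≤ stabilizer (Nz J₀) x := by
    intro x u hu
    rw [mem_stabilizer_iff]
    apply Subtype.ext
    rw [FixPt.coe_smul]
    exact x.2 hu
  refine van_fix Y hYfix ?_
  refine starY_quot Y hΩ' ?_ hYfix (fun u hu (d : DFix Y D) => Subtype.ext (d.2 u hu)) n ?_ _ ?_ ?_ ?_ ?_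
  · intro d
    obtain ⟨k, hk⟩ := hD d.1
    exact ⟨k, Subtype.ext (by simpa using hk)⟩
  · intro j1 j2 hPS R' r1 r2 r3 r4
    refine IH (Nz J₀ ⧸ Y) (FixPt J₀ Ω) (DFix Y D) ?_ hPS ?_ R' r1 r2 r3 r4
    · have h1 := Subgroup.card_eq_card_quotient_mul_card_subgroup Y
      have h2 : Nat.card (Nz J₀) ≤ Nat.card G := Subgroup.card_le_card_group _
      have h3 : Nat.card Y = i := by
        rw [← hPi, ← Subgroup.card_subtype, hYmap]
      have h4 : 0 < Nat.card Y := Nat.card_pos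
      have h5 : 2 ≤ Nat.card Y := by omega
      have h6 : 0 < Nat.card (Nz J₀ ⧸ Y) := Nat.card_pos
      nlinarith
    · intro d
      obtain ⟨k, hk⟩ := hD d.1
      exact ⟨k, Subtype.ext (by simpa using hk)⟩
  · -- invariance
    rintro g Q ⟨hQ1, hQ2⟩
    have e1 : (cj g Q).map (Nz J₀).subtype = cj (g : G) (Q.map (Nz J₀).subtype) := by
      ext x
      constructor
      · rintro ⟨_, ⟨y, hy, rfl⟩, rfl⟩
        exact ⟨y, ⟨y, hy, rfl⟩, by simp⟩
      · rintro ⟨_, ⟨y, hy, rfl⟩, rfl⟩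
        exact ⟨_, ⟨y, hy, rfl⟩, by simp⟩
    rw [Set.mem_setOf_eq, e1]
    refine ⟨hVi _ _ hQ1, ?_⟩
    rw [JD_cj, hQ2]
    ext x
    rw [H291.Lim.mem_cj]
    have := Subgroup.mem_normalizer_iff.mp (Subgroup.inv_mem _ g.2) x
    rw [inv_inv] at this
    exact this.symm
  · rw [Set.mem_setOf_eq, hYmap]
    exact ⟨⟨hJR, by rw [hJJ]; exact hPi⟩, hJJ⟩
  · rintro Q ⟨⟨hQ1, hQi⟩, hQ2⟩ Q' hYQ' hQ'Q
    have h1 : Q'.map (Nz J₀).subtype ≤ Q.map (Nz J₀).subtype := Subgroup.map_mono hQ'Q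
    have h2 : J₀ ≤ Q'.map (Nz J₀).subtype := hYmap.symm.le.trans (Subgroup.map_mono hYQ')
    have h3 : JD D (Q'.map (Nz J₀).subtype) = J₀ :=
      le_antisymm ((JD_mono h1).trans hQ2.le) (hJJ.symm.le.trans (JD_mono h2))
    exact ⟨⟨hlow h1 hQ1, by rw [h3]; exact hPi⟩, h3⟩
  · rintro Q hQp hYQ ⟨-, hQ2⟩
    have hQmp : IsPGroup p (Q.map (Nz J₀).subtype) := hQp.map _
    have h2 : J₀ ≤ Q.map (Nz J₀).subtype := hYmap.symm.le.trans (Subgroup.map_mono hYQ)
    have h3 : JD D (Q.map (Nz J₀).subtype) = J₀ := by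
      apply le_antisymm
      · refine sSup_le ?_
        rintro A ⟨hAQ, hAB⟩
        have hAN : A ≤ Nz J₀ := hAQ.trans (by
          rintro _ ⟨y, -, rfl⟩; exact y.2)
        have hA1 : BO D (A.subgroupOf (Nz J₀)) := bo_subgroupOf hAB hAN
        have hA2 := bo_boy hA1 Y
        have hA3 : A.subgroupOf (Nz J₀) ≤ Q := by
          intro x hx
          obtain ⟨y, hy, hyx⟩ := hAQ hx
          have : y = x := Subtype.ext hyx
          rw [← this]; exact hy
        have hA4 : A.subgroupOf (Nz J₀) ⊔ Y ≤ JDY Y (DFix Y D) Q := le_sSup ⟨sup_le hA3 hYQ, hA2⟩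
        have hA5 : A ≤ (JDY Y (DFix Y D) Q).map (Nz J₀).subtype := by
          intro x hx
          exact ⟨⟨x, hAN hx⟩, hA4 (Subgroup.mem_sup_left hx), rfl⟩
        exact (le_JD hAB hA5).trans hQ2.le
      · exact hJJ.symm.le.trans (JD_mono h2)
    exact ⟨⟨hJ _ hQmp (by rw [h3]; exact hJR), by rw [h3]; exact hPi⟩, h3⟩

/-- the set without nontrivial best offenders -/
theorem van_nobo {p : ℕ} [Fact p.Prime] {G : Type u} [Group G] [Finite G] {Ω : Type v} [MulAction G Ω] [Finite Ω]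
    {D : Type w} [AddCommGroup D] [DistribMulAction G D] [Finite D] (hΩ : PSet p G Ω) (hD : IsPTors p D)
    (IH : ∀ (n : ℕ) (H : Type u) [Group H] [Finite H] (Ω' : Type v) [MulAction H Ω'] [Finite Ω'] (D' : Type w)
      [AddCommGroup D'] [DistribMulAction H D'] [Finite D'], Nat.card H < Nat.card G → PSet p H Ω' →
      IsPTors p D' → ∀ R : Set (Subgroup H), IsInv R → ⊥ ∈ R → IsLowerSet R →
        (∀ P : Subgroup H, IsPGroup p P → JD D' P ∈ R → P ∈ R) → Van H Ω' D' R (n + 2)) (n : ℕ) :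
    Van G Ω D {P | JD D P = ⊥} (n + 2) := by
  classical
  have hstp : ∀ (k : ℕ) (x : Fin (k + 1) → Ω), IsPGroup p (st G x) := fun k x =>
    (hΩ.pgroup (x 0)).to_le (fun g hg => congrFun (hg : g • x = x) 0)
  by_cases hp : p = 2
  · subst hp
    -- `Van Q0 (m+1)`
    have hQ : ∀ m : ℕ, Van G Ω D (Q0 G D) (m + 1) := by
      intro m
      cases m with
      | zero => exact claimT hΩ hD
      | succ m =>
        refine van_of_filt isUpper_Q0.ordConnected isInv_Q0 (fun P => Nat.card (JD D P)) ?_ ?_ (m + 2) ?_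
        · intro P _ Q _ hPQ
          exact Nat.card_le_card_of_injective _ (Subgroup.inclusion_injective (JD_mono hPQ))
        · intro g P _
          show Nat.card (JD D (cj g P)) = Nat.card (JD D P)
          rw [JD_cj, H291.Lim.card_cj]
        · intro i
          by_cases hi : i = 1
          · refine Cfsg.Agent.H309.Lim.van_of_forall_not (fun k x hx => ?_) _
            obtain ⟨h1, h2⟩ := hx
            rw [hi, Subgroup.card_eq_one] at h2
            exact JD_ne_bot_iff.mpr h1 h2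
          · refine Cfsg.Agent.H309.Lim.van_congr (V' := {P | P ∈ Set.univ ∧ Nat.card (JD D P) = i}) (fun k x => ?_)
              (piece hΩ hD m (IH m) Set.univ (fun _ _ _ => trivial) (fun _ _ _ _ => trivial)
                (fun _ _ _ => trivial) i hi)
            constructor
            · rintro ⟨-, h⟩; exact ⟨trivial, h⟩
            · rintro ⟨-, h⟩
              refine ⟨JD_ne_bot_iff.mp (fun h0 => hi ?_), h⟩
              rw [← h, h0, Subgroup.card_bot]
    have h1 := Cfsg.Agent.H223.Lim.van_two2 (V := Set.univ) (U := Q0 G D) (n := n + 1) (D := D) (Ω := Ω)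
      Set.ordConnected_univ (fun _ _ _ => trivial) isUpper_Q0 isInv_Q0
      (Cfsg.Agent.H842.Lim.van_all hΩ hD (fun _ _ => trivial) (n + 1))
      (Cfsg.Agent.H309.Lim.van_congr (V' := Q0 G D) (fun k x => by simp) (hQ n))
    refine Cfsg.Agent.H309.Lim.van_congr (fun k x => ?_) h1
    constructor
    · intro h
      refine ⟨trivial, fun h' => JD_ne_bot_iff.mpr h' h⟩
    · rintro ⟨-, h⟩
      by_contra h'
      exact h (JD_ne_bot_iff.mp h')
  · set 𝒜 : Set (Subgroup G) := {A | IsPGroup p A ∧ A ≠ ⊥ ∧ BO D A ∧ NGood p D A} with h𝒜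
    have hi : IsInv 𝒜 := by
      rintro g A ⟨h1, h2, h3, h4⟩
      exact ⟨h1.map _, cj_ne_bot h2 g, bo_conj h3 g, ngood_conj h4 g⟩
    refine Cfsg.Agent.H309.Lim.van_congr (fun k x => ?_)
      (Cfsg.Agent.H309.Lim.van_R0 hΩ hD 𝒜 hi (fun A hA => hA.1) (fun A hA => hA.2.2.2) (n + 1))
    constructor
    · rintro h A ⟨h1, h2, h3, h4⟩ hAx
      exact JD_ne_bot_iff.mpr ⟨A, hAx, h2, h3⟩ h
    · intro h
      by_contra h'
      obtain ⟨A, hAx, hA1, hAB⟩ := JD_ne_bot_iff.mp h'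
      obtain ⟨B, hBA, hB1, hBB, hBg, -⟩ := Cfsg.Agent.H296.Lim.exists_good_of_BO hp hD
        ((hstp k x).to_le hAx) hAB hA1
      exact h B ⟨(hstp k x).to_le (hBA.trans hAx), hB1, hBB, hBg⟩ (hBA.trans hAx)

theorem star_aux {p : ℕ} [Fact p.Prime] : ∀ (N : ℕ) (n : ℕ) (G : Type u) [Group G] [Finite G] (Ω : Type v)
    [MulAction G Ω] [Finite Ω] (D : Type w) [AddCommGroup D] [DistribMulAction G D] [Finite D],
    Nat.card G < N → PSet p G Ω → IsPTors p D → ∀ R : Set (Subgroup G), IsInv R → ⊥ ∈ R → IsLowerSet R →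
      (∀ P : Subgroup G, IsPGroup p P → JD D P ∈ R → P ∈ R) → Van G Ω D R (n + 2) := by
  intro N
  induction N with
  | zero => intro n G _ _ Ω _ _ D _ _ _ h; omega
  | succ N ih =>
    intro n G _ _ Ω _ _ D _ _ _ hN hΩ hD R hRi hbot hlow hJ
    have IH : ∀ (n : ℕ) (H : Type u) [Group H] [Finite H] (Ω' : Type v) [MulAction H Ω'] [Finite Ω'] (D' : Type w)
      [AddCommGroup D'] [DistribMulAction H D'] [Finite D'], Nat.card H < Nat.card G → PSet p H Ω' →
      IsPTors p D' → ∀ R : Set (Subgroup H), IsInv R → ⊥ ∈ R → IsLowerSet R →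
        (∀ P : Subgroup H, IsPGroup p P → JD D' P ∈ R → P ∈ R) → Van H Ω' D' R (n + 2) := by
      intro n H _ _ Ω' _ _ D' _ _ _ hH h1 h2 R' r1 r2 r3 r4
      exact ih n H Ω' D' (by omega) h1 h2 R' r1 r2 r3 r4
    have hstp : ∀ (k : ℕ) (x : Fin (k + 1) → Ω), IsPGroup p (st G x) := fun k x =>
      (hΩ.pgroup (x 0)).to_le (fun g hg => congrFun (hg : g • x = x) 0)
    refine van_of_filt hlow.ordConnected hRi (fun P => Nat.card (JD D P)) ?_ ?_ (n + 2) ?_
    · intro P _ Q _ hPQ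
      exact Nat.card_le_card_of_injective _ (Subgroup.inclusion_injective (JD_mono hPQ))
    · intro g P _
      show Nat.card (JD D (cj g P)) = Nat.card (JD D P)
      rw [JD_cj, H291.Lim.card_cj]
    · intro i
      by_cases hi : i = 1
      · refine Cfsg.Agent.H309.Lim.van_congr (fun k x => ?_) (van_nobo hΩ hD IH n)
        constructor
        · rintro ⟨-, h⟩
          rw [hi, Subgroup.card_eq_one] at h
          exact h
        · intro h
          refine ⟨hJ _ (hstp k x) ?_, ?_⟩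
          · rw [show JD D (st G x) = ⊥ from h]; exact hbot
          · show Nat.card (JD D (st G x)) = i
            rw [show JD D (st G x) = ⊥ from h, hi, Subgroup.card_bot]
      · exact piece hΩ hD n (IH n) R hRi hlow hJ i hi

/-- **D3: the local theorem** -/
theorem star {G : Type u} [Group G] {Ω : Type v} [MulAction G Ω] {D : Type w} [AddCommGroup D]
    [DistribMulAction G D] {p : ℕ} [Fact p.Prime] [Finite G] [Finite Ω] [Finite D] (hΩ : PSet p G Ω)
    (hD : IsPTors p D)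
    (R : Set (Subgroup G)) (hRi : IsInv R) (hbot : ⊥ ∈ R) (hlow : IsLowerSet R)
    (hJ : ∀ P : Subgroup G, IsPGroup p P → JD D P ∈ R → P ∈ R) (n : ℕ) : Van G Ω D R (n + 2) :=
  star_aux _ n G Ω D (Nat.lt_succ_self _) hΩ hD R hRi hbot hlow hJ

theorem starY {G : Type u} [Group G] {Ω : Type v} [MulAction G Ω] {D : Type w} [AddCommGroup D]
    [DistribMulAction G D] {p : ℕ} [Fact p.Prime] [Finite G] [Finite Ω] [Finite D] (hΩ : PSet p G Ω)
    (hD : IsPTors p D) (Y : Subgroup G) [Y.Normal] (hY : ∀ x : Ω, Y ≤ stabilizer G x)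
    (hYD : ∀ u ∈ Y, ∀ d : D, u • d = d) (R : Set (Subgroup G)) (hRi : IsInv R) (hYR : Y ∈ R)
    (hlow : ∀ P ∈ R, ∀ Q : Subgroup G, Y ≤ Q → Q ≤ P → Q ∈ R)
    (hJ : ∀ P : Subgroup G, IsPGroup p P → Y ≤ P → JDY Y D P ∈ R → P ∈ R) (n : ℕ) :
    Van G Ω D R (n + 2) :=
  starY_quot Y hΩ hD hY hYD n (fun _ _ hPS R' r1 r2 r3 r4 => star hPS hD R' r1 r2 r3 r4 n) R hRi hYR hlow hJ

end Cfsg.Agent.H539.Lim
end

-- part: H486/Lim/Disjoint
section
/-!
# S5242, piece Z (helper486): collections meeting a normal subgroup `C` acting trivially only in the kernel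
-/

set_option autoImplicit false

namespace Cfsg.Agent.H486.Lim

open MulAction Cfsg.Agent.H539.Lim
open Cfsg.Agent.H223.Lim (van_two1 van_two2)
open Cfsg.Agent.H95.Lim (van_of_local pset_fixPt)
open Cfsg.Agent.H309.Lim (van_R0)

universe u v w

section

variable {G : Type u} [Group G] {Ω : Type v} [MulAction G Ω] {D : Type w} [AddCommGroup D]
  [DistribMulAction G D]

/-- only the stabilizers of tuples matter -/
theorem van_congr {V V' : Set (Subgroup G)} (h : ∀ (k : ℕ) (x : Fin (k + 1) → Ω), st G x ∈ V ↔ st G x ∈ V') {n : ℕ}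
    (hV : Van G Ω D V n) : Van G Ω D V' n := by
  have hc : ∀ (k : ℕ) (c : (Fin (k + 1) → Ω) → D), IsCoch V' c → IsCoch V c := fun k c hc =>
    ⟨hc.smul, fun x hx => hc.supp x (fun h' => hx ((h k x).2 h'))⟩
  have hc' : ∀ (k : ℕ) (c : (Fin (k + 1) → Ω) → D), IsCoch V c → IsCoch V' c := fun k c hc =>
    ⟨hc.smul, fun x hx => hc.supp x (fun h' => hx ((h k x).1 h'))⟩
  have hz : ∀ (k : ℕ) (c : (Fin (k + 1) → Ω) → D), IsCoc (G := G) V' c → IsCoc (G := G) V c := fun k c hc x hx =>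
    hc x ((h _ x).1 hx)
  match n, hV with
  | 0, hV => exact fun c h1 h2 => hV c (hc _ c h1) (hz _ c h2)
  | n + 1, hV =>
    intro c h1 h2
    obtain ⟨b, hb, hb'⟩ := hV c (hc _ c h1) (hz _ c h2)
    exact ⟨b, hc' _ b hb, fun x hx => hb' x ((h _ x).2 hx)⟩

/-- nothing to prove -/
theorem van_of_none {V : Set (Subgroup G)} (h : ∀ (k : ℕ) (x : Fin (k + 1) → Ω), st G x ∉ V) (n : ℕ) :
    Van G Ω D V n := by
  match n with
  | 0 => exact fun c h1 _ x => h1.supp x (h _ x)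
  | n + 1 =>
    intro c _ _
    exact ⟨fun _ => 0, ⟨fun g x => (smul_zero g).symm, fun _ _ => rfl⟩, fun x hx => absurd hx (h _ x)⟩

theorem cj_le_iff {g : G} {P Q : Subgroup G} : P ≤ cj g Q ↔ cj g⁻¹ P ≤ Q := by
  constructor
  · rintro h _ ⟨x, hx, rfl⟩
    obtain ⟨y, hy, hyx⟩ := h hx
    have h1 : g * y * g⁻¹ = x := hyx
    change g⁻¹ * x * g⁻¹⁻¹ ∈ Q
    rw [← h1]
    have : g⁻¹ * (g * y * g⁻¹) * g⁻¹⁻¹ = y := by group
    rw [this]; exact hy
  · intro h x hx
    refine ⟨g⁻¹ * x * g⁻¹⁻¹, h ⟨x, hx, rfl⟩, ?_⟩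
    change g * (g⁻¹ * x * g⁻¹⁻¹) * g⁻¹ = x
    group

theorem cj_le_iff' {g : G} {P Q : Subgroup G} : cj g P ≤ Q ↔ P ≤ cj g⁻¹ Q := by
  rw [cj_le_iff, inv_inv]

theorem cj_normal {g : G} {Y : Subgroup G} [hY : Y.Normal] : cj g Y = Y := by
  apply le_antisymm
  · rintro _ ⟨y, hy, rfl⟩
    exact hY.conj_mem y hy g
  · rw [cj_le_iff]
    rintro _ ⟨y, hy, rfl⟩
    exact hY.conj_mem y hy _

theorem card_cj (g : G) (P : Subgroup G) : Nat.card (cj g P) = Nat.card P :=
  Subgroup.card_map_of_injective (MulAut.conj g).injective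

theorem pgroup_cj {p : ℕ} {g : G} {P : Subgroup G} (h : IsPGroup p P) : IsPGroup p (cj g P) := h.map _

/-- the `p`-element needed for the local problem -/
theorem exists_elt {p : ℕ} [Fact p.Prime] [Finite G] {Y C P : Subgroup G} [hYn : Y.Normal] [hCn : C.Normal]
    (hP : IsPGroup p P) (hPC : P ⊓ C ≤ Y) (hu : ∃ u ∈ C, (∃ k : ℕ, u ^ (p ^ k) = 1) ∧ u ∉ Y) :
    ∃ s ∈ C, (∃ k : ℕ, s ^ (p ^ k) = 1) ∧ s ∉ P ∧ s ∈ Nz P := by
  obtain ⟨S, hPS⟩ := hP.exists_le_sylow
  obtain ⟨u, huC, ⟨k, huk⟩, huY⟩ := hu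
  -- `S ⊓ C` is not contained in `P`
  have hSC : ¬ (S : Subgroup G) ⊓ C ≤ P := by
    intro h
    have hzp : IsPGroup p (Subgroup.zpowers u) := by
      rintro ⟨x, i, rfl⟩
      refine ⟨k, Subtype.ext ?_⟩
      change (u ^ i) ^ p ^ k = 1
      rw [← zpow_natCast, ← zpow_mul, mul_comm, zpow_mul, zpow_natCast, huk, one_zpow]
    obtain ⟨S', hS'⟩ := hzp.exists_le_sylow
    obtain ⟨g, hg⟩ := MulAction.exists_smul_eq G S' S
    have h1 : g * u * g⁻¹ ∈ (S : Subgroup G) := by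
      rw [← hg]
      exact ⟨u, hS' (Subgroup.mem_zpowers u), rfl⟩
    have h2 : g * u * g⁻¹ ∈ C := hCn.conj_mem u huC g
    have h3 : g * u * g⁻¹ ∈ Y := hPC ⟨h ⟨h1, h2⟩, h2⟩
    have h4 := hYn.conj_mem _ h3 g⁻¹
    apply huY
    have h5 : g⁻¹ * (g * u * g⁻¹) * g⁻¹⁻¹ = u := by group
    rwa [h5] at h4
  set K : Subgroup G := P ⊔ ((S : Subgroup G) ⊓ C) with hK
  have hKS : K ≤ S := sup_le hPS inf_le_left
  have hKp : IsPGroup p K := S.2.to_le hKS
  have hlt : P.subgroupOf K < ⊤ := by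
    rw [lt_top_iff_ne_top]
    intro h
    rw [Subgroup.subgroupOf_eq_top] at h
    exact hSC (le_sup_right.trans h)
  have hnil : Group.IsNilpotent K := hKp.isNilpotent
  obtain ⟨w, hw, hwP⟩ := SetLike.exists_of_lt (Group.normalizerCondition_of_isNilpotent (P.subgroupOf K) hlt)
  have hwN : (w : G) ∈ Nz P := by
    rw [Subgroup.mem_normalizer_iff] at hw ⊢
    have hle : P ≤ K := le_sup_left
    intro x
    constructor
    · intro hx
      exact Subgroup.mem_subgroupOf.1 ((hw ⟨x, hle hx⟩).1 (Subgroup.mem_subgroupOf.2 hx))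
    · intro hx
      have h1 : x ∈ K := by
        have h2 := K.mul_mem (K.mul_mem (K.inv_mem w.2) (hle hx)) w.2
        have h3 : (w : G)⁻¹ * (w * x * (w : G)⁻¹) * w = x := by group
        rwa [h3] at h2
      exact Subgroup.mem_subgroupOf.1 ((hw ⟨x, h1⟩).2 (Subgroup.mem_subgroupOf.2 hx))
  have hwK : (w : G) ∈ P ⊔ C := (sup_le_sup_left inf_le_right P : K ≤ P ⊔ C) w.2
  obtain ⟨π, hπ, s, hs, hπs⟩ := Subgroup.mem_sup_of_normal_right.1 hwK
  have hs' : s = π⁻¹ * w := by rw [← hπs]; group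
  have hsS : s ∈ (S : Subgroup G) := by
    rw [hs']
    exact mul_mem (inv_mem (hPS hπ)) (hKS w.2)
  refine ⟨s, hs, ?_, ?_, ?_⟩
  · obtain ⟨j, hj⟩ := S.2 ⟨s, hsS⟩
    exact ⟨j, congrArg Subtype.val hj⟩
  · intro h
    apply hwP
    rw [Subgroup.mem_subgroupOf, ← hπs]
    exact P.mul_mem hπ h
  · rw [hs']
    exact mul_mem (inv_mem (Subgroup.le_normalizer hπ)) hwN

theorem le_st {Y : Subgroup G} (hY : ∀ x : Ω, Y ≤ stabilizer G x) {k : ℕ} (x : Fin k → Ω) : Y ≤ st G x := by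
  intro y hy
  rw [mem_stabilizer_iff]
  funext i
  exact hY (x i) hy

theorem st_le {k : ℕ} (x : Fin k → Ω) (i : Fin k) : st G x ≤ stabilizer G (x i) := by
  intro g hg
  rw [mem_stabilizer_iff] at hg ⊢
  exact congrFun hg i

theorem pgroup_st {p : ℕ} (hΩ : PSet p G Ω) {k : ℕ} (x : Fin (k + 1) → Ω) : IsPGroup p (st G x) :=
  (hΩ.pgroup (x 0)).to_le (st_le x 0)

end

/-- the statement of the induction -/
def Goal (p : ℕ) (D : Type w) [AddCommGroup D] (m : ℕ) : Prop :=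
  ∀ (G : Type u) (Ω : Type v) [Group G] [MulAction G Ω] [DistribMulAction G D] [Finite G] [Finite Ω]
    (Y C : Subgroup G) [Y.Normal] [C.Normal], PSet p G Ω → (∀ x : Ω, Y ≤ stabilizer G x) →
    (∀ c ∈ C, ∀ d : D, c • d = d) → (∃ u ∈ C, (∃ k : ℕ, u ^ (p ^ k) = 1) ∧ u ∉ Y) →
    Nat.card G - Nat.card Y < m → ∀ n, Van G Ω D {Y} n

section

variable {G : Type u} [Group G] {Ω : Type v} [MulAction G Ω] {D : Type w} [AddCommGroup D]
  [DistribMulAction G D]

/-- the part outside of `{Y}` -/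
theorem van_above {p : ℕ} [Fact p.Prime] [Finite G] [Finite Ω] (hΩ : PSet p G Ω)
    (Y C : Subgroup G) [hYn : Y.Normal] [C.Normal] (hY : ∀ x : Ω, Y ≤ stabilizer G x)
    (hC : ∀ c ∈ C, ∀ d : D, c • d = d) (hu : ∃ u ∈ C, (∃ k : ℕ, u ^ (p ^ k) = 1) ∧ u ∉ Y)
    (IH : Goal.{u, v, w} p D (Nat.card G - Nat.card Y))
    {V : Set (Subgroup G)} (hV : V.OrdConnected) (hVi : IsInv V)
    (hVC : ∀ P ∈ V, IsPGroup p P → Y ≤ P → ¬ P ≤ Y ∧ P ⊓ C ≤ Y) (n : ℕ) : Van G Ω D V n := by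
  set V' : Set (Subgroup G) := {P | P ∈ V ∧ Y ≤ P ∧ IsPGroup p P} with hV'
  have hV'c : V'.OrdConnected :=
    ⟨fun P hP Q hQ R hR => ⟨hV.out hP.1 hQ.1 hR, hP.2.1.trans hR.1, hQ.2.2.to_le hR.2⟩⟩
  have hV'i : IsInv V' := fun g P hP =>
    ⟨hVi g P hP.1, by rw [← cj_normal (g := g) (Y := Y)]; exact Subgroup.map_mono hP.2.1, pgroup_cj hP.2.2⟩
  have hcongr : ∀ (k : ℕ) (x : Fin (k + 1) → Ω), st G x ∈ V' ↔ st G x ∈ V := fun k x =>
    ⟨fun h => h.1, fun h => ⟨h, le_st hY x, pgroup_st hΩ x⟩⟩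
  refine van_congr hcongr ?_
  refine van_of_filt hV'c hV'i (fun P => Nat.card P) (fun P _ Q _ h => Subgroup.card_le_of_le h)
    (fun g P _ => card_cj g P) n fun i => ?_
  refine van_of_local (p := p) hΩ (V := {P | P ∈ V' ∧ Nat.card P = i})
    (fun g P hP => ⟨hV'i g P hP.1, by rw [card_cj]; exact hP.2⟩) (fun P => P) (fun P _ => le_rfl) (fun _ _ _ => rfl)
    (fun P hP Q hQ h => Subgroup.eq_of_le_of_card_ge h (by rw [hP.2, hQ.2])) n fun P hP => ?_
  have hset : {Q : Subgroup ↥(Nz P) | Q.map (Nz P).subtype ∈ {P | P ∈ V' ∧ Nat.card P = i} ∧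
      Q.map (Nz P).subtype = P} = {P.subgroupOf (Nz P)} := by
    ext Q
    constructor
    · rintro ⟨-, h⟩
      have h2 := Subgroup.comap_map_eq_self_of_injective (Nz P).subtype_injective Q
      rw [h] at h2
      exact h2.symm
    · rintro rfl
      have h : (P.subgroupOf (Nz P)).map (Nz P).subtype = P := by
        rw [Subgroup.subgroupOf_map_subtype, inf_eq_left]
        exact Subgroup.le_normalizer
      exact ⟨by rw [h]; exact hP, h⟩
  rw [hset]
  obtain ⟨hPV, hYP, hPp⟩ := hP.1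
  obtain ⟨h1, h2⟩ := hVC P hPV hPp hYP
  obtain ⟨s, hsC, hsp, hsP, hsN⟩ := exists_elt hPp h2 hu
  refine IH ↥(Nz P) (FixPt P Ω) (P.subgroupOf (Nz P)) (C.subgroupOf (Nz P)) (pset_fixPt hΩ P hPp) ?_ ?_ ?_ ?_ n
  · intro x y hy
    exact Subtype.ext (x.2 (Subgroup.mem_subgroupOf.1 hy))
  · intro c hc d
    exact hC c (Subgroup.mem_subgroupOf.1 hc) d
  · obtain ⟨k, hk⟩ := hsp
    exact ⟨⟨s, hsN⟩, hsC, ⟨k, Subtype.ext hk⟩, fun h => hsP (Subgroup.mem_subgroupOf.1 h)⟩
  · have e1 : Nat.card (P.subgroupOf (Nz P)) = Nat.card P :=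
      Nat.card_congr (Subgroup.subgroupOfEquivOfLe Subgroup.le_normalizer).toEquiv
    have e2 : Nat.card ↥(Nz P) ≤ Nat.card G := Subgroup.card_le_card_group _
    have e3 : Nat.card P ≤ Nat.card G := Subgroup.card_le_card_group _
    have e4 : Nat.card Y < Nat.card P := by
      refine lt_of_le_of_ne (Subgroup.card_le_of_le hYP) fun h => h1 ?_
      rw [Subgroup.eq_of_le_of_card_ge hYP h.ge]
    rw [e1]
    omega

/-- the bottom piece -/
theorem van_bot {p : ℕ} [Fact p.Prime] [Finite G] [Finite Ω] [Finite D] (hΩ : PSet p G Ω)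
    (hD : IsPTors p D) (Y C : Subgroup G) [hYn : Y.Normal] [hCn : C.Normal] (hY : ∀ x : Ω, Y ≤ stabilizer G x)
    (hC : ∀ c ∈ C, ∀ d : D, c • d = d) (hu : ∃ u ∈ C, (∃ k : ℕ, u ^ (p ^ k) = 1) ∧ u ∉ Y)
    (IH : Goal.{u, v, w} p D (Nat.card G - Nat.card Y)) (n : ℕ) : Van G Ω D {Y} n := by
  match n with
  | 0 =>
    intro c h1 h2 x
    by_contra hne
    have hx : st G x = Y := by
      by_contra h
      exact hne (h1.supp x h)
    obtain ⟨u, -, ⟨k, huk⟩, huY⟩ := hu
    have hzp : IsPGroup p (Subgroup.zpowers u) := by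
      rintro ⟨x, i, rfl⟩
      refine ⟨k, Subtype.ext ?_⟩
      change (u ^ i) ^ p ^ k = 1
      rw [← zpow_natCast, ← zpow_mul, mul_comm, zpow_mul, zpow_natCast, huk, one_zpow]
    obtain ⟨y, hy⟩ := hΩ.exists_fix _ hzp
    have hy0 : c (fun _ => y) = 0 := by
      refine h1.supp _ fun h => huY ?_
      rw [← Set.mem_singleton_iff.1 h]
      rw [mem_stabilizer_iff]
      funext i
      exact hy (Subgroup.mem_zpowers u)
    let z : Fin 2 → Ω := ![x 0, y]
    have hz : st G z ∈ ({Y} : Set (Subgroup G)) := by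
      refine le_antisymm ?_ (le_st hY z)
      intro g hg
      rw [← hx, mem_stabilizer_iff]
      funext i
      have h3 : g • z 0 = z 0 := congrFun (mem_stabilizer_iff.1 hg) 0
      have h4 : i = 0 := Subsingleton.elim _ _
      subst h4
      exact h3
    have h3 := h2 z hz
    rw [dd, Fin.sum_univ_two] at h3
    have e0 : (fun j : Fin 1 => z ((0 : Fin 2).succAbove j)) = fun _ => y := by
      funext j
      have : j = 0 := Subsingleton.elim _ _
      subst this
      rfl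
    have e1 : (fun j : Fin 1 => z ((1 : Fin 2).succAbove j)) = x := by
      funext j
      have : j = 0 := Subsingleton.elim _ _
      subst this
      rfl
    rw [e0, e1, hy0] at h3
    apply hne
    simpa using h3
  | n + 1 =>
    set 𝒜 : Set (Subgroup G) := {A | A ≤ C ∧ IsPGroup p A ∧ ¬ A ≤ Y} with h𝒜
    have hi : IsInv 𝒜 := fun g A hA =>
      ⟨by rw [← cj_normal (g := g) (Y := C)]; exact Subgroup.map_mono hA.1, pgroup_cj hA.2.1, fun h => hA.2.2 (by
        rw [cj_le_iff', cj_normal] at h; exact h)⟩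
    have hg : ∀ A ∈ 𝒜, NGood p D A := by
      intro A hA M _ _ z _ _ a ha _
      rw [Finset.sum_congr rfl (fun i _ => hC (a ^ i) (pow_mem (hA.1 ha) i) z), Finset.sum_const, Finset.card_range]
    set R₀ : Set (Subgroup G) := {P | ∀ A ∈ 𝒜, ¬ A ≤ P} with hR₀
    have hR : Van G Ω D R₀ (n + 1) := van_R0 hΩ hD 𝒜 hi (fun A hA => hA.2.1) hg n
    have hRlow : ∀ P ∈ R₀, ∀ Q : Subgroup G, Q ≤ P → Q ∈ R₀ := fun P hP Q hQ A hA h => hP A hA (h.trans hQ)
    have hRc : R₀.OrdConnected := ⟨fun P _ Q hQ R hR => hRlow Q hQ R hR.2⟩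
    have hRi : IsInv R₀ := fun g P hP A hA h => hP _ (hi g⁻¹ A hA) (cj_le_iff.1 h)
    set U : Set (Subgroup G) := {P | ¬ P ≤ Y} with hU
    have hUu : IsUpperSet U := fun P Q hPQ hP h => hP (hPQ.trans h)
    have hUi : IsInv U := fun g P hP h => hP (by
      rw [cj_le_iff', cj_normal] at h; exact h)
    have hRU : Van G Ω D (R₀ ∩ U) n := by
      refine van_above hΩ Y C hY hC hu IH (hRc.inter hUu.ordConnected)
        (fun g P hP => ⟨hRi g P hP.1, hUi g P hP.2⟩) ?_ n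
      rintro P ⟨hP, hPU⟩ hPp -
      refine ⟨hPU, ?_⟩
      by_contra h
      exact hP (P ⊓ C) ⟨inf_le_right, hPp.to_le inf_le_left, h⟩ inf_le_left
    have h2 := van_two2 hRc hRi hUu hUi hR hRU
    refine van_congr (fun k x => ?_) h2
    rw [Set.mem_singleton_iff]
    constructor
    · rintro ⟨-, h⟩
      exact le_antisymm (not_not.1 h) (le_st hY x)
    · intro h
      rw [h]
      exact ⟨fun A hA hAY => hA.2.2 hAY, fun h' => h' le_rfl⟩

end

/-- the induction -/
theorem goal {p : ℕ} [Fact p.Prime] {D : Type w} [AddCommGroup D] [Finite D] (hD : IsPTors p D) (m : ℕ) :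
    Goal.{u, v, w} p D m := by
  induction m with
  | zero =>
    intro G Ω _ _ _ _ _ Y C _ _ _ _ _ _ h
    exact absurd h (Nat.not_lt_zero _)
  | succ m ih =>
    intro G Ω _ _ _ _ _ Y C _ _ hΩ hY hC hu hm n
    refine van_bot hΩ hD Y C hY hC hu ?_ n
    intro G' Ω' _ _ _ _ _ Y' C' _ _ hΩ' hY' hC' hu' hm' n'
    exact ih G' Ω' Y' C' hΩ' hY' hC' hu' (by omega) n'

/-- **Piece Z.** -/
theorem van_disjoint {G : Type u} [Group G] {Ω : Type v} [MulAction G Ω] {D : Type w} [AddCommGroup D]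
    [DistribMulAction G D] {p : ℕ} [Fact p.Prime] [Finite G] [Finite Ω] [Finite D] (hΩ : PSet p G Ω)
    (hD : IsPTors p D) (Y C : Subgroup G) [Y.Normal] [C.Normal] (hY : ∀ x : Ω, Y ≤ stabilizer G x)
    (hC : ∀ c ∈ C, ∀ d : D, c • d = d) (hu : ∃ u ∈ C, (∃ k : ℕ, u ^ (p ^ k) = 1) ∧ u ∉ Y)
    {V : Set (Subgroup G)} (hV : V.OrdConnected) (hVi : IsInv V) (hVC : ∀ P ∈ V, P ⊓ C ≤ Y) (n : ℕ) :
    Van G Ω D V n := by
  set U : Set (Subgroup G) := {P | ¬ P ≤ Y} with hU
  have hUu : IsUpperSet U := fun P Q hPQ hP h => hP (hPQ.trans h)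
  have hUi : IsInv U := fun g P hP h => hP (by
    rw [cj_le_iff', cj_normal] at h; exact h)
  refine van_two1 hV hVi hUu hUi ?_ ?_
  · by_cases hYV : Y ∈ V
    · refine van_congr (fun k x => ?_) (goal hD _ G Ω Y C hΩ hY hC hu (Nat.lt_succ_self _) n)
      rw [Set.mem_singleton_iff]
      constructor
      · intro h
        rw [h]
        exact ⟨hYV, fun h' => h' le_rfl⟩
      · rintro ⟨-, h⟩
        exact le_antisymm (not_not.1 h) (le_st hY x)
    · refine van_of_none (fun k x => ?_) n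
      rintro ⟨h1, h⟩
      rw [le_antisymm (not_not.1 h) (le_st hY x)] at h1
      exact hYV h1
  · exact van_above hΩ Y C hY hC hu (goal hD _) (hV.inter hUu.ordConnected)
      (fun g P hP => ⟨hVi g P hP.1, hUi g P hP.2⟩) (fun P hP _ _ => ⟨hP.2, hVC P hP.1⟩) n

end Cfsg.Agent.H486.Lim
end

-- part: H679/Lim/CentreMod
section
/-!
# S5242, GA: the centre `Z(X)` as a module for `N(X)`, and the comparison of the centre functor on
`{P | P centric, J(P) = X}` with the fixed point functor of `Z(X)`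
-/

set_option autoImplicit false

namespace Cfsg.Agent.H679.Lim

open MulAction Cfsg.Agent.H539.Lim Cfsg.Agent.H835.Lim

universe u v w

/-! ### change of the collection on subgroups which are not stabilizers -/

section

variable {G : Type u} [Group G] {Ω : Type v} [MulAction G Ω]

theorem coef_coch_congr (C : Coef.{u, w} G) {V V' : Set (Subgroup G)}
    (h : ∀ (k : ℕ) (x : Fin (k + 1) → Ω), st G x ∈ V ↔ st G x ∈ V') {k : ℕ}
    {c : ∀ x : Fin (k + 1) → Ω, C.M (st G x)} (hc : C.IsCoch V c) : C.IsCoch V' c :=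
  ⟨hc.equiv, fun x hx => hc.supp x (fun h1 => hx ((h k x).1 h1))⟩

theorem coef_van_congr (C : Coef.{u, w} G) {V V' : Set (Subgroup G)}
    (h : ∀ (k : ℕ) (x : Fin (k + 1) → Ω), st G x ∈ V ↔ st G x ∈ V') {n : ℕ} (hv : C.Van Ω V n) :
    C.Van Ω V' n := by
  have h' : ∀ (k : ℕ) (x : Fin (k + 1) → Ω), st G x ∈ V' ↔ st G x ∈ V := fun k x => (h k x).symm
  cases n with
  | zero =>
    intro c hc hcoc
    exact hv c (coef_coch_congr C h' hc) (fun x hx => hcoc x ((h _ x).1 hx))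
  | succ n =>
    intro c hc hcoc
    obtain ⟨b, hb, hcb⟩ := hv c (coef_coch_congr C h' hc) (fun x hx => hcoc x ((h _ x).1 hx))
    exact ⟨b, coef_coch_congr C h hb, fun x hx => hcb x ((h _ x).2 hx)⟩

theorem coch_congr {D : Type w} [AddCommGroup D] [DistribMulAction G D] {V V' : Set (Subgroup G)}
    (h : ∀ (k : ℕ) (x : Fin (k + 1) → Ω), st G x ∈ V ↔ st G x ∈ V') {k : ℕ}
    {c : (Fin (k + 1) → Ω) → D} (hc : IsCoch V c) : IsCoch V' c :=
  ⟨hc.smul, fun x hx => hc.supp x (fun h1 => hx ((h k x).1 h1))⟩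

theorem van_congr {D : Type w} [AddCommGroup D] [DistribMulAction G D] {V V' : Set (Subgroup G)}
    (h : ∀ (k : ℕ) (x : Fin (k + 1) → Ω), st G x ∈ V ↔ st G x ∈ V') {n : ℕ} (hv : Van G Ω D V n) :
    Van G Ω D V' n := by
  have h' : ∀ (k : ℕ) (x : Fin (k + 1) → Ω), st G x ∈ V' ↔ st G x ∈ V := fun k x => (h k x).symm
  cases n with
  | zero =>
    intro c hc hcoc
    exact hv c (coch_congr h' hc) (fun x hx => hcoc x ((h _ x).1 hx))
  | succ n =>
    intro c hc hcoc
    obtain ⟨b, hb, hcb⟩ := hv c (coch_congr h' hc) (fun x hx => hcoc x ((h _ x).1 hx))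
    exact ⟨b, coch_congr h hb, fun x hx => hcb x ((h _ x).2 hx)⟩

end

/-! ### the module `Z(X)` -/

section

variable {G : Type u} [Group G]

/-- the centre of `X` as a subgroup of `G` -/
def zz (X : Subgroup G) : Subgroup G where
  carrier := {z | z ∈ X ∧ ∀ u ∈ X, z * u = u * z}
  one_mem' := ⟨X.one_mem, fun u _ => by simp⟩
  mul_mem' := by
    rintro a b ⟨ha, ha'⟩ ⟨hb, hb'⟩
    exact ⟨X.mul_mem ha hb, fun u hu => by rw [mul_assoc, hb' u hu, ← mul_assoc, ha' u hu, mul_assoc]⟩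
  inv_mem' := by
    rintro a ⟨ha, ha'⟩
    refine ⟨X.inv_mem ha, fun u hu => ?_⟩
    have := ha' u hu
    calc a⁻¹ * u = a⁻¹ * (u * a) * a⁻¹ := by group
      _ = a⁻¹ * (a * u) * a⁻¹ := by rw [this]
      _ = u * a⁻¹ := by group

theorem mem_zz {X : Subgroup G} {z : G} : z ∈ zz X ↔ z ∈ X ∧ ∀ u ∈ X, z * u = u * z := Iff.rfl

theorem zz_le (X : Subgroup G) : zz X ≤ X := fun _ h => h.1

instance (X : Subgroup G) : CommGroup ↥(zz X) :=
  { (inferInstance : Group ↥(zz X)) with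
    mul_comm := fun a b => Subtype.ext (a.2.2 b.1 b.2.1) }

/-- the centre of `X`, written additively -/
def ZM (X : Subgroup G) : Type u := Additive ↥(zz X)

instance (X : Subgroup G) : AddCommGroup (ZM X) := inferInstanceAs (AddCommGroup (Additive ↥(zz X)))

instance [Finite G] (X : Subgroup G) : Finite (ZM X) := inferInstanceAs (Finite ↥(zz X))

/-- the element of `G` -/
def ZM.val {X : Subgroup G} (z : ZM X) : G := ((Additive.toMul (α := ↥(zz X)) z : ↥(zz X)) : G)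

/-- the module element of a central element -/
def ZM.mk {X : Subgroup G} (z : G) (hz : z ∈ zz X) : ZM X := Additive.ofMul (⟨z, hz⟩ : ↥(zz X))

theorem ZM.val_mk {X : Subgroup G} (z : G) (hz : z ∈ zz X) : (ZM.mk z hz).val = z := rfl

theorem ZM.val_mem {X : Subgroup G} (z : ZM X) : z.val ∈ zz X := (Additive.toMul (α := ↥(zz X)) z).2

theorem ZM.ext {X : Subgroup G} {a b : ZM X} (h : a.val = b.val) : a = b :=
  congrArg Additive.ofMul (Subtype.ext h : Additive.toMul (α := ↥(zz X)) a = Additive.toMul (α := ↥(zz X)) b)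

theorem ZM.val_add {X : Subgroup G} (a b : ZM X) : (a + b).val = a.val * b.val := rfl

theorem ZM.val_zero {X : Subgroup G} : (0 : ZM X).val = 1 := rfl

theorem ZM.val_nsmul {X : Subgroup G} (k : ℕ) (a : ZM X) : (k • a).val = a.val ^ k := by
  induction k with
  | zero => rw [zero_smul, pow_zero, ZM.val_zero]
  | succ k ih => rw [succ_nsmul, ZM.val_add, ih, pow_succ]

theorem zz_conj {X : Subgroup G} {n : G} (hn : n ∈ Nz X) {z : G} (hz : z ∈ zz X) : n * z * n⁻¹ ∈ zz X := by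
  have h1 := Subgroup.mem_normalizer_iff.1 hn
  refine ⟨(h1 z).1 hz.1, fun u hu => ?_⟩
  have h2 : n⁻¹ * u * n ∈ X := by
    have := (Subgroup.mem_normalizer_iff.1 (Subgroup.inv_mem _ hn) u).1 hu
    simpa using this
  have h3 := hz.2 _ h2
  calc n * z * n⁻¹ * u = n * (z * (n⁻¹ * u * n)) * n⁻¹ := by group
    _ = n * (n⁻¹ * u * n * z) * n⁻¹ := by rw [h3]
    _ = u * (n * z * n⁻¹) := by group

instance instZM (X : Subgroup G) : DistribMulAction ↥(Nz X) (ZM X) where
  smul n z := ZM.mk ((n : G) * z.val * (n : G)⁻¹) (zz_conj n.2 z.val_mem)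
  one_smul z := ZM.ext (by
    show ((1 : ↥(Nz X)) : G) * z.val * ((1 : ↥(Nz X)) : G)⁻¹ = z.val
    simp)
  mul_smul a b z := ZM.ext (by
    show ((a * b : ↥(Nz X)) : G) * z.val * ((a * b : ↥(Nz X)) : G)⁻¹ =
      (a : G) * ((b : G) * z.val * (b : G)⁻¹) * (a : G)⁻¹
    rw [Subgroup.coe_mul]
    group)
  smul_zero a := ZM.ext (by
    show (a : G) * (0 : ZM X).val * (a : G)⁻¹ = (0 : ZM X).val
    rw [ZM.val_zero]
    simp)
  smul_add a x y := ZM.ext (by
    show (a : G) * (x + y).val * (a : G)⁻¹ = ((a : G) * x.val * (a : G)⁻¹) * ((a : G) * y.val * (a : G)⁻¹)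
    rw [ZM.val_add]
    group)

theorem ZM.val_smul {X : Subgroup G} (n : ↥(Nz X)) (z : ZM X) : (n • z).val = (n : G) * z.val * (n : G)⁻¹ := rfl

/-- fixed by `n` = commuting with `n` -/
theorem ZM.smul_eq_iff {X : Subgroup G} (n : ↥(Nz X)) (z : ZM X) : n • z = z ↔ z.val * (n : G) = (n : G) * z.val := by
  constructor
  · intro h
    have h1 := congrArg ZM.val h
    rw [ZM.val_smul] at h1
    calc z.val * (n : G) = ((n : G) * z.val * (n : G)⁻¹) * (n : G) := by rw [h1]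
      _ = (n : G) * z.val := by group
  · intro h
    apply ZM.ext
    rw [ZM.val_smul, ← h]
    group

theorem ZM.ptors {p : ℕ} {X : Subgroup G} (hX : IsPGroup p X) : IsPTors p (ZM X) := by
  intro d
  obtain ⟨k, hk⟩ := hX ⟨d.val, d.val_mem.1⟩
  refine ⟨k, ZM.ext ?_⟩
  rw [ZM.val_nsmul, ZM.val_zero]
  exact congrArg Subtype.val hk

/-! ### the collection -/

/-- the centric `p`-subgroups `P` of `N(X)` with `J(P) = X` -/
def Pc (p : ℕ) (X : Subgroup G) : Set (Subgroup ↥(Nz X)) :=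
  {Q | (Centric p (Q.map (Nz X).subtype) ∧ JT (Q.map (Nz X).subtype) = X) ∧ IsPGroup p Q}

theorem centric_mono {p : ℕ} {P Q : Subgroup G} (h : P ≤ Q) (hP : Centric p P) : Centric p Q :=
  fun u hu hk => h (hP u (fun v hv => hu v (h hv)) hk)

theorem centric_cj {p : ℕ} (g : G) {P : Subgroup G} (hP : Centric p P) : Centric p (cj g P) := by
  intro u hu hk
  refine ⟨g⁻¹ * u * g, hP _ (fun v hv => ?_) ?_, ?_⟩
  · have h1 := hu (g * v * g⁻¹) ⟨v, hv, rfl⟩
    calc g⁻¹ * u * g * v = g⁻¹ * (u * (g * v * g⁻¹)) * g := by group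
      _ = g⁻¹ * ((g * v * g⁻¹) * u) * g := by rw [h1]
      _ = v * (g⁻¹ * u * g) := by group
  · obtain ⟨k, hk⟩ := hk
    refine ⟨k, ?_⟩
    have := conj_pow (a := g⁻¹) (b := u) (i := p ^ k)
    rw [show g⁻¹ * u * g = g⁻¹ * u * g⁻¹⁻¹ by simp, this, hk]
    simp
  · show g * (g⁻¹ * u * g) * g⁻¹ = u
    group

theorem map_cj {X : Subgroup G} (g : ↥(Nz X)) (P : Subgroup ↥(Nz X)) :
    (cj g P).map (Nz X).subtype = cj (g : G) (P.map (Nz X).subtype) := by
  ext x
  constructor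
  · rintro ⟨_, ⟨y, hy, rfl⟩, rfl⟩
    exact ⟨(y : G), ⟨y, hy, rfl⟩, rfl⟩
  · rintro ⟨_, ⟨y, hy, rfl⟩, rfl⟩
    exact ⟨g * y * g⁻¹, ⟨y, hy, rfl⟩, rfl⟩

theorem cj_self {X : Subgroup G} (g : ↥(Nz X)) : cj (g : G) X = X := by
  ext x
  constructor
  · rintro ⟨y, hy, rfl⟩
    exact (Subgroup.mem_normalizer_iff.1 g.2 y).1 hy
  · intro hx
    refine ⟨(g : G)⁻¹ * x * (g : G), ?_, ?_⟩
    · have := (Subgroup.mem_normalizer_iff.1 (Subgroup.inv_mem _ g.2) x).1 hx
      simpa using this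
    · show (g : G) * ((g : G)⁻¹ * x * (g : G)) * (g : G)⁻¹ = x
      group

theorem pc_inv [Finite G] (p : ℕ) (X : Subgroup G) : IsInv (Pc p X) := by
  rintro g P ⟨⟨h1, h2⟩, h3⟩
  refine ⟨⟨?_, ?_⟩, h3.map _⟩
  · rw [map_cj]
    exact centric_cj _ h1
  · rw [map_cj, (JT_conj _ _).1, h2, cj_self]

theorem pc_ordConnected [Finite G] (p : ℕ) (X : Subgroup G) : (Pc p X).OrdConnected := by
  refine ⟨?_⟩
  rintro P ⟨⟨h1, h2⟩, h3⟩ Q ⟨⟨k1, k2⟩, k3⟩ R ⟨hPR, hRQ⟩
  refine ⟨⟨centric_mono (Subgroup.map_mono hPR) h1, ?_⟩, k3.to_le hRQ⟩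
  have hX : JT (Q.map (Nz X).subtype) ≤ R.map (Nz X).subtype :=
    ((le_of_eq (k2.trans h2.symm)).trans (JT_le _)).trans (Subgroup.map_mono hPR)
  rw [JT_sandwich hX (Subgroup.map_mono hRQ), k2]

/-- `Z(P) = Z(X)^P` for `P` centric with `J(P) = X` -/
noncomputable def zEquiv [Finite G] {p : ℕ} {X : Subgroup G} (P : Subgroup ↥(Nz X)) (hP : P ∈ Pc p X) :
    ((Coef.Z p G).restr (Nz X)).M P ≃+ ↥(DFix P (ZM X)) where
  toFun m := ⟨ZM.mk ((Additive.toMul (α := ↥(zc p (P.map (Nz X).subtype))) m : ↥(zc p (P.map (Nz X).subtype))) : G) (by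
      have h := (Additive.toMul (α := ↥(zc p (P.map (Nz X).subtype))) m).2
      have h1 := centralizer_JT (P.map (Nz X).subtype) _ h.1 (fun v hv => h.2.1 v (JT_le _ hv))
      rw [hP.1.2] at h1
      refine ⟨h1, fun u hu => h.2.1 u ?_⟩
      rw [← hP.1.2] at hu
      exact JT_le _ hu), fun u hu => by
      rw [ZM.smul_eq_iff]
      exact (Additive.toMul (α := ↥(zc p (P.map (Nz X).subtype))) m).2.2.1 _ ⟨u, hu, rfl⟩⟩
  invFun d := Additive.ofMul (⟨(d : ZM X).val, by
      have h := (d : ZM X).val_mem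
      have h1 : (d : ZM X).val ∈ JT (P.map (Nz X).subtype) := by
        rw [hP.1.2]
        exact h.1
      refine ⟨JT_le _ h1, ?_, Or.inr ⟨hP.1.1, hP.2.map _⟩⟩
      rintro _ ⟨u, hu, rfl⟩
      exact (ZM.smul_eq_iff u (d : ZM X)).1 (d.2 u hu)⟩ : ↥(zc p (P.map (Nz X).subtype)))
  left_inv m := rfl
  right_inv d := rfl
  map_add' a b := rfl

open Classical in
theorem zEquiv_nat [Finite G] {p : ℕ} {X : Subgroup G} (g : ↥(Nz X)) (P Q : Subgroup ↥(Nz X))
    (h : ∀ u ∈ P, g * u * g⁻¹ ∈ Q) (hP : P ∈ Pc p X) (hQ : Q ∈ Pc p X)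
    (m : ((Coef.Z p G).restr (Nz X)).M Q) :
    ((zEquiv P hP (((Coef.Z p G).restr (Nz X)).τ g P Q h m) : ↥(DFix P (ZM X))) : ZM X) =
      g⁻¹ • ((zEquiv Q hQ m : ↥(DFix Q (ZM X))) : ZM X) := by
  apply ZM.ext
  have hP' : Centric p (P.map (Nz X).subtype) ∧ IsPGroup p (P.map (Nz X).subtype) := ⟨hP.1.1, hP.2.map _⟩
  show (if hP : Centric p (P.map (Nz X).subtype) ∧ IsPGroup p (P.map (Nz X).subtype) then
    (⟨(g : G)⁻¹ * ((Additive.toMul (α := ↥(zc p (Q.map (Nz X).subtype))) m : ↥(zc p (Q.map (Nz X).subtype))) : G) *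
      (g : G), _⟩ : ↥(zc p (P.map (Nz X).subtype))) else 1).1 = _
  rw [dif_pos hP', ZM.val_smul]
  simp
  rfl

end

/-! ### the stabilizers of tuples of `X`-fixed points -/

section

variable {G : Type u} [Group G] {Ω : Type v} [MulAction G Ω]

theorem le_st_fixPt (X : Subgroup G) {k : ℕ} (x : Fin k → FixPt X Ω) :
    X.subgroupOf (Nz X) ≤ st ↥(Nz X) x := by
  intro u hu
  rw [MulAction.mem_stabilizer_iff]
  funext i
  apply Subtype.ext
  exact (x i).2 (Subgroup.mem_subgroupOf.1 hu)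

theorem isPGroup_st_fixPt {p : ℕ} (hΩ : PSet p G Ω) (X : Subgroup G) {k : ℕ} (x : Fin (k + 1) → FixPt X Ω) :
    IsPGroup p ↥(st ↥(Nz X) x) := by
  intro u
  have hu : ((u : ↥(Nz X)) : G) ∈ stabilizer G (x 0).1 := by
    have h1 := u.2
    rw [MulAction.mem_stabilizer_iff] at h1 ⊢
    exact congrArg Subtype.val (congrFun h1 0)
  obtain ⟨m, hm⟩ := hΩ.pgroup (x 0).1 ⟨_, hu⟩
  have h2 : (((u : ↥(Nz X)) : G)) ^ p ^ m = 1 := congrArg Subtype.val hm
  exact ⟨m, Subtype.ext (Subtype.ext h2)⟩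

theorem mem_pc_iff {p : ℕ} (hΩ : PSet p G Ω) (X : Subgroup G) (k : ℕ) (x : Fin (k + 1) → FixPt X Ω) :
    st ↥(Nz X) x ∈ Pc p X ↔ st ↥(Nz X) x ∈ {Q : Subgroup ↥(Nz X) | Centric p (Q.map (Nz X).subtype) ∧
      JT (Q.map (Nz X).subtype) = X} :=
  ⟨fun h => h.1, fun h => ⟨h, isPGroup_st_fixPt hΩ X x⟩⟩

/-- the pieces of the centre functor are fixed point functors (`hmod` is an instance of `Coef.van_of_mod`) -/
theorem van_piece [Finite G] {p : ℕ} (hΩ : PSet p G Ω) (X : Subgroup G) {n : ℕ}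
    (hmod : Van ↥(Nz X) (FixPt X Ω) (ZM X) (Pc p X) n →
      ((Coef.Z p G).restr (Nz X)).Van (FixPt X Ω) (Pc p X) n)
    (h : Van ↥(Nz X) (FixPt X Ω) (ZM X) (Pc p X) n) :
    ((Coef.Z p G).restr (Nz X)).Van (FixPt X Ω)
      {Q : Subgroup ↥(Nz X) | Centric p (Q.map (Nz X).subtype) ∧ JT (Q.map (Nz X).subtype) = X} n :=
  coef_van_congr _ (mem_pc_iff hΩ X) (hmod h)

end

end Cfsg.Agent.H679.Lim
end

-- part: H679/Lim/PieceCentric
section
/-!
# S5242, GA2: the piece `{P | J(P) = X}`, `X = J(X)` centric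
-/

set_option autoImplicit false

namespace Cfsg.Agent.H679.Lim

open MulAction Cfsg.Agent.H539.Lim Cfsg.Agent.H835.Lim

universe u v w

section

variable {G : Type u} [Group G]

/-! ### orders -/

theorem card_inf_mul_relIndex [Finite G] (H K : Subgroup G) :
    Nat.card ↥(H ⊓ K) * H.relIndex K = Nat.card K := by
  have h := Subgroup.relIndex_mul_relIndex (⊥ : Subgroup G) (H ⊓ K) K bot_le inf_le_right
  rw [Subgroup.relIndex_bot_left, Subgroup.inf_relIndex_right, Subgroup.relIndex_bot_left] at h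
  exact h

theorem card_mul_le [Finite G] (B E : Subgroup G) :
    Nat.card B * Nat.card E ≤ Nat.card ↥(B ⊓ E) * Nat.card ↥(B ⊔ E) := by
  have h1 := card_inf_mul_relIndex E B
  have h2 := card_inf_mul_relIndex E (B ⊔ E)
  have h3 : E ⊓ (B ⊔ E) = E := inf_eq_left.2 le_sup_right
  rw [h3] at h2
  have h4 : E.relIndex B ≤ E.relIndex (B ⊔ E) :=
    Subgroup.relIndex_le_of_le_right le_sup_left (by
      intro h0
      rw [h0, mul_zero] at h2
      exact (Nat.card_pos (α := ↥(B ⊔ E))).ne h2)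
  rw [inf_comm] at h1
  calc Nat.card B * Nat.card E = (Nat.card ↥(B ⊓ E) * E.relIndex B) * Nat.card E := by rw [h1]
    _ ≤ (Nat.card ↥(B ⊓ E) * E.relIndex (B ⊔ E)) * Nat.card E := by gcongr
    _ = Nat.card ↥(B ⊓ E) * (Nat.card E * E.relIndex (B ⊔ E)) := by ring
    _ = Nat.card ↥(B ⊓ E) * Nat.card ↥(B ⊔ E) := by rw [h2]

/-! ### the inequality for a maximal abelian subgroup -/

/-- the centralizer of `B` in `Z(X)` -/
def ez (X B : Subgroup G) : Subgroup G := zz X ⊓ Subgroup.centralizer (B : Set G)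

theorem ez_ineq [Finite G] {X P A B : Subgroup G} (hXP : X ≤ P) (hA : A ≤ P) (hAb : IsAb A)
    (hc : Nat.card A = dmax P) (hBA : B ≤ A) :
    Nat.card B * Nat.card (ez X B) ≤ Nat.card A * Nat.card (ez X A) := by
  have h1 : B ⊓ ez X B ≤ ez X A := by
    rintro b ⟨hb, hb'⟩
    refine ⟨hb'.1, Subgroup.mem_centralizer_iff.2 fun a ha => ?_⟩
    exact hAb a ha b (hBA hb)
  have h2 : IsAb (B ⊔ ez X B) := by
    have hBB : B ≤ Subgroup.centralizer (B : Set G) := by
      intro b hb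
      rw [Subgroup.mem_centralizer_iff]
      intro a ha
      exact hAb a (hBA ha) b (hBA hb)
    have hEB : ez X B ≤ Subgroup.centralizer (B : Set G) := inf_le_right
    have hEE : ez X B ≤ Subgroup.centralizer (ez X B : Set G) := by
      intro b hb
      rw [Subgroup.mem_centralizer_iff]
      intro a ha
      exact ha.1.2 b hb.1.1
    have h3 : B ⊔ ez X B ≤ Subgroup.centralizer ((B ⊔ ez X B : Subgroup G) : Set G) := by
      apply sup_le
      · rw [Subgroup.le_centralizer_iff]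
        exact sup_le hBB hEB
      · rw [Subgroup.le_centralizer_iff]
        refine sup_le ?_ hEE
        rw [Subgroup.le_centralizer_iff]
        exact hEB
    intro a ha b hb
    exact (Subgroup.mem_centralizer_iff.1 (h3 hb)) a ha
  have h4 : B ⊔ ez X B ≤ P := sup_le (hBA.trans hA) ((inf_le_left.trans (zz_le X)).trans hXP)
  calc Nat.card B * Nat.card (ez X B) ≤ Nat.card ↥(B ⊓ ez X B) * Nat.card ↥(B ⊔ ez X B) := card_mul_le _ _
    _ ≤ Nat.card (ez X A) * Nat.card A := by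
      apply Nat.mul_le_mul
      · exact Subgroup.card_le_of_le h1
      · rw [hc]
        exact le_dmax h4 h2
    _ = Nat.card A * Nat.card (ez X A) := mul_comm _ _

theorem card_dfix [Finite G] (X : Subgroup G) (B : Subgroup ↥(Nz X)) :
    Nat.card ↥(DFix B (ZM X)) = Nat.card (ez X (B.map (Nz X).subtype)) := by
  refine Nat.card_congr ⟨fun d => ⟨(d : ZM X).val, (d : ZM X).val_mem, ?_⟩, fun z =>
    ⟨ZM.mk (z : G) z.2.1, ?_⟩, fun _ => rfl, fun _ => rfl⟩
  · refine Subgroup.mem_centralizer_iff.2 ?_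
    rintro _ ⟨b, hb, rfl⟩
    exact ((ZM.smul_eq_iff b (d : ZM X)).1 (d.2 b hb)).symm
  · intro b hb
    rw [ZM.smul_eq_iff]
    exact (Subgroup.mem_centralizer_iff.1 z.2.2 b ⟨b, hb, rfl⟩).symm

theorem dfix_sup {D : Type w} [AddCommGroup D] [DistribMulAction G D] (B Y : Subgroup G)
    (hY : ∀ u ∈ Y, ∀ d : D, u • d = d) : DFix (B ⊔ Y) D = DFix B D := by
  apply le_antisymm
  · intro d hd u hu
    exact hd u ((le_sup_left : B ≤ B ⊔ Y) hu)
  · intro d hd u hu
    have h : B ⊔ Y ≤ stabilizer G d := sup_le (fun b hb => hd b hb) (fun y hy => hY y hy d)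
    exact h hu

/-- the modular law for a normal subgroup -/
theorem eq_inf_sup {A B Y : Subgroup G} [Y.Normal] (hYB : Y ≤ B) (hB : B ≤ A ⊔ Y) : B = (B ⊓ A) ⊔ Y := by
  apply le_antisymm
  · intro b hb
    obtain ⟨a, ha, y, hy, rfl⟩ := Subgroup.mem_sup_of_normal_right.1 (hB hb)
    apply Subgroup.mul_mem_sup _ hy
    refine ⟨?_, ha⟩
    have := B.mul_mem hb (B.inv_mem (hYB hy))
    simpa using this
  · exact sup_le inf_le_left hYB

/-- the reduction of the inequality for `A Y` to `A` -/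
theorem boy_of [Finite G] {D : Type w} [AddCommGroup D] [DistribMulAction G D] (Y A : Subgroup G) [Y.Normal]
    (hY : ∀ u ∈ Y, ∀ d : D, u • d = d)
    (hA : ∀ B : Subgroup G, B ≤ A → Nat.card B * Nat.card (DFix B D) ≤ Nat.card A * Nat.card (DFix A D))
    (B : Subgroup G) (hYB : Y ≤ B) (hB : B ≤ A ⊔ Y) :
    Nat.card B * Nat.card (DFix B D) ≤ Nat.card ↥(A ⊔ Y) * Nat.card (DFix (A ⊔ Y) D) := by
  have e1 := eq_inf_sup hYB hB
  have h1 := card_inf_mul_relIndex Y (A ⊔ Y)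
  rw [inf_eq_left.2 (le_sup_right : Y ≤ A ⊔ Y), Subgroup.relIndex_sup_right] at h1
  have h2 := card_inf_mul_relIndex Y A
  have h3 := card_inf_mul_relIndex Y ((B ⊓ A) ⊔ Y)
  rw [inf_eq_left.2 (le_sup_right : Y ≤ (B ⊓ A) ⊔ Y), Subgroup.relIndex_sup_right] at h3
  have h4 := card_inf_mul_relIndex Y (B ⊓ A)
  have h5 : Y ⊓ (B ⊓ A) = Y ⊓ A := by rw [← inf_assoc, inf_eq_left.2 hYB]
  rw [h5] at h4
  have h6 := hA (B ⊓ A) inf_le_right
  rw [e1, dfix_sup _ _ hY, dfix_sup _ _ hY, ← h1, ← h3]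
  rw [← h4, ← h2] at h6
  have h7 : 0 < Nat.card ↥(Y ⊓ A) := Nat.card_pos
  have h8 : Y.relIndex (B ⊓ A) * Nat.card ↥(DFix (B ⊓ A) D) ≤ Y.relIndex A * Nat.card ↥(DFix A D) := by
    apply Nat.le_of_mul_le_mul_left _ h7
    calc Nat.card ↥(Y ⊓ A) * (Y.relIndex (B ⊓ A) * Nat.card ↥(DFix (B ⊓ A) D)) =
        Nat.card ↥(Y ⊓ A) * Y.relIndex (B ⊓ A) * Nat.card ↥(DFix (B ⊓ A) D) := by ring
      _ ≤ Nat.card ↥(Y ⊓ A) * Y.relIndex A * Nat.card ↥(DFix A D) := h6
      _ = Nat.card ↥(Y ⊓ A) * (Y.relIndex A * Nat.card ↥(DFix A D)) := by ring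
  calc Nat.card Y * Y.relIndex (B ⊓ A) * Nat.card ↥(DFix (B ⊓ A) D) =
      Nat.card Y * (Y.relIndex (B ⊓ A) * Nat.card ↥(DFix (B ⊓ A) D)) := by ring
    _ ≤ Nat.card Y * (Y.relIndex A * Nat.card ↥(DFix A D)) := Nat.mul_le_mul_left _ h8
    _ = Nat.card Y * Y.relIndex A * Nat.card ↥(DFix A D) := by ring

theorem comm_sup (Y A : Subgroup G) [Y.Normal] (hA : IsAb A) :
    ∀ a ∈ A ⊔ Y, ∀ b ∈ A ⊔ Y, a * b * a⁻¹ * b⁻¹ ∈ Y := by
  intro a ha b hb
  obtain ⟨a₁, ha₁, y, hy, rfl⟩ := Subgroup.mem_sup_of_normal_right.1 ha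
  obtain ⟨b₁, hb₁, z, hz, rfl⟩ := Subgroup.mem_sup_of_normal_right.1 hb
  rw [← QuotientGroup.eq_one_iff]
  have hy' : ((y : G) : G ⧸ Y) = 1 := (QuotientGroup.eq_one_iff y).2 hy
  have hz' : ((z : G) : G ⧸ Y) = 1 := (QuotientGroup.eq_one_iff z).2 hz
  have hab : (a₁ : G ⧸ Y) * b₁ = b₁ * a₁ := by
    rw [← QuotientGroup.mk_mul, ← QuotientGroup.mk_mul, hA a₁ ha₁ b₁ hb₁]
  simp only [QuotientGroup.mk_mul, QuotientGroup.mk_inv, hy', hz', mul_one]
  rw [hab]
  group

/-! ### the Thompson subgroup of `P` and of the subgroup generated by the offenders -/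

instance subgroupOf_normal (X : Subgroup G) : (X.subgroupOf (Nz X)).Normal := by
  refine ⟨fun u hu g => ?_⟩
  rw [Subgroup.mem_subgroupOf] at hu ⊢
  exact (Subgroup.mem_normalizer_iff.1 g.2 u).1 hu

theorem map_subgroupOf (X : Subgroup G) : (X.subgroupOf (Nz X)).map (Nz X).subtype = X :=
  Subgroup.map_subgroupOf_eq_of_le Subgroup.le_normalizer

/-- if `J(P) ≠ X` there is a maximal abelian subgroup of `P` not contained in `X` -/
theorem exists_ab [Finite G] {X P : Subgroup G} (hX : JT X = X) (hXP : X ≤ P) (h : JT P ≠ X) :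
    ∃ A ≤ P, IsAb A ∧ Nat.card A = dmax P ∧ ¬ A ≤ X := by
  by_contra hcon
  push Not at hcon
  have h1 : JT P ≤ X := sSup_le fun A hA => hcon A hA.1 hA.2.1 hA.2.2
  have h2 : dmax X = dmax P := dmax_of_JT_le h1 hXP
  apply h
  apply le_antisymm h1
  calc X = JT X := hX.symm
    _ ≤ JT P := JT_mono hXP h2

theorem jt_of_offenders [Finite G] {X : Subgroup G} (hX : JT X = X) (P : Subgroup ↥(Nz X))
    (hXP : X.subgroupOf (Nz X) ≤ P)
    (h : JT ((sSup {A : Subgroup ↥(Nz X) | A ≤ P ∧ (X.subgroupOf (Nz X) ≤ A ∧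
      (∀ a ∈ A, ∀ b ∈ A, a * b * a⁻¹ * b⁻¹ ∈ X.subgroupOf (Nz X)) ∧
      ∀ B : Subgroup ↥(Nz X), X.subgroupOf (Nz X) ≤ B → B ≤ A →
        Nat.card B * Nat.card (DFix B (ZM X)) ≤ Nat.card A * Nat.card (DFix A (ZM X)))}).map
          (Nz X).subtype) = X) :
    JT (P.map (Nz X).subtype) = X := by
  by_contra hne
  set J := sSup {A : Subgroup ↥(Nz X) | A ≤ P ∧ (X.subgroupOf (Nz X) ≤ A ∧
      (∀ a ∈ A, ∀ b ∈ A, a * b * a⁻¹ * b⁻¹ ∈ X.subgroupOf (Nz X)) ∧
      ∀ B : Subgroup ↥(Nz X), X.subgroupOf (Nz X) ≤ B → B ≤ A →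
        Nat.card B * Nat.card (DFix B (ZM X)) ≤ Nat.card A * Nat.card (DFix A (ZM X)))} with hJ
  have hXP' : X ≤ P.map (Nz X).subtype := by
    have := Subgroup.map_mono (f := (Nz X).subtype) hXP
    rwa [map_subgroupOf] at this
  obtain ⟨A, hAP, hAb, hAc, hAX⟩ := exists_ab hX hXP' hne
  have hAN : A ≤ Nz X := hAP.trans (by
    rintro _ ⟨y, -, rfl⟩
    exact y.2)
  have hAm : (A.subgroupOf (Nz X)).map (Nz X).subtype = A := Subgroup.map_subgroupOf_eq_of_le hAN
  have hAP' : A.subgroupOf (Nz X) ≤ P := by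
    intro a ha
    obtain ⟨y, hy, hya⟩ := hAP (Subgroup.mem_subgroupOf.1 ha)
    have : y = a := Subtype.ext hya
    rwa [← this]
  have hAb' : IsAb (A.subgroupOf (Nz X)) := fun a ha b hb =>
    Subtype.ext (hAb a (Subgroup.mem_subgroupOf.1 ha) b (Subgroup.mem_subgroupOf.1 hb))
  have htriv : ∀ u ∈ X.subgroupOf (Nz X), ∀ d : ZM X, u • d = d := by
    intro u hu d
    rw [ZM.smul_eq_iff]
    exact d.val_mem.2 _ (Subgroup.mem_subgroupOf.1 hu)
  have hmem : A.subgroupOf (Nz X) ⊔ X.subgroupOf (Nz X) ≤ J := by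
    apply le_sSup
    refine ⟨sup_le hAP' hXP, le_sup_right, comm_sup _ _ hAb', ?_⟩
    apply boy_of _ _ htriv
    intro B hB
    rw [card_dfix, card_dfix, hAm]
    have h1 : B.map (Nz X).subtype ≤ A := by
      rw [← hAm]
      exact Subgroup.map_mono hB
    have h2 := ez_ineq hXP' hAP hAb hAc h1
    rwa [Subgroup.card_map_of_injective (Nz X).subtype_injective,
      ← hAm, Subgroup.card_map_of_injective (Nz X).subtype_injective, hAm] at h2
  have hJP : J ≤ P := sSup_le fun _ hA => hA.1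
  have hAJ : A ≤ J.map (Nz X).subtype := by
    have h1 := Subgroup.map_mono (f := (Nz X).subtype) (le_sup_left.trans hmem)
    rwa [hAm] at h1
  have hd : dmax (J.map (Nz X).subtype) = dmax (P.map (Nz X).subtype) := by
    apply le_antisymm (dmax_mono (Subgroup.map_mono hJP))
    rw [← hAc]
    exact le_dmax hAJ hAb
  apply hAX
  rw [← h]
  exact le_JT hAJ hAb (hAc.trans hd.symm)

end

section

variable {G : Type u} [Group G] {Ω : Type v} [MulAction G Ω]

/-- the comparison with the module `Z(X)` -/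
theorem van_piece' [Finite G] {p : ℕ} (hΩ : PSet p G Ω) (X : Subgroup G) {n : ℕ}
    (h : Van ↥(Nz X) (FixPt X Ω) (ZM X) (Pc p X) n) :
    ((Coef.Z p G).restr (Nz X)).Van (FixPt X Ω)
      {Q : Subgroup ↥(Nz X) | Centric p (Q.map (Nz X).subtype) ∧ JT (Q.map (Nz X).subtype) = X} n :=
  van_piece hΩ X (Cfsg.Agent.H234.Lim.Coef.van_of_mod _ (pc_ordConnected p X) (pc_inv p X) zEquiv zEquiv_nat) h

/-- GA2 from `starY` for `(N(X), Y = X, Z(X))` -/
theorem piece_centric_aux {p : ℕ} [Finite G] (hΩ : PSet p G Ω) (X : Subgroup G)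
    (hX : JT X = X) (hXc : Centric p X) (n : ℕ)
    (hstar : ∀ R : Set (Subgroup ↥(Nz X)), IsInv R → X.subgroupOf (Nz X) ∈ R →
      (∀ P ∈ R, ∀ Q : Subgroup ↥(Nz X), X.subgroupOf (Nz X) ≤ Q → Q ≤ P → Q ∈ R) →
      (∀ P : Subgroup ↥(Nz X), IsPGroup p P → X.subgroupOf (Nz X) ≤ P →
        sSup {A : Subgroup ↥(Nz X) | A ≤ P ∧ (X.subgroupOf (Nz X) ≤ A ∧
          (∀ a ∈ A, ∀ b ∈ A, a * b * a⁻¹ * b⁻¹ ∈ X.subgroupOf (Nz X)) ∧
          ∀ B : Subgroup ↥(Nz X), X.subgroupOf (Nz X) ≤ B → B ≤ A →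
            Nat.card B * Nat.card (DFix B (ZM X)) ≤ Nat.card A * Nat.card (DFix A (ZM X)))} ∈ R → P ∈ R) →
      Van ↥(Nz X) (FixPt X Ω) (ZM X) R (n + 2)) :
    ((Coef.Z p G).restr (Nz X)).Van (FixPt X Ω)
      {Q : Subgroup ↥(Nz X) | Centric p (Q.map (Nz X).subtype) ∧ JT (Q.map (Nz X).subtype) = X} (n + 2) := by
  apply van_piece' hΩ X
  apply van_congr (V := {P : Subgroup ↥(Nz X) | JT (P.map (Nz X).subtype) = X}) _ (hstar _ _ _ _ _)
  · intro k x
    refine ⟨fun h => ⟨⟨?_, h⟩, isPGroup_st_fixPt hΩ X x⟩, fun h => h.1.2⟩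
    have h1 := Subgroup.map_mono (f := (Nz X).subtype) (le_st_fixPt X x)
    rw [map_subgroupOf] at h1
    exact centric_mono h1 hXc
  · intro g P hP
    show JT ((cj g P).map (Nz X).subtype) = X
    rw [map_cj, (JT_conj _ _).1, show JT (P.map (Nz X).subtype) = X from hP, cj_self]
  · show JT ((X.subgroupOf (Nz X)).map (Nz X).subtype) = X
    rw [map_subgroupOf, hX]
  · intro P hP Q hXQ hQP
    have hP' : JT (P.map (Nz X).subtype) = X := hP
    have h1 := Subgroup.map_mono (f := (Nz X).subtype) hXQ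
    rw [map_subgroupOf] at h1
    show JT (Q.map (Nz X).subtype) = X
    rw [JT_sandwich ((le_of_eq hP').trans h1) (Subgroup.map_mono hQP), hP']
  · intro P _ hXP hJ
    exact jt_of_offenders hX P hXP hJ

end

end Cfsg.Agent.H679.Lim
end

-- part: H473/Lim/Coef
section
/-!
# S5242, F1 (helper473): general coefficient systems

* `Coef.dd_dd`; `Coef.dd_equiv` : the coboundary of an equivariant cochain is equivariant;
* `Coef.van_two1`, `Coef.van_two3` : two out of three for a convex set `V` and an upper set `U`;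
* `Coef.van_of_filt` : filtrations.
-/

set_option autoImplicit false
set_option linter.unusedSectionVars false

namespace Cfsg.Agent.H473.Lim

open MulAction Cfsg.Agent.H539.Lim

universe u v w

/-- double faces cancel -/
theorem double_sum {M : Type*} [AddCommGroup M] {k : ℕ} (F : (Fin k → Fin (k + 2)) → M) :
    ∑ i : Fin (k + 2), ((-1 : ℤ) ^ (i : ℕ)) • ∑ j : Fin (k + 1), ((-1 : ℤ) ^ (j : ℕ)) •
      F (fun l => i.succAbove (j.succAbove l)) = 0 := by
  simp only [Finset.smul_sum, smul_smul, ← pow_add]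
  rw [← Fintype.sum_prod_type' (f := fun (i : Fin (k + 2)) (j : Fin (k + 1)) =>
    ((-1 : ℤ) ^ ((i : ℕ) + (j : ℕ))) • F (fun l => i.succAbove (j.succAbove l)))]
  refine Finset.sum_involution (fun p _ => (p.1.succAbove p.2, p.2.predAbove p.1)) ?_ ?_ (by simp) ?_
  · rintro ⟨i, j⟩ _
    have h1 : (fun l => (i.succAbove j).succAbove ((j.predAbove i).succAbove l)) =
        fun l => i.succAbove (j.succAbove l) := by
      funext l
      exact Fin.succAbove_succAbove_succAbove_predAbove i j l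
    have h2 := Fin.neg_one_pow_succAbove_add_predAbove (R := ℤ) i j
    simp only [h1, h2, neg_smul]
    exact add_neg_cancel _
  · rintro ⟨i, j⟩ _ _ h
    have h1 := congrArg Prod.fst h
    exact Fin.succAbove_ne i j h1
  · rintro ⟨i, j⟩ _
    simp [Fin.succAbove_succAbove_predAbove, Fin.predAbove_predAbove_succAbove]

section

variable {G : Type u} [Group G] (C : Coef.{u, w} G)

theorem tau_congr {g g' : G} (hg : g = g') {P Q : Subgroup G} (h : ∀ u ∈ P, g * u * g⁻¹ ∈ Q)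
    (h' : ∀ u ∈ P, g' * u * g'⁻¹ ∈ Q) (m : C.M Q) : C.τ g P Q h m = C.τ g' P Q h' m := by
  subst hg
  rfl

theorem res_res {P Q R : Subgroup G} (h1 : P ≤ Q) (h2 : Q ≤ R) (m : C.M R) :
    C.res h1 (C.res h2 m) = C.res (h1.trans h2) m := by
  unfold Coef.res
  rw [C.τ_comp 1 1 P Q R _ _ (fun u hu => by simpa using h2 (h1 hu))]
  exact tau_congr C (one_mul 1) _ _ m

theorem tau_res {g : G} {P Q R : Subgroup G} (h : ∀ u ∈ P, g * u * g⁻¹ ∈ Q) (h2 : Q ≤ R) (m : C.M R) :
    C.τ g P Q h (C.res h2 m) = C.τ g P R (fun u hu => h2 (h u hu)) m := by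
  unfold Coef.res
  rw [C.τ_comp g 1 P Q R _ _ (fun u hu => by simpa using h2 (h u hu))]
  exact tau_congr C (one_mul g) _ _ m

theorem res_tau {g : G} {P Q R : Subgroup G} (h1 : P ≤ Q) (h : ∀ u ∈ Q, g * u * g⁻¹ ∈ R) (m : C.M R) :
    C.res h1 (C.τ g Q R h m) = C.τ g P R (fun u hu => h u (h1 hu)) m := by
  unfold Coef.res
  rw [C.τ_comp 1 g P Q R _ _ (fun u hu => by simpa using h u (h1 hu))]
  exact tau_congr C (mul_one g) _ _ m

variable {Ω : Type v} [MulAction G Ω]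

theorem st_comp_le {k l : ℕ} (x : Fin k → Ω) (f : Fin l → Fin k) : st G x ≤ st G (fun j => x (f j)) := by
  intro g hg
  rw [MulAction.mem_stabilizer_iff] at hg ⊢
  funext j
  exact congrFun hg (f j)

/- F1 -/
theorem Coef.dd_dd {k : ℕ} (c : ∀ x : Fin k → Ω, C.M (st G x)) (x : Fin (k + 2) → Ω) :
    C.dd (fun y => C.dd c y) x = 0 := by
  have h := double_sum (M := C.M (st G x)) fun f : Fin k → Fin (k + 2) =>
    C.res (st_comp_le x f) (c fun l => x (f l))
  rw [← h]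
  unfold Cfsg.Agent.H539.Lim.Coef.dd
  refine Finset.sum_congr rfl fun i _ => ?_
  congr 1
  rw [map_sum]
  refine Finset.sum_congr rfl fun j _ => ?_
  rw [map_zsmul, res_res]

theorem Coef.dd_add {k : ℕ} (c c' : ∀ x : Fin k → Ω, C.M (st G x)) (x : Fin (k + 1) → Ω) :
    C.dd (fun y => c y + c' y) x = C.dd c x + C.dd c' x := by
  unfold Cfsg.Agent.H539.Lim.Coef.dd
  rw [← Finset.sum_add_distrib]
  refine Finset.sum_congr rfl fun i _ => ?_
  rw [map_add, smul_add]

theorem Coef.dd_sub {k : ℕ} (c c' : ∀ x : Fin k → Ω, C.M (st G x)) (x : Fin (k + 1) → Ω) :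
    C.dd (fun y => c y - c' y) x = C.dd c x - C.dd c' x := by
  unfold Cfsg.Agent.H539.Lim.Coef.dd
  rw [← Finset.sum_sub_distrib]
  refine Finset.sum_congr rfl fun i _ => ?_
  rw [map_sub, smul_sub]

/-- the coboundary depends on the faces only -/
theorem Coef.dd_congr {k : ℕ} {c c' : ∀ x : Fin k → Ω, C.M (st G x)} {x : Fin (k + 1) → Ω}
    (h : ∀ i : Fin (k + 1), c (fun j => x (i.succAbove j)) = c' (fun j => x (i.succAbove j))) :
    C.dd c x = C.dd c' x := by
  unfold Cfsg.Agent.H539.Lim.Coef.dd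
  refine Finset.sum_congr rfl fun i _ => ?_
  rw [h i]

theorem Coef.dd_zero {k : ℕ} {c : ∀ x : Fin k → Ω, C.M (st G x)} {x : Fin (k + 1) → Ω}
    (h : ∀ i : Fin (k + 1), c (fun j => x (i.succAbove j)) = 0) : C.dd c x = 0 := by
  unfold Cfsg.Agent.H539.Lim.Coef.dd
  refine Finset.sum_eq_zero fun i _ => ?_
  rw [h i, map_zero, smul_zero]

theorem Coef.dd_equiv {k : ℕ} {c : ∀ x : Fin k → Ω, C.M (st G x)}
    (hc : ∀ (g : G) (x : Fin k → Ω), C.τ g (st G x) (st G (g • x)) (Coef.conj_st G g x) (c (g • x)) = c x)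
    (g : G) (x : Fin (k + 1) → Ω) :
    C.τ g (st G x) (st G (g • x)) (Coef.conj_st G g x) (C.dd c (g • x)) = C.dd c x := by
  unfold Cfsg.Agent.H539.Lim.Coef.dd
  rw [map_sum]
  refine Finset.sum_congr rfl fun i _ => ?_
  rw [map_zsmul, tau_res, ← hc g (fun j => x (i.succAbove j)), res_tau]
  rfl

/-! ### truncation -/

open Classical in
/-- truncation of a function to the tuples with stabilizer in `V` -/
noncomputable def trunc (V : Set (Subgroup G)) {k : ℕ} (c : ∀ x : Fin k → Ω, C.M (st G x)) :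
    ∀ x : Fin k → Ω, C.M (st G x) :=
  fun x => if st G x ∈ V then c x else 0

variable {C} in
theorem trunc_mem {V : Set (Subgroup G)} {k : ℕ} {c : ∀ x : Fin k → Ω, C.M (st G x)} {x : Fin k → Ω}
    (h : st G x ∈ V) : trunc C V c x = c x := if_pos h

variable {C} in
theorem trunc_not {V : Set (Subgroup G)} {k : ℕ} {c : ∀ x : Fin k → Ω, C.M (st G x)} {x : Fin k → Ω}
    (h : st G x ∉ V) : trunc C V c x = 0 := if_neg h

variable (G) in
theorem st_smul {k : ℕ} (g : G) (x : Fin k → Ω) : st G (g • x) = cj g (st G x) :=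
  MulAction.stabilizer_smul_eq_stabilizer_map_conj g x

theorem st_smul_mem {V : Set (Subgroup G)} (hVi : IsInv V) {k : ℕ} (g : G) (x : Fin k → Ω) :
    st G (g • x) ∈ V ↔ st G x ∈ V := by
  constructor
  · intro h
    have h1 := hVi g⁻¹ _ h
    rw [← st_smul, inv_smul_smul] at h1
    exact h1
  · intro h
    rw [st_smul]
    exact hVi g _ h

theorem trunc_equiv {V : Set (Subgroup G)} (hVi : IsInv V) {k : ℕ} {c : ∀ x : Fin k → Ω, C.M (st G x)}
    (hc : ∀ (g : G) (x : Fin k → Ω), C.τ g (st G x) (st G (g • x)) (Coef.conj_st G g x) (c (g • x)) = c x)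
    (g : G) (x : Fin k → Ω) :
    C.τ g (st G x) (st G (g • x)) (Coef.conj_st G g x) (trunc C V c (g • x)) = trunc C V c x := by
  by_cases h : st G x ∈ V
  · rw [trunc_mem h, trunc_mem ((st_smul_mem hVi g x).mpr h), hc]
  · rw [trunc_not h, trunc_not (fun h1 => h ((st_smul_mem hVi g x).mp h1)), map_zero]

theorem face_mem {U : Set (Subgroup G)} (hU : IsUpperSet U) {k : ℕ} {x : Fin (k + 1) → Ω}
    (h : st G x ∈ U) (i : Fin (k + 1)) : st G (fun j => x (i.succAbove j)) ∈ U :=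
  hU (Coef.st_succAbove_le G x i) h

variable {C} in
theorem Coef.dd_trunc {U : Set (Subgroup G)} (hU : IsUpperSet U) {k : ℕ} {c : ∀ x : Fin k → Ω, C.M (st G x)}
    {x : Fin (k + 1) → Ω} (h : st G x ∈ U) : C.dd (trunc C U c) x = C.dd c x :=
  Coef.dd_congr C fun i => trunc_mem (face_mem hU h i)

variable {C} in
/-- the main remark -/
theorem Coef.dd_trunc_dd {V : Set (Subgroup G)} (hV : V.OrdConnected) {k : ℕ}
    {b : ∀ x : Fin k → Ω, C.M (st G x)} (hb : ∀ x, st G x ∉ V → b x = 0)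
    {x : Fin (k + 2) → Ω} (h : st G x ∈ V) : C.dd (trunc C V (fun y => C.dd b y)) x = 0 := by
  rw [← Coef.dd_dd C b x]
  refine Coef.dd_congr C fun i => ?_
  by_cases h1 : st G (fun j => x (i.succAbove j)) ∈ V
  · exact trunc_mem h1
  · rw [trunc_not h1]
    refine (Coef.dd_zero C fun j => hb _ fun h2 => h1 ?_).symm
    exact hV.out h h2 ⟨Coef.st_succAbove_le G x i, Coef.st_succAbove_le G _ j⟩

theorem Coef.van_two1 {V U : Set (Subgroup G)} (hV : V.OrdConnected) (hVi : IsInv V) (hU : IsUpperSet U)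
    (hUi : IsInv U) {n : ℕ} (h1 : C.Van Ω (V \ U) n) (h2 : C.Van Ω (V ∩ U) n) : C.Van Ω V n := by
  cases n with
  | zero =>
    intro c hc hz x
    have h3 := h2 (trunc C U c) ⟨trunc_equiv C hUi hc.equiv, fun y hy => by
      by_cases hyU : st G y ∈ U
      · rw [trunc_mem hyU]
        exact hc.supp y fun h => hy ⟨h, hyU⟩
      · exact trunc_not hyU⟩ (fun y hy => by rw [Coef.dd_trunc hU hy.2]; exact hz y hy.1)
    refine h1 c ⟨hc.equiv, fun y hy => ?_⟩ (fun y hy => hz y hy.1) x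
    by_cases hyU : st G y ∈ U
    · rw [← h3 y, trunc_mem hyU]
    · exact hc.supp y fun h => hy ⟨h, hyU⟩
  | succ n =>
    intro c hc hz
    obtain ⟨b2, hb2, hb2'⟩ := h2 (trunc C U c) ⟨trunc_equiv C hUi hc.equiv, fun y hy => by
      by_cases hyU : st G y ∈ U
      · rw [trunc_mem hyU]
        exact hc.supp y fun h => hy ⟨h, hyU⟩
      · exact trunc_not hyU⟩ (fun y hy => by rw [Coef.dd_trunc hU hy.2]; exact hz y hy.1)
    have hb2V : ∀ x, st G x ∉ V → b2 x = 0 := fun x hx => hb2.supp x fun h => hx h.1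
    obtain ⟨b1, hb1, hb1'⟩ := h1 (fun y => c y - trunc C V (fun z => C.dd b2 z) y)
      ⟨fun g x => by
        rw [map_sub, hc.equiv g x, trunc_equiv C hVi (Coef.dd_equiv C hb2.equiv) g x], fun y hy => by
        by_cases hyV : st G y ∈ V
        · have hyU : st G y ∈ U := by
            by_contra h
            exact hy ⟨hyV, h⟩
          show c y - trunc C V (fun z => C.dd b2 z) y = 0
          rw [trunc_mem hyV, ← hb2' y ⟨hyV, hyU⟩, trunc_mem hyU, sub_self]
        · show c y - trunc C V (fun z => C.dd b2 z) y = 0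
          rw [trunc_not hyV, hc.supp y hyV, sub_zero]⟩
      (fun y hy => by
        rw [Coef.dd_sub, hz y hy.1, Coef.dd_trunc_dd hV hb2V hy.1, sub_zero])
    refine ⟨fun x => b1 x + b2 x, ⟨fun g x => ?_, fun x hx => ?_⟩, fun x hx => ?_⟩
    · rw [map_add, hb1.equiv, hb2.equiv]
    · show b1 x + b2 x = 0
      rw [hb1.supp x fun h => hx h.1, hb2.supp x fun h => hx h.1, add_zero]
    · rw [Coef.dd_add]
      by_cases hxU : st G x ∈ U
      · rw [Coef.dd_zero C (c := b1) fun i => hb1.supp _ fun h => h.2 (face_mem hU hxU i), zero_add,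
          ← hb2' x ⟨hx, hxU⟩, trunc_mem hxU]
      · rw [← hb1' x ⟨hx, hxU⟩, trunc_mem hx, sub_add_cancel]

theorem Coef.van_two3 {V U : Set (Subgroup G)} (hV : V.OrdConnected) (hVi : IsInv V) (hU : IsUpperSet U)
    (hUi : IsInv U) {n : ℕ} (h1 : C.Van Ω V n) (h2 : C.Van Ω (V \ U) (n + 1)) :
    C.Van Ω (V ∩ U) n := by
  have key : ∀ (c : ∀ x : Fin (n + 1) → Ω, C.M (st G x)), C.IsCoch (V ∩ U) c → C.IsCoc (V ∩ U) c →
      ∃ b : (∀ x : Fin (n + 1) → Ω, C.M (st G x)), C.IsCoch (V \ U) b ∧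
        C.IsCoc V (fun x => c x - b x) := by
    intro c hc hz
    have hcV : ∀ x, st G x ∉ V → c x = 0 := fun x hx => hc.supp x fun h => hx h.1
    obtain ⟨b, hb, hb'⟩ := h2 (trunc C V (fun z => C.dd c z))
      ⟨trunc_equiv C hVi (Coef.dd_equiv C hc.equiv), fun y hy => by
        by_cases hyV : st G y ∈ V
        · have hyU : st G y ∈ U := by
            by_contra h
            exact hy ⟨hyV, h⟩
          rw [trunc_mem hyV]
          exact hz y ⟨hyV, hyU⟩
        · exact trunc_not hyV⟩ (fun y hy => Coef.dd_trunc_dd hV hcV hy.1)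
    refine ⟨b, hb, fun x hx => ?_⟩
    rw [Coef.dd_sub]
    by_cases hxU : st G x ∈ U
    · rw [hz x ⟨hx, hxU⟩, Coef.dd_zero C (c := b) fun i => hb.supp _ fun h => h.2 (face_mem hU hxU i),
        sub_zero]
    · rw [← hb' x ⟨hx, hxU⟩, trunc_mem hx, sub_self]
  cases n with
  | zero =>
    intro c hc hz x
    obtain ⟨b, hb, hbz⟩ := key c hc hz
    have h3 := h1 (fun x => c x - b x) ⟨fun g x => by rw [map_sub, hc.equiv, hb.equiv], fun y hy => by
      show c y - b y = 0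
      rw [hc.supp y fun h => hy h.1, hb.supp y fun h => hy h.1, sub_zero]⟩ hbz
    by_cases hx : st G x ∈ V ∩ U
    · have h4 := h3 x
      rw [hb.supp x fun h => h.2 hx.2, sub_zero] at h4
      exact h4
    · exact hc.supp x hx
  | succ n =>
    intro c hc hz
    obtain ⟨b, hb, hbz⟩ := key c hc hz
    obtain ⟨a, ha, ha'⟩ := h1 (fun x => c x - b x)
      ⟨fun g x => by rw [map_sub, hc.equiv, hb.equiv], fun y hy => by
        show c y - b y = 0
        rw [hc.supp y fun h => hy h.1, hb.supp y fun h => hy h.1, sub_zero]⟩ hbz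
    refine ⟨trunc C U a, ⟨trunc_equiv C hUi ha.equiv, fun y hy => ?_⟩, fun x hx => ?_⟩
    · by_cases hyU : st G y ∈ U
      · rw [trunc_mem hyU]
        exact ha.supp y fun h => hy ⟨h, hyU⟩
      · exact trunc_not hyU
    · have h4 := ha' x hx.1
      rw [hb.supp x fun h => h.2 hx.2, sub_zero] at h4
      rw [h4, Coef.dd_trunc hU hx.2]

theorem Coef.van_empty (n : ℕ) : C.Van Ω (∅ : Set (Subgroup G)) n := by
  cases n with
  | zero =>
    intro c hc _ x
    exact hc.supp x fun h => h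
  | succ n =>
    intro c hc _
    exact ⟨fun x => 0, ⟨fun g x => map_zero _, fun x _ => rfl⟩, fun x hx => absurd hx fun h => h⟩

theorem Coef.van_of_filt [Finite G] {V : Set (Subgroup G)} (hV : V.OrdConnected) (hVi : IsInv V)
    (f : Subgroup G → ℕ) (hf : ∀ P ∈ V, ∀ Q ∈ V, P ≤ Q → f P ≤ f Q)
    (hfi : ∀ (g : G), ∀ P ∈ V, f (cj g P) = f P) (n : ℕ)
    (h : ∀ i, C.Van Ω {P | P ∈ V ∧ f P = i} n) : C.Van Ω V n := by
  classical
  have key : ∀ i : ℕ, C.Van Ω {P | P ∈ V ∧ f P < i} n := by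
    intro i
    induction i with
    | zero =>
      have : {P : Subgroup G | P ∈ V ∧ f P < 0} = ∅ := by
        ext P
        simp
      rw [this]
      exact Coef.van_empty C n
    | succ i ih =>
      have hW : ({P : Subgroup G | P ∈ V ∧ f P < i + 1}).OrdConnected := by
        refine ⟨?_⟩
        rintro P hP Q hQ R ⟨h1, h2⟩
        have hR : R ∈ V := hV.out hP.1 hQ.1 ⟨h1, h2⟩
        exact ⟨hR, lt_of_le_of_lt (hf R hR Q hQ.1 h2) hQ.2⟩
      have hWi : IsInv {P : Subgroup G | P ∈ V ∧ f P < i + 1} := by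
        rintro g P hP
        exact ⟨hVi g P hP.1, by rw [hfi g P hP.1]; exact hP.2⟩
      have hU : IsUpperSet {P : Subgroup G | ∃ Q ∈ V, Q ≤ P ∧ i ≤ f Q} := by
        rintro P P' hPP ⟨Q, hQ, hQP, hi⟩
        exact ⟨Q, hQ, hQP.trans hPP, hi⟩
      have hUi : IsInv {P : Subgroup G | ∃ Q ∈ V, Q ≤ P ∧ i ≤ f Q} := by
        rintro g P ⟨Q, hQ, hQP, hi⟩
        exact ⟨cj g Q, hVi g Q hQ, Subgroup.map_mono hQP, by rw [hfi g Q hQ]; exact hi⟩
      refine Coef.van_two1 C hW hWi hU hUi ?_ ?_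
      · have : {P : Subgroup G | P ∈ V ∧ f P < i + 1} \ {P : Subgroup G | ∃ Q ∈ V, Q ≤ P ∧ i ≤ f Q} =
            {P : Subgroup G | P ∈ V ∧ f P < i} := by
          ext P
          constructor
          · rintro ⟨⟨h1, h2⟩, h3⟩
            refine ⟨h1, ?_⟩
            by_contra h4
            exact h3 ⟨P, h1, le_refl _, not_lt.mp h4⟩
          · rintro ⟨h1, h2⟩
            refine ⟨⟨h1, by omega⟩, ?_⟩
            rintro ⟨Q, hQ, hQP, hi⟩
            have := hf Q hQ P h1 hQP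
            omega
        rw [this]
        exact ih
      · have : {P : Subgroup G | P ∈ V ∧ f P < i + 1} ∩ {P : Subgroup G | ∃ Q ∈ V, Q ≤ P ∧ i ≤ f Q} =
            {P : Subgroup G | P ∈ V ∧ f P = i} := by
          ext P
          constructor
          · rintro ⟨⟨h1, h2⟩, Q, hQ, hQP, hi⟩
            have := hf Q hQ P h1 hQP
            exact ⟨h1, by omega⟩
          · rintro ⟨h1, h2⟩
            exact ⟨⟨h1, by omega⟩, P, h1, le_refl _, by omega⟩
        rw [this]
        exact h i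
  obtain ⟨N, hN⟩ := (Set.finite_range f).bddAbove
  have h1 : {P : Subgroup G | P ∈ V ∧ f P < N + 1} = V := by
    ext P
    constructor
    · exact fun hP => hP.1
    · exact fun hP => ⟨hP, Nat.lt_succ_of_le (hN ⟨P, rfl⟩)⟩
  rw [← h1]
  exact key (N + 1)

end

end Cfsg.Agent.H473.Lim
end

-- part: H539/Lim/ThmA
section
/-!
# S5242 (TEAM LIM), piece GA3: the noncentric pieces and Theorem A
-/

set_option autoImplicit false

namespace Cfsg.Agent.H539.Lim.PA

open MulAction Cfsg.Agent.H539.Lim Cfsg.Agent.H647.Lim Cfsg.Agent.H835.Lim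

universe u v w

variable {G : Type u} [Group G] {Ω : Type v} [MulAction G Ω]

/-- **the pieces with noncentric Thompson subgroup vanish in all degrees** -/
theorem piece_noncentric {p : ℕ} [Fact p.Prime] [Finite G] [Finite Ω] (hΩ : PSet p G Ω) (X : Subgroup G)
    (hXp : IsPGroup p X) (_hX : JT X = X) (hXc : ¬ Centric p X) (n : ℕ) :
    ((Coef.Z p G).restr (Nz X)).Van (FixPt X Ω)
      {Q : Subgroup ↥(Nz X) | Centric p (Q.map (Nz X).subtype) ∧ JT (Q.map (Nz X).subtype) = X} n := by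
  apply piece_of_mod hΩ X hXp
  unfold Centric at hXc
  push Not at hXc
  obtain ⟨u, hu, hk, huX⟩ := hXc
  have hY : (X.subgroupOf (Nz X)).Normal := Subgroup.normal_in_normalizer
  have hC : ((Subgroup.centralizer (X : Set G)).subgroupOf (Nz X)).Normal := by
    constructor
    intro c hc g
    rw [Subgroup.mem_subgroupOf, Subgroup.mem_centralizer_iff] at hc ⊢
    intro x hx
    have h1 : (g : G)⁻¹ * x * g ∈ X := by
      have := (Subgroup.mem_normalizer_iff.mp (Subgroup.inv_mem _ g.2) x).mp hx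
      simpa using this
    have h2 := hc _ h1
    rw [Subgroup.coe_mul, Subgroup.coe_mul, Subgroup.coe_inv]
    calc x * ((g : G) * c * (g : G)⁻¹) = (g : G) * (((g : G)⁻¹ * x * g) * c) * (g : G)⁻¹ := by group
      _ = (g : G) * (c * ((g : G)⁻¹ * x * g)) * (g : G)⁻¹ := by rw [h2]
      _ = (g : G) * c * (g : G)⁻¹ * x := by group
  have huN : u ∈ Nz X := by
    rw [Subgroup.mem_normalizer_iff]
    intro x
    constructor
    · intro hx
      rw [hu x hx, mul_inv_cancel_right]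
      exact hx
    · intro hx
      have h1 := hu _ hx
      have h2 : u * x * u⁻¹ = x := by
        have h3 : u * (u * x * u⁻¹) * u⁻¹ = u * x * u⁻¹ := by rw [h1]; group
        have h4 : u⁻¹ * (u * (u * x * u⁻¹) * u⁻¹) * u = u⁻¹ * (u * x * u⁻¹) * u := by rw [h3]
        have h5 : u⁻¹ * (u * (u * x * u⁻¹) * u⁻¹) * u = u * x * u⁻¹ := by group
        have h6 : u⁻¹ * (u * x * u⁻¹) * u = x := by group
        rw [h5, h6] at h4
        exact h4
      rwa [h2] at hx
  refine Cfsg.Agent.H486.Lim.van_disjoint (Cfsg.Agent.H95.Lim.pset_fixPt hΩ X hXp) (isPTors_DZ hXp) (X.subgroupOf (Nz X))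
    ((Subgroup.centralizer (X : Set G)).subgroupOf (Nz X)) ?_ ?_ ?_ (VX_ordConnected X) (VX_inv X) ?_ n
  · intro x y hy
    rw [Subgroup.mem_subgroupOf] at hy
    rw [mem_stabilizer_iff]
    apply Subtype.ext
    rw [FixPt.coe_smul]
    exact x.2 hy
  · intro c hc d
    rw [Subgroup.mem_subgroupOf, Subgroup.mem_centralizer_iff] at hc
    rw [DZ.smul_eq_iff]
    exact (hc _ d.val_mem.1).symm
  · refine ⟨⟨u, huN⟩, ?_, ?_, ?_⟩
    · rw [Subgroup.mem_subgroupOf, Subgroup.mem_centralizer_iff]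
      intro x hx
      exact (hu x hx).symm
    · obtain ⟨k, hk⟩ := hk
      exact ⟨k, Subtype.ext hk⟩
    · rw [Subgroup.mem_subgroupOf]
      exact huX
  · rintro P ⟨-, -, hP⟩ c hc
    obtain ⟨hc1, hc2⟩ := Subgroup.mem_inf.1 hc
    rw [Subgroup.mem_subgroupOf, Subgroup.mem_centralizer_iff] at hc2
    rw [Subgroup.mem_subgroupOf]
    have h1 : (c : G) ∈ JT (P.map (Nz X).subtype) := by
      apply centralizer_JT _ _ (Subgroup.mem_map_of_mem _ hc1)
      intro v hv
      rw [hP] at hv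
      exact (hc2 v hv).symm
    rwa [hP] at h1

theorem piece_centric {p : ℕ} [Fact p.Prime] [Finite G] [Finite Ω] (hΩ : PSet p G Ω) (X : Subgroup G)
    (hXp : IsPGroup p X) (hX : JT X = X) (hXc : Centric p X) (n : ℕ) :
    ((Coef.Z p G).restr (Nz X)).Van (FixPt X Ω)
      {Q : Subgroup ↥(Nz X) | Centric p (Q.map (Nz X).subtype) ∧ JT (Q.map (Nz X).subtype) = X} (n + 2) := by
  have hY : (X.subgroupOf (Nz X)).Normal := Subgroup.normal_in_normalizer
  refine Cfsg.Agent.H679.Lim.piece_centric_aux hΩ X hX hXc n (fun R h1 h2 h3 h4 => ?_)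
  refine starY (Cfsg.Agent.H95.Lim.pset_fixPt hΩ X hXp) (Cfsg.Agent.H679.Lim.ZM.ptors hXp)
    (X.subgroupOf (Nz X)) ?_ ?_ R h1 h2 h3 h4 n
  · intro x y hy
    rw [Subgroup.mem_subgroupOf] at hy
    rw [mem_stabilizer_iff]
    apply Subtype.ext
    rw [FixPt.coe_smul]
    exact x.2 hy
  · intro u hu d
    rw [Subgroup.mem_subgroupOf] at hu
    rw [Cfsg.Agent.H679.Lim.ZM.smul_eq_iff]
    exact d.val_mem.2 _ hu

/-- the filtration function -/
noncomputable def fJ (P : Subgroup G) : ℕ := dmax P * (Nat.card G + 1) + Nat.card (JT P)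

theorem card_JT_le [Finite G] (P : Subgroup G) : Nat.card (JT P) ≤ Nat.card G := Subgroup.card_le_card_group _

theorem fJ_mono [Finite G] {P Q : Subgroup G} (h : P ≤ Q) : fJ P ≤ fJ Q := by
  rcases (dmax_mono h).lt_or_eq with h1 | h1
  · have h2 := card_JT_le P
    unfold fJ
    have h3 : (dmax P + 1) * (Nat.card G + 1) ≤ dmax Q * (Nat.card G + 1) := Nat.mul_le_mul_right _ h1
    rw [add_mul, one_mul] at h3
    omega
  · unfold fJ
    rw [h1]
    exact Nat.add_le_add_left (Nat.card_le_card_of_injective _ (Subgroup.inclusion_injective (JT_mono h h1))) _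

theorem fJ_eq [Finite G] {P Q : Subgroup G} (h : fJ P = fJ Q) : dmax P = dmax Q ∧ Nat.card (JT P) = Nat.card (JT Q) := by
  unfold fJ at h
  have hP := card_JT_le P
  have hQ := card_JT_le Q
  have h1 : dmax P = dmax Q := by
    rcases lt_trichotomy (dmax P) (dmax Q) with h1 | h1 | h1
    · exfalso
      have h3 : (dmax P + 1) * (Nat.card G + 1) ≤ dmax Q * (Nat.card G + 1) := Nat.mul_le_mul_right _ h1
      rw [add_mul, one_mul] at h3
      omega
    · exact h1
    · exfalso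
      have h3 : (dmax Q + 1) * (Nat.card G + 1) ≤ dmax P * (Nat.card G + 1) := Nat.mul_le_mul_right _ h1
      rw [add_mul, one_mul] at h3
      omega
  rw [h1] at h
  exact ⟨h1, by omega⟩

theorem JT_eq_of_fJ [Finite G] {P Q : Subgroup G} (hPQ : P ≤ Q) (h : fJ P = fJ Q) : JT P = JT Q := by
  obtain ⟨h1, h2⟩ := fJ_eq h
  exact Subgroup.eq_of_le_of_card_ge (JT_mono hPQ h1) h2.ge

/-- **Theorem A** -/
theorem thmA {p : ℕ} [Fact p.Prime] [Finite G] [Finite Ω] (hΩ : PSet p G Ω) (n : ℕ) :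
    (Coef.Z p G).Van Ω {P : Subgroup G | Centric p P} (n + 2) := by
  -- only the `p`-subgroups matter
  refine van_congr_coef hΩ _ (V := {P : Subgroup G | Centric p P ∧ IsPGroup p P}) ?_ ?_
  · intro P hP
    exact ⟨fun h => h.1, fun h => ⟨h, hP⟩⟩
  have hoc : ({P : Subgroup G | Centric p P ∧ IsPGroup p P}).OrdConnected := by
    refine Set.ordConnected_iff.2 ?_
    rintro P ⟨hP1, hP2⟩ Q ⟨hQ1, hQ2⟩ hPQ R ⟨hPR, hRQ⟩
    exact ⟨centric_mono hPR hP1, hQ2.to_le hRQ⟩
  have hinv : IsInv {P : Subgroup G | Centric p P ∧ IsPGroup p P} := by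
    rintro g P ⟨h1, h2⟩
    exact ⟨centric_cj g h1, isPGroup_cj g h2⟩
  have hfc : ∀ (g : G) (P : Subgroup G), fJ (cj g P) = fJ P := by
    intro g P
    unfold fJ
    rw [(JT_conj g P).1, (JT_conj g P).2]
    congr 1
    exact (Nat.card_congr ((JT P).equivMapOfInjective _ (MulAut.conj g).injective).toEquiv).symm
  refine Cfsg.Agent.H473.Lim.Coef.van_of_filt _ hoc hinv fJ (fun P _ Q _ h => fJ_mono h) (fun g P _ => hfc g P) _ ?_
  intro i
  refine Cfsg.Agent.H118.Lim.Coef.van_of_local _ hΩ (V := {P : Subgroup G | P ∈ {P : Subgroup G | Centric p P ∧ IsPGroup p P} ∧ fJ P = i})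
    ?_ JT (fun P _ => JT_le P) (fun g P _ => (JT_conj g P).1) ?_ _ ?_
  · rintro g P ⟨h1, h2⟩
    exact ⟨hinv g P h1, (hfc g P).trans h2⟩
  · rintro P ⟨-, hP⟩ Q ⟨-, hQ⟩ hPQ
    exact JT_eq_of_fJ hPQ (hP.trans hQ.symm)
  · rintro P ⟨⟨hP1, hP2⟩, hP3⟩
    have hXp : IsPGroup p (JT P) := hP2.to_le (JT_le P)
    have hX := JT_JT P
    refine van_congr_coef (Cfsg.Agent.H95.Lim.pset_fixPt hΩ (JT P) hXp) _ (V := {Q : Subgroup ↥(Nz (JT P)) |
      Centric p (Q.map (Nz (JT P)).subtype) ∧ JT (Q.map (Nz (JT P)).subtype) = JT P}) ?_ ?_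
    · intro Q hQ
      constructor
      · rintro ⟨h1, h2⟩
        refine ⟨⟨⟨h1, hQ.map _⟩, ?_⟩, h2⟩
        rw [← hP3]
        unfold fJ
        have h3 := (JT_JT (Q.map (Nz (JT P)).subtype)).2
        rw [h2, hX.2] at h3
        rw [h2, h3]
      · rintro ⟨⟨⟨h1, -⟩, -⟩, h2⟩
        exact ⟨h1, h2⟩
    · by_cases hc : Centric p (JT P)
      · exact piece_centric hΩ (JT P) hXp hX.1 hc n
      · exact piece_noncentric hΩ (JT P) hXp hX.1 hc (n + 2)

end Cfsg.Agent.H539.Lim.PA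
end
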