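import Cfsg.Agent.H539.Lim.DefsZ
import Cfsg.Agent.H539.Lim.ThmA
import Cfsg.Agent.H309.Lim.Norm
import Cfsg.Agent.H425.Lim.Corr
import Cfsg.Agent.H118.Lim.Local_mg
import Cfsg.Agent.H425.Lim.Pull
import Cfsg.Agent.H539.Lim.Defs
import Cfsg.Agent.H425.Lim.Quo
set_option linter.all false

-- part: H119/Lim/Single
section
/-!
# S5242, H2a: vanishing on a single subgroup `P` (helper119)
-/

set_option autoImplicit false

namespace Cfsg.Agent.H119.Lim

open MulAction Cfsg.Agent.H539.Lim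

universe u v w

variable {G : Type u} [Group G]

theorem tau_eq (C : Coef.{u, w} G) {g g' : G} (hg : g = g') {P Q : Subgroup G} (h : ∀ u ∈ P, g * u * g⁻¹ ∈ Q)
    (h' : ∀ u ∈ P, g' * u * g'⁻¹ ∈ Q) (m : C.M Q) : C.τ g P Q h m = C.τ g' P Q h' m := by
  subst hg
  rfl

theorem tau_one (C : Coef.{u, w} G) {P : Subgroup G} (h : ∀ u ∈ P, (1 : G) * u * 1⁻¹ ∈ P) (m : C.M P) :
    C.τ 1 P P h m = m := C.τ_inner P 1 P.one_mem h m

theorem nz_conj {P : Subgroup G} (n : ↥(Nz P)) : ∀ u ∈ P, (n : G) * u * (n : G)⁻¹ ∈ P := fun u hu =>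
  (Subgroup.mem_normalizer_iff.mp n.2 u).mp hu

/-- `M(P)` as a module of the normalizer of `P` -/
def MMod (C : Coef.{u, w} G) (P : Subgroup G) : Type w := C.M P

instance instAcgMMod (C : Coef.{u, w} G) (P : Subgroup G) : AddCommGroup (MMod C P) :=
  inferInstanceAs (AddCommGroup (C.M P))

instance instActMMod (C : Coef.{u, w} G) (P : Subgroup G) : DistribMulAction ↥(Nz P) (MMod C P) where
  smul n m := C.τ ((n⁻¹ : ↥(Nz P)) : G) P P (nz_conj n⁻¹) m
  one_smul m := (tau_eq C (by simp) _ (fun u hu => by simpa using hu) m).trans (tau_one C _ m)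
  mul_smul a b m := by
    refine Eq.trans ?_ (C.τ_comp ((a⁻¹ : ↥(Nz P)) : G) ((b⁻¹ : ↥(Nz P)) : G) P P P (nz_conj a⁻¹) (nz_conj b⁻¹)
      (nz_conj (b⁻¹ * a⁻¹)) m).symm
    exact tau_eq C (by simp) _ _ m
  smul_zero n := map_zero _
  smul_add n a b := map_add _ _ _

theorem MMod.smul_def (C : Coef.{u, w} G) (P : Subgroup G) (n : ↥(Nz P)) (m : MMod C P) :
    n • m = C.τ ((n⁻¹ : ↥(Nz P)) : G) P P (nz_conj n⁻¹) m := rfl

/-- `M(Q) ≃ M(P)` for `Q = P` -/
def eqEquiv (C : Coef.{u, w} G) {P Q : Subgroup G} (h : Q = P) : C.M Q ≃+ C.M P where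
  toFun := C.τ 1 P Q (fun u hu => by rw [h]; simpa using hu)
  invFun := C.τ 1 Q P (fun u hu => by rw [← h]; simpa using hu)
  left_inv m := (C.τ_comp 1 1 Q P Q _ _ (fun u hu => by simpa using hu) m).trans
    ((tau_eq C (by simp) _ (fun u hu => by simpa using hu) m).trans (tau_one C _ m))
  right_inv m := (C.τ_comp 1 1 P Q P _ _ (fun u hu => by simpa using hu) m).trans
    ((tau_eq C (by simp) _ (fun u hu => by simpa using hu) m).trans (tau_one C _ m))
  map_add' := map_add _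

instance normal_subgroupOf_nz (P : Subgroup G) : (P.subgroupOf (Nz P)).Normal := ⟨fun u hu n => by
  rw [Subgroup.mem_subgroupOf] at hu ⊢
  exact nz_conj n _ hu⟩

theorem map_subgroupOf_nz (P : Subgroup G) : (P.subgroupOf (Nz P)).map (Nz P).subtype = P := by
  rw [Subgroup.subgroupOf_map_subtype, inf_eq_left]
  exact Subgroup.le_normalizer

theorem eq_subgroupOf_nz {P : Subgroup G} {Q : Subgroup ↥(Nz P)} (h : Q.map (Nz P).subtype = P) :
    Q = P.subgroupOf (Nz P) :=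
  Subgroup.map_injective (Nz P).subtype_injective (h.trans (map_subgroupOf_nz P).symm)

/-- `P` acts trivially on `M(P)` -/
theorem smul_of_mem (C : Coef.{u, w} G) {P : Subgroup G} {n : ↥(Nz P)} (hn : (n : G) ∈ P) (m : MMod C P) :
    n • m = m := C.τ_inner P _ (by simpa using hn) _ m

/-- vanishing of `H^n({P}; M)` if a normal subgroup `W` of the normalizer of `P` acts trivially on `M(P)` and contains
a `p`-element outside of `P` -/
theorem van_single (C : Coef.{u, w} G) {p : ℕ} [Fact p.Prime] [Finite G] {Ω : Type v} [MulAction G Ω] [Finite Ω]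
    (hΩ : PSet p G Ω) {P : Subgroup G} (hP : IsPGroup p P) [Finite (C.M P)] (hD : IsPTors p (C.M P))
    (W : Subgroup ↥(Nz P)) [W.Normal] (hW : ∀ n ∈ W, ∀ m : C.M P, C.τ (n : G) P P (nz_conj n) m = m)
    (hu : ∃ u ∈ W, (∃ k : ℕ, u ^ (p ^ k) = 1) ∧ (u : G) ∉ P) {V : Set (Subgroup ↥(Nz P))}
    (hV : ∀ Q ∈ V, Q.map (Nz P).subtype = P) (n : ℕ) :
    (C.restr (Nz P)).Van (FixPt P Ω) V n := by
  classical
  have hVY : ∀ Q ∈ V, Q = P.subgroupOf (Nz P) := fun Q hQ => eq_subgroupOf_nz (hV Q hQ)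
  have hVc : V.OrdConnected := ⟨fun P1 h1 P2 h2 P3 h3 => by
    rw [hVY P1 h1, hVY P2 h2] at h3
    rw [le_antisymm h3.2 h3.1, ← hVY P1 h1]
    exact h1⟩
  have hVi : IsInv V := fun g Q hQ => by
    have h1 : cj g Q = Q := by
      rw [hVY Q hQ]
      apply le_antisymm
      · rintro _ ⟨w, hw, rfl⟩
        exact (normal_subgroupOf_nz P).conj_mem w hw g
      · intro w hw
        refine ⟨g⁻¹ * w * g, ?_, by simp [mul_assoc]⟩
        have := (normal_subgroupOf_nz P).conj_mem w hw g⁻¹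
        simpa using this
    rw [h1]
    exact hQ
  have hmem : ∀ n : ↥(Nz P), n ∈ P.subgroupOf (Nz P) ↔ (n : G) ∈ P := fun n => Subgroup.mem_subgroupOf
  have : Finite (MMod C P) := inferInstanceAs (Finite (C.M P))
  have hD' : IsPTors p (MMod C P) := hD
  refine H234.Lim.Coef.van_of_mod (D := MMod C P) (C.restr (Nz P)) hVc hVi
    (fun Q hQ => (eqEquiv C (hV Q hQ)).trans
      { toFun := fun m => (⟨m, fun u hu => smul_of_mem C ((hmem u).1 (by rw [← hVY Q hQ]; exact hu)) m⟩ :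
          ↥(DFix Q (MMod C P)))
        invFun := fun d => d.1
        left_inv := fun _ => rfl
        right_inv := fun _ => rfl
        map_add' := fun _ _ => rfl }) ?_ ?_
  · intro g Q R h hQ hR m
    show C.τ 1 P (Q.map (Nz P).subtype) _ (C.τ (g : G) (Q.map (Nz P).subtype) (R.map (Nz P).subtype) _ m) =
      C.τ ((g⁻¹⁻¹ : ↥(Nz P)) : G) P P (nz_conj g⁻¹⁻¹) (C.τ 1 P (R.map (Nz P).subtype) _ m)
    have e1 := C.τ_comp 1 (g : G) P (Q.map (Nz P).subtype) (R.map (Nz P).subtype)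
      (fun u hu => by rw [hV Q hQ]; simpa using hu) (by
        rintro u ⟨w, hw, rfl⟩
        exact ⟨g * w * g⁻¹, h w hw, rfl⟩) (fun u hu => by
        rw [hV R hR, mul_one]
        exact nz_conj g u hu) m
    have e2 := C.τ_comp ((g⁻¹⁻¹ : ↥(Nz P)) : G) 1 P P (R.map (Nz P).subtype) (nz_conj g⁻¹⁻¹)
      (fun u hu => by rw [hV R hR]; simpa using hu) (fun u hu => by
        rw [hV R hR, one_mul]
        exact nz_conj _ u hu) m
    exact e1.trans ((tau_eq C (by simp) _ _ m).trans e2.symm)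
  · refine H486.Lim.van_disjoint (D := MMod C P) (H95.Lim.pset_fixPt hΩ P hP) hD' (P.subgroupOf (Nz P)) W ?_ ?_ ?_ hVc hVi ?_ n
    · rintro x n hn
      rw [mem_stabilizer_iff]
      exact Subtype.ext (x.2 ((hmem n).1 hn))
    · intro c hc d
      exact hW _ (W.inv_mem hc) d
    · obtain ⟨u, hu, hk, huP⟩ := hu
      exact ⟨u, hu, hk, fun h => huP ((hmem u).1 h)⟩
    · intro Q hQ
      rw [hVY Q hQ]
      exact inf_le_left

end Cfsg.Agent.H119.Lim
end

-- part: H119/Lim/VanK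
section
/-!
# S5242, H2a: `H^n(N'; K) = 0` (helper119)
-/

set_option autoImplicit false

namespace Cfsg.Agent.H119.Lim

open MulAction Cfsg.Agent.H539.Lim

universe u v w

theorem cj_cj_inv {G : Type u} [Group G] (g : G) (P : Subgroup G) : cj g⁻¹ (cj g P) = P := by
  ext u
  rw [cj_mem, cj_mem]
  simp [mul_assoc]

theorem card_cj {G : Type u} [Group G] (g : G) (P : Subgroup G) : Nat.card (cj g P) = Nat.card P :=
  Nat.card_congr (P.equivMapOfInjective _ (MulAut.conj g).injective).toEquiv.symm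

/-- reduction to the single subgroups `P ∈ V` -/
theorem van_of_single {G : Type u} [Group G] (C : Coef.{u, w} G) {p : ℕ} [Fact p.Prime] [Finite G] {Ω : Type v}
    [MulAction G Ω] (hΩ : PSet p G Ω) {V : Set (Subgroup G)} (hV : V.OrdConnected) (hVi : IsInv V) (n : ℕ)
    (h : ∀ P ∈ V, ∀ V' : Set (Subgroup ↥(Nz P)), (∀ Q ∈ V', Q.map (Nz P).subtype = P) →
      (C.restr (Nz P)).Van (FixPt P Ω) V' n) : C.Van Ω V n := by
  refine H473.Lim.Coef.van_of_filt C hV hVi (fun P => Nat.card P)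
    (fun P _ Q _ hPQ => Nat.card_le_card_of_injective _ (Subgroup.inclusion_injective hPQ))
    (fun g P _ => card_cj g P) n fun i => ?_
  have hVi' : IsInv {P | P ∈ V ∧ Nat.card P = i} := fun g P hP => ⟨hVi g P hP.1, by rw [card_cj]; exact hP.2⟩
  refine H118.Lim.Coef.van_of_local C hΩ hVi' (fun P => P)
    (fun P _ => le_refl P) (fun g P _ => rfl) (fun P hP Q hQ hPQ => ?_) n fun P hP => ?_
  · exact Subgroup.eq_of_le_of_card_ge hPQ (by rw [hP.2, hQ.2])
  · exact h P hP.1 _ fun Q hQ => hQ.2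

theorem ordConnected_diff {G : Type u} [Group G] {V U : Set (Subgroup G)} (hV : V.OrdConnected)
    (hU : IsUpperSet U) : (V \ U).OrdConnected :=
  ⟨fun _ h1 _ h2 _ h3 => ⟨hV.out h1.1 h2.1 h3, fun h => h2.2 (hU h3.2 h)⟩⟩

theorem isInv_diff {G : Type u} [Group G] {V U : Set (Subgroup G)} (hV : IsInv V) (hU : IsInv U) :
    IsInv (V \ U) := fun g P hP => ⟨hV g P hP.1, fun h => hP.2 (by
    have := hU g⁻¹ _ h
    rwa [cj_cj_inv] at this)⟩

variable {L : Type u} [Group L]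

theorem kval_nsmul {A P : Subgroup L} (f : (KS A).M P) (n : ℕ) (u : P) : 
    ((((n • f).1 u).toMul : ↥(Subgroup.center L)) : L) = (((f.1 u).toMul : ↥(Subgroup.center L)) : L) ^ n := by
  induction n with
  | zero => rw [zero_smul, pow_zero]; rfl
  | succ n ih => rw [succ_nsmul, pow_succ, ← ih]; rfl

theorem isPTors_K {p : ℕ} [Fact p.Prime] [Finite L] {A : Subgroup L} (hAp : IsPGroup p A) (P : Subgroup L) :
    IsPTors p ((KS A).M P) := by
  intro f
  obtain ⟨b, hb⟩ := IsPGroup.iff_card.1 hAp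
  refine ⟨b, ?_⟩
  apply Subtype.ext
  funext u
  apply Additive.toMul.injective
  apply Subtype.ext
  refine (kval_nsmul f (p ^ b) u).trans ?_
  obtain ⟨c, hc, hf⟩ := f.2
  rw [hf]
  have := pow_card_eq_one' (x := (⟨kc c u, hc u u.2⟩ : A))
  rw [hb] at this
  exact congrArg Subtype.val this

theorem finite_K [Finite L] (A P : Subgroup L) : Finite ((KS A).M P) := by
  have h1 : Finite ↥(Subgroup.center L) := inferInstance
  have h2 : Finite (Additive ↥(Subgroup.center L)) := Finite.of_equiv _ Additive.ofMul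
  have h3 : Finite (↥P → Additive ↥(Subgroup.center L)) := inferInstance
  exact inferInstanceAs (Finite ↥(KP A P))

/-- `{c ∈ N(P) | [c,P] ≤ A}` -/
def WK (A P : Subgroup L) (hA : A ≤ Subgroup.center L) : Subgroup ↥(Nz P) where
  carrier := {c | ∀ u ∈ P, kc (c : L) u ∈ A}
  one_mem' := fun u _ => by
    show kc (1 : L) u ∈ A
    rw [kc_one_left]
    exact A.one_mem
  mul_mem' := by
    rintro a b ha hb u hu
    show kc ((a : L) * b) u ∈ A
    rw [kc_mul_left (hA (hb u hu))]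
    exact A.mul_mem (ha u hu) (hb u hu)
  inv_mem' := by
    rintro a ha u hu
    show kc ((a : L)⁻¹) u ∈ A
    have h3 : kc ((a : L)⁻¹ * a) u = kc (a : L)⁻¹ u * kc (a : L) u := kc_mul_left (hA (ha u hu))
    rw [inv_mul_cancel, kc_one_left] at h3
    rw [eq_inv_of_mul_eq_one_left h3.symm]
    exact A.inv_mem (ha u hu)

theorem mem_WK {A P : Subgroup L} {hA : A ≤ Subgroup.center L} {c : ↥(Nz P)} :
    c ∈ WK A P hA ↔ ∀ u ∈ P, kc (c : L) u ∈ A := Iff.rfl

instance normal_WK (A P : Subgroup L) (hA : A ≤ Subgroup.center L) : (WK A P hA).Normal := ⟨fun c hc g => by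
  intro u hu
  have e : ((g * c * g⁻¹ : ↥(Nz P)) : L) = ((g⁻¹ : ↥(Nz P)) : L)⁻¹ * (c : L) * ((g⁻¹ : ↥(Nz P)) : L) := by simp
  rw [e, kc_conj]
  exact conj_mem_A' hA (hc _ (nz_conj g⁻¹ u hu))⟩

/-- the `p`-element outside of `P` -/
theorem exists_WK {p : ℕ} {A P : Subgroup L} (hA : A ≤ Subgroup.center L) (hAP : A ≤ P) (hP : P ∉ CM p A) :
    ∃ u ∈ WK A P hA, (∃ k : ℕ, u ^ (p ^ k) = 1) ∧ (u : L) ∉ P := by
  have h0 : ∃ u : L, (∀ w ∈ P, kc u w ∈ A) ∧ (∃ k : ℕ, u ^ (p ^ k) = 1) ∧ u ∉ P := by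
    by_contra h
    apply hP
    intro u h1 h2
    by_contra h3
    exact h ⟨u, h1, h2, h3⟩
  obtain ⟨u, h1, ⟨k, hk⟩, h3⟩ := h0
  have h4 : ∀ c : L, (∀ w ∈ P, kc c w ∈ A) → ∀ w ∈ P, c * w * c⁻¹ ∈ P := by
    intro c hc w hw
    have e : c * w * c⁻¹ = kc c w * w := by unfold kc; group
    rw [e]
    exact P.mul_mem (hAP (hc w hw)) hw
  have h5 : ∀ w ∈ P, kc u⁻¹ w ∈ A := by
    intro w hw
    have h3 : kc (u⁻¹ * u) w = kc u⁻¹ w * kc u w := kc_mul_left (hA (h1 w hw))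
    rw [inv_mul_cancel, kc_one_left] at h3
    rw [eq_inv_of_mul_eq_one_left h3.symm]
    exact A.inv_mem (h1 w hw)
  have hu : u ∈ Nz P := by
    rw [Subgroup.mem_normalizer_iff]
    intro w
    refine ⟨h4 u h1 w, fun hw => ?_⟩
    have := h4 u⁻¹ h5 _ hw
    simpa [mul_assoc] using this
  exact ⟨⟨u, hu⟩, h1, ⟨k, Subtype.ext hk⟩, h3⟩

/-- `W` acts trivially on `K(P)` -/
theorem WK_triv {A P : Subgroup L} (hA : A ≤ Subgroup.center L) (hAP : A ≤ P) (n : ↥(Nz P)) (hn : n ∈ WK A P hA)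
    (m : (KS A).M P) : (KS A).τ (n : L) P P (nz_conj n) m = m := by
  apply Subtype.ext
  funext u
  show m.1 ⟨(n : L) * u * (n : L)⁻¹, _⟩ = m.1 u
  have h1 : kc (n : L) u ∈ A := hn u u.2
  have e : (⟨(n : L) * u * (n : L)⁻¹, nz_conj n u u.2⟩ : P) = ⟨kc (n : L) u, hAP h1⟩ * u := by
    apply Subtype.ext
    show (n : L) * u * (n : L)⁻¹ = kc (n : L) u * u
    unfold kc; group
  rw [e, KP_mul m.2, KP_central m.2 _ (hA h1), zero_add]

/-- `H^n(N'; K) = 0` -/
theorem van_K_noncentric {p : ℕ} [Fact p.Prime] [Finite L] {Ω : Type v} [MulAction L Ω] [Finite Ω]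
    (hΩ : PSet p L Ω) {A : Subgroup L} (hA : A ≤ Subgroup.center L) (hAp : IsPGroup p A) (n : ℕ) :
    (KS A).Van Ω (AllP p A \ CM p A) n := by
  refine van_of_single (KS A) hΩ (ordConnected_diff (AllP_ordConnected p A) (CM_isUpperSet p A))
    (isInv_diff (AllP_isInv hA p) (CM_isInv hA p)) n fun P hP V' hV' => ?_
  have : Finite ((KS A).M P) := finite_K A P
  exact van_single (KS A) hΩ hP.1.2 (isPTors_K hAp P) (WK A P hA) (WK_triv hA hP.1.1)
    (exists_WK hA hP.1.1 hP.2) hV' n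

end Cfsg.Agent.H119.Lim
end

-- part: H119/Lim/VanZG
section
/-!
# S5242, H2a: `H^n(U'; ZG)` from Theorem A for `L ⧸ A` (helper119)
-/

set_option autoImplicit false

namespace Cfsg.Agent.H119.Lim

open MulAction Cfsg.Agent.H539.Lim

universe u v w

/-- `Van` depends only on the stabilizers of tuples -/
theorem cvan_congr {G : Type u} [Group G] (C : Coef.{u, w} G) {Ω : Type v} [MulAction G Ω] {V V' : Set (Subgroup G)}
    (h : ∀ (k : ℕ) (x : Fin (k + 1) → Ω), st G x ∈ V ↔ st G x ∈ V') {n : ℕ} (hV : C.Van Ω V n) : C.Van Ω V' n := by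
  have h1 : ∀ {k : ℕ} {c : ∀ x : Fin (k + 1) → Ω, C.M (st G x)}, C.IsCoch V' c → C.IsCoch V c :=
    fun {k c} hc => ⟨hc.equiv, fun x hx => hc.supp x fun h' => hx ((h k x).2 h')⟩
  have h2 : ∀ {k : ℕ} {c : ∀ x : Fin (k + 1) → Ω, C.M (st G x)}, C.IsCoch V c → C.IsCoch V' c :=
    fun {k c} hc => ⟨hc.equiv, fun x hx => hc.supp x fun h' => hx ((h k x).1 h')⟩
  have h3 : ∀ {k : ℕ} {c : ∀ x : Fin (k + 1) → Ω, C.M (st G x)}, C.IsCoc V' c → C.IsCoc V c :=
    fun {k c} hc x hx => hc x ((h _ x).1 hx)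
  cases n with
  | zero => exact fun c hc hz => hV c (h1 hc) (h3 hz)
  | succ n =>
    intro c hc hz
    obtain ⟨b, hb, hb'⟩ := hV c (h1 hc) (h3 hz)
    exact ⟨b, h2 hb, fun x hx => hb' x ((h _ x).2 hx)⟩

variable {L : Type u} [Group L] {Ω : Type v} [MulAction L Ω] {A : Subgroup L} [A.Normal]

/-- the action of `L ⧸ A` -/
@[reducible] def quotAct (hAst : ∀ x : Ω, A ≤ stabilizer L x) : MulAction (L ⧸ A) Ω :=
  MulAction.compHom Ω (QuotientGroup.lift A (MulAction.toPermHom L Ω) (fun a ha => by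
    ext x
    exact mem_stabilizer_iff.1 (hAst x ha)) : L ⧸ A →* Equiv.Perm Ω)

theorem quotAct_mk (hAst : ∀ x : Ω, A ≤ stabilizer L x) (g : L) (x : Ω) :
    letI := quotAct hAst
    g • x = (QuotientGroup.mk' A g) • x := rfl

theorem quotAct_stab (hAst : ∀ x : Ω, A ≤ stabilizer L x) (x : Ω) :
    letI := quotAct hAst
    stabilizer (L ⧸ A) x = (stabilizer L x).map (QuotientGroup.mk' A) := by
  letI := quotAct hAst
  ext q
  obtain ⟨g, rfl⟩ := QuotientGroup.mk_surjective q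
  constructor
  · intro h
    exact ⟨g, h, rfl⟩
  · rintro ⟨w, hw, h⟩
    rw [← h]
    exact hw

theorem quotAct_pset {p : ℕ} (hΩ : PSet p L Ω) (hAp : IsPGroup p A) (hAst : ∀ x : Ω, A ≤ stabilizer L x) :
    letI := quotAct hAst
    PSet p (L ⧸ A) Ω := by
  letI := quotAct hAst
  refine ⟨fun x => ?_, fun P hP => ?_⟩
  · rw [quotAct_stab]
    exact (hΩ.pgroup x).map _
  · have h1 : IsPGroup p (P.comap (QuotientGroup.mk' A)) := hP.comap_of_ker_isPGroup _ (by
      rw [QuotientGroup.ker_mk']; exact hAp)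
    obtain ⟨x, hx⟩ := hΩ.exists_fix _ h1
    refine ⟨x, fun q hq => ?_⟩
    obtain ⟨g, rfl⟩ := QuotientGroup.mk_surjective q
    exact hx hq

theorem isPGroup_st {p : ℕ} (hΩ : PSet p L Ω) {k : ℕ} (x : Fin (k + 1) → Ω) : IsPGroup p (st L x) :=
  (hΩ.pgroup (x 0)).to_le fun g hg => by
    rw [mem_stabilizer_iff] at hg ⊢
    exact congrFun hg 0

omit [A.Normal] in
theorem le_st_of (hAst : ∀ x : Ω, A ≤ stabilizer L x) {k : ℕ} (x : Fin (k + 1) → Ω) : A ≤ st L x := fun a ha => by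
  rw [mem_stabilizer_iff]
  funext i
  exact mem_stabilizer_iff.1 (hAst (x i) ha)

/-- `H^n(U'; ZG)` from `H^n(centric; Z)` for `L ⧸ A` -/
theorem van_ZG {p : ℕ} (hΩ : PSet p L Ω) (hA : A ≤ Subgroup.center L) (hAp : IsPGroup p A)
    (hAst : ∀ x : Ω, A ≤ stabilizer L x) {n : ℕ}
    (h : letI := quotAct hAst; (Coef.Z p (L ⧸ A)).Van Ω {P : Subgroup (L ⧸ A) | Centric p P} n) :
    (ZG p A).Van Ω (AllP p A ∩ CM p A) n := by
  letI := quotAct hAst
  have hO : ({P : Subgroup L | A ≤ P} ∩ CM p A).OrdConnected := 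
    ⟨fun _ h1 _ h2 _ h3 => ⟨h1.1.trans h3.1, CM_isUpperSet p A h3.1 h1.2⟩⟩
  have hI : IsInv ({P : Subgroup L | A ≤ P} ∩ CM p A) := fun g P hP => ⟨le_cj hA g hP.1, CM_isInv hA p g P hP.2⟩
  refine cvan_congr (V := {P : Subgroup L | A ≤ P} ∩ CM p A) _ (fun k x => ?_) ?_
  · exact ⟨fun h1 => ⟨⟨h1.1, isPGroup_st hΩ x⟩, h1.2⟩, fun h1 => ⟨h1.1.1, h1.2⟩⟩
  · refine H234.Lim.Coef.van_of_surj (ZG p A) (QuotientGroup.mk' A) (QuotientGroup.mk'_surjective A)
      (quotAct_mk hAst) (Coef.Z p (L ⧸ A)) hO hI (fun P hP => ?_) (fun P hP => AddEquiv.refl _) (fun g P Q h h' hP hQ m => rfl) h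
    rw [QuotientGroup.ker_mk'] at hP
    exact ⟨fun h1 => (mem_CM_iff hAp hP).1 h1.2, fun h1 => ⟨hP, (mem_CM_iff hAp hP).2 h1⟩⟩

end Cfsg.Agent.H119.Lim
end

-- part: H425/Lim/VanN
section
/-!
# A vanishing theorem: collections of `p`-subgroups `P` with a `p`-element outside `P` centralizing `P` modulo `A`
(helper425, for S5242)
-/

set_option autoImplicit false

namespace Cfsg.Agent.H425.Lim

open MulAction Cfsg.Agent.H539.Lim

universe u v w

/-- the local problem at `P` in terms of the module `C.M P` -/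
theorem van_loc {G : Type u} [Group G] {Ω : Type v} [MulAction G Ω] (C : Coef.{u, w} G) (P : Subgroup G)
    {V : Set (Subgroup ↥(Nz P))} (hVi : IsInv V) (hV : ∀ Q ∈ V, Q.map (Nz P).subtype = P) {n : ℕ}
    (h : Van ↥(Nz P) (FixPt P Ω) (Loc C P) V n) : (C.restr (Nz P)).Van (FixPt P Ω) V n := by
  have hfix : ∀ Q : Subgroup ↥(Nz P), Q.map (Nz P).subtype = P → ∀ m : Loc C P, m ∈ DFix Q (Loc C P) := by
    intro Q hQ m u hu
    have h1 : (u : G)⁻¹ ∈ P := P.inv_mem (hQ.le (Subgroup.mem_map_of_mem (Nz P).subtype hu))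
    exact C.τ_inner P _ h1 _ m
  have hV' : V.OrdConnected := by
    refine ⟨fun P₁ h1 P₂ h2 Q hQ => ?_⟩
    have e : Q = P₁ := by
      apply le_antisymm _ hQ.1
      have h3 : P₂.map (Nz P).subtype = P₁.map (Nz P).subtype := by rw [hV _ h1, hV _ h2]
      have h4 : P₂ = P₁ := Subgroup.map_injective (Nz P).subtype_injective h3
      rw [← h4]; exact hQ.2
    rw [e]; exact h1
  refine H234.Lim.Coef.van_of_mod (C.restr (Nz P)) (D := Loc C P) hV' hVi (fun Q hQ =>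
    { toFun := fun m => ⟨castM C (hV Q hQ) m, hfix Q (hV Q hQ) _⟩
      invFun := fun m => (castM C (hV Q hQ)).symm m.1
      left_inv := fun m => (castM C (hV Q hQ)).symm_apply_apply m
      right_inv := fun m => Subtype.ext ((castM C (hV Q hQ)).apply_symm_apply m.1)
      map_add' := fun a b => Subtype.ext (map_add (castM C (hV Q hQ)) a b) }) ?_ h
  intro g P₁ Q₁ h1 hP hQ m
  show castM C (hV P₁ hP) (C.τ (g : G) (P₁.map (Nz P).subtype) (Q₁.map (Nz P).subtype) _ m) =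
    locMap C P g⁻¹ (castM C (hV Q₁ hQ) m)
  have h2 : ∀ u ∈ P, (g : G) * u * (g : G)⁻¹ ∈ P := by
    intro u hu
    have := conj_mem g⁻¹ u hu
    simpa using this
  exact (castM_tau C (hV P₁ hP) (hV Q₁ hQ) (g : G) _ h2 m).trans (tau_congr C (by simp) _ _ _)

theorem van_NN {p : ℕ} [Fact p.Prime] {G : Type u} [Group G] [Finite G] {Ω : Type v} [MulAction G Ω] [Finite Ω]
    (hΩ : PSet p G Ω) (C : Coef.{u, w} G) (A : Subgroup G) (hAc : A ≤ Subgroup.center G) {V : Set (Subgroup G)}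
    (hV : V.OrdConnected) (hVi : IsInv V) (hVp : ∀ P ∈ V, IsPGroup p P) (hVA : ∀ P ∈ V, A ≤ P)
    (hN : ∀ P ∈ V, ∃ u : G, u ∉ P ∧ (∃ k : ℕ, u ^ (p ^ k) = 1) ∧ ∀ v ∈ P, u * v * u⁻¹ * v⁻¹ ∈ A)
    (hfin : ∀ P ∈ V, Finite (C.M P)) (htor : ∀ P ∈ V, IsPTors p (C.M P))
    (htriv : ∀ P ∈ V, ∀ c : G, (∀ v ∈ P, c * v * c⁻¹ * v⁻¹ ∈ A) → ∀ (h : ∀ u ∈ P, c * u * c⁻¹ ∈ P) (m : C.M P),
      C.τ c P P h m = m) (n : ℕ) : C.Van Ω V n := by
  have hinvcard : ∀ (g : G) (P : Subgroup G), Nat.card (cj g P) = Nat.card P := fun g P =>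
    Nat.card_congr (P.equivMapOfInjective _ (MulAut.conj g).injective).symm.toEquiv
  refine H473.Lim.Coef.van_of_filt C hV hVi (fun P => Nat.card P) ?_ (fun g P _ => hinvcard g P) n ?_
  · intro P _ Q _ hPQ
    exact Nat.card_le_card_of_injective _ (Subgroup.inclusion_injective hPQ)
  · intro i
    have hVi' : IsInv {P | P ∈ V ∧ Nat.card P = i} := fun g P hP => ⟨hVi g P hP.1, (hinvcard g P).trans hP.2⟩
    refine H118.Lim.Coef.van_of_local C hΩ hVi' (fun P => P) (fun P _ => le_rfl) (fun _ _ _ => rfl) ?_ n ?_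
    · rintro P ⟨hP, hPi⟩ Q ⟨hQ, hQi⟩ hPQ
      exact Subgroup.eq_of_le_of_card_ge hPQ (by rw [hPi, hQi])
    · rintro P ⟨hP, hPi⟩
      have hVV : IsInv {Q : Subgroup ↥(Nz P) | Q.map (Nz P).subtype ∈ {P | P ∈ V ∧ Nat.card P = i} ∧
          Q.map (Nz P).subtype = P} := by
        rintro g Q ⟨_, hQ2⟩
        have e := mapNz_conj g hQ2
        exact ⟨by rw [e]; exact ⟨hP, hPi⟩, e⟩
      apply van_loc C P hVV (fun Q hQ => hQ.2)
      have : Finite (Loc C P) := hfin P hP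
      have hYn : (P.subgroupOf (Nz P)).Normal := inferInstance
      have hCn := cenMod_normal A hAc P
      have hVord : {Q : Subgroup ↥(Nz P) | Q.map (Nz P).subtype ∈ {P | P ∈ V ∧ Nat.card P = i} ∧
          Q.map (Nz P).subtype = P}.OrdConnected := by
        refine ⟨fun P₁ h1 P₂ h2 Q hQ => ?_⟩
        have e : Q = P₁ := by
          apply le_antisymm _ hQ.1
          have h3 : P₂.map (Nz P).subtype = P₁.map (Nz P).subtype := by rw [h1.2, h2.2]
          have h4 : P₂ = P₁ := Subgroup.map_injective (Nz P).subtype_injective h3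
          rw [← h4]; exact hQ.2
        rw [e]; exact h1
      refine H486.Lim.van_disjoint (p := p) (D := Loc C P) (H95.Lim.pset_fixPt hΩ P (hVp P hP)) (htor P hP)
        (P.subgroupOf (Nz P)) (cenMod A P) ?_ ?_ ?_ hVord hVV ?_ n
      · intro x u hu
        rw [mem_stabilizer_iff]
        apply Subtype.ext
        exact x.2 hu
      · intro c hc d
        have hc' : ∀ v ∈ P, (c : G)⁻¹ * v * (c : G)⁻¹⁻¹ * v⁻¹ ∈ A := (cenMod A P).inv_mem hc
        exact htriv P hP _ hc' (conj_mem c) d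
      · obtain ⟨u, hu1, ⟨k, hk⟩, hu3⟩ := hN P hP
        have hun : u ∈ Nz P := by
          have h1 : ∀ w : G, (∀ v ∈ P, w * v * w⁻¹ * v⁻¹ ∈ A) → ∀ v ∈ P, w * v * w⁻¹ ∈ P := by
            intro w hw v hv
            have := P.mul_mem (hVA P hP (hw v hv)) hv
            simpa using this
          have h2 : ∀ v ∈ P, u⁻¹ * v * u⁻¹⁻¹ * v⁻¹ ∈ A := by
            intro v hv
            have h3 := hu3 v hv
            have h4 := Subgroup.mem_center_iff.mp (hAc h3) u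
            have e : u⁻¹ * v * u⁻¹⁻¹ * v⁻¹ = u⁻¹ * (u * v * u⁻¹ * v⁻¹)⁻¹ * u := by group
            rw [e]
            have h5 : u⁻¹ * (u * v * u⁻¹ * v⁻¹)⁻¹ * u = (u * v * u⁻¹ * v⁻¹)⁻¹ := by
              have h6 := Subgroup.mem_center_iff.mp (Subgroup.inv_mem _ (hAc h3)) u⁻¹
              rw [h6]; group
            rw [h5]; exact A.inv_mem h3
          rw [Subgroup.mem_normalizer_iff]
          intro v
          refine ⟨h1 u hu3 v, fun hv => ?_⟩
          have := h1 u⁻¹ h2 _ hv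
          have e : u⁻¹ * (u * v * u⁻¹) * u⁻¹⁻¹ = v := by group
          rwa [e] at this
        refine ⟨⟨u, hun⟩, hu3, ⟨k, Subtype.ext hk⟩, ?_⟩
        intro h
        exact hu1 (Subgroup.mem_subgroupOf.mp h)
      · rintro Q ⟨_, hQ⟩ u ⟨hu, _⟩
        rw [Subgroup.mem_subgroupOf]
        exact hQ.le (Subgroup.mem_map_of_mem (Nz P).subtype hu)

end Cfsg.Agent.H425.Lim
end

-- part: H87/Lim/Ses
section
/-!
# S5242, F2: lifting of cochains, short exact sequences of coefficient systems (helper87)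
-/

set_option autoImplicit false

namespace Cfsg.Agent.H87.Lim

open MulAction Cfsg.Agent.H539.Lim

universe u v w

section

variable {G : Type u} [Group G] {Ω : Type v} [MulAction G Ω]

theorem tau_eq (C : Coef.{u, w} G) {g g' : G} (e : g = g') {P Q : Subgroup G} (h : ∀ u ∈ P, g * u * g⁻¹ ∈ Q)
    (h' : ∀ u ∈ P, g' * u * g'⁻¹ ∈ Q) (m : C.M Q) : C.τ g P Q h m = C.τ g' P Q h' m := by
  subst e
  rfl

theorem inv_iff {V : Set (Subgroup G)} (hVi : IsInv V) (g : G) {k : ℕ} (x : Fin k → Ω) :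
    st G (g • x) ∈ V ↔ st G x ∈ V := by
  have key : ∀ (g : G) (x : Fin k → Ω), st G x ∈ V → st G (g • x) ∈ V := by
    intro g x h
    have h1 := hVi g _ h
    have e : cj g (st G x) = st G (g • x) := (stabilizer_smul_eq_stabilizer_map_conj g x).symm
    rwa [e] at h1
  refine ⟨fun h => ?_, key g x⟩
  have := key g⁻¹ _ h
  rwa [inv_smul_smul] at this

/-- two elements moving `x` to the same tuple induce the same map -/
theorem tau_congr (C : Coef.{u, w} G) {k : ℕ} {x : Fin k → Ω} {Q : Subgroup G} {g g' : G} (e : g • x = g' • x)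
    (h : ∀ u ∈ st G x, g * u * g⁻¹ ∈ Q) (h' : ∀ u ∈ st G x, g' * u * g'⁻¹ ∈ Q) (m : C.M Q) :
    C.τ g (st G x) Q h m = C.τ g' (st G x) Q h' m := by
  have hu : g⁻¹ * g' ∈ st G x := by
    rw [mem_stabilizer_iff, mul_smul, ← e, inv_smul_smul]
  have hc : ∀ w ∈ st G x, (g⁻¹ * g') * w * (g⁻¹ * g')⁻¹ ∈ st G x := fun w hw =>
    mul_mem (mul_mem hu hw) (inv_mem hu)
  have h2 : ∀ w ∈ st G x, (g * (g⁻¹ * g')) * w * (g * (g⁻¹ * g'))⁻¹ ∈ Q := by
    rw [mul_inv_cancel_left]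
    exact h'
  have h3 := C.τ_comp (g⁻¹ * g') g (st G x) (st G x) Q hc h h2 m
  rw [C.τ_inner _ _ hu] at h3
  rw [h3]
  exact tau_eq C (mul_inv_cancel_left g g') _ _ m

theorem conj_mem_of {k : ℕ} {x y : Fin k → Ω} {g : G} (e : g • x = y) : ∀ u ∈ st G x, g * u * g⁻¹ ∈ st G y := by
  subst e
  exact Coef.conj_st G g x

theorem tau_pt (C : Coef.{u, w} G) {k : ℕ} {P : Subgroup G} {y y' : Fin k → Ω} (e : y = y') (g : G)
    (h : ∀ u ∈ P, g * u * g⁻¹ ∈ st G y) (h' : ∀ u ∈ P, g * u * g⁻¹ ∈ st G y') (m : ∀ y : Fin k → Ω, C.M (st G y)) :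
    C.τ g P (st G y) h (m y) = C.τ g P (st G y') h' (m y') := by
  subst e
  rfl

open Classical in
/-- **lifting of cochains** -/
theorem Coef.exists_lift {C C' : Coef.{u, w} G} {V : Set (Subgroup G)} (hVi : IsInv V)
    (g : Coef.HomOn C C' V) (hs : ∀ P ∈ V, Function.Surjective (g.f P)) {k : ℕ}
    (c' : ∀ x : Fin k → Ω, C'.M (st G x)) (hc' : C'.IsCoch V c') :
    ∃ c : ∀ x : Fin k → Ω, C.M (st G x), C.IsCoch V c ∧ ∀ x, st G x ∈ V → g.f _ (c x) = c' x := by
  -- representatives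
  let r : (Fin k → Ω) → (Fin k → Ω) := fun x => (Quotient.mk (orbitRel G (Fin k → Ω)) x).out
  have hr : ∀ x, ∃ t : G, t • x = r x := fun x => by
    have h : (orbitRel G (Fin k → Ω)).r (r x) x := Quotient.exact (Quotient.out_eq _)
    exact h
  choose t ht using hr
  have hrr : ∀ (a : G) x, r (a • x) = r x := fun a x => by
    have : Quotient.mk (orbitRel G (Fin k → Ω)) (a • x) = Quotient.mk (orbitRel G (Fin k → Ω)) x :=
      Quotient.sound ⟨a, rfl⟩
    change (Quotient.mk (orbitRel G (Fin k → Ω)) (a • x)).out = (Quotient.mk (orbitRel G (Fin k → Ω)) x).out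
    rw [this]
  have hrV : ∀ x, st G (r x) ∈ V ↔ st G x ∈ V := fun x => by
    rw [← ht x]
    exact inv_iff hVi (t x) x
  -- lifts
  let m : ∀ y : Fin k → Ω, C.M (st G y) := fun y => if h : st G y ∈ V then (hs _ h (c' y)).choose else 0
  have hm : ∀ y, st G y ∈ V → g.f _ (m y) = c' y := fun y h => by
    change g.f _ (if h : st G y ∈ V then (hs _ h (c' y)).choose else 0) = _
    rw [dif_pos h]
    exact (hs _ h (c' y)).choose_spec
  have hm0 : ∀ y, st G y ∉ V → m y = 0 := fun y h => dif_neg h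
  refine ⟨fun x => C.τ (t x) (st G x) (st G (r x)) (conj_mem_of (ht x)) (m (r x)), ⟨fun a x => ?_, fun x hx => ?_⟩,
    fun x hx => ?_⟩
  · have e1 : a • x = a • x := rfl
    have h1 : ∀ u ∈ st G (a • x), t (a • x) * u * (t (a • x))⁻¹ ∈ st G (r x) := conj_mem_of ((ht (a • x)).trans (hrr a x))
    have h2 : C.τ (t (a • x)) (st G (a • x)) (st G (r (a • x))) (conj_mem_of (ht (a • x))) (m (r (a • x))) =
        C.τ (t (a • x)) (st G (a • x)) (st G (r x)) h1 (m (r x)) := tau_pt C (hrr a x) _ _ _ m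
    have h3 : (t (a • x) * a) • x = r x := by rw [mul_smul, ht, hrr]
    change C.τ a (st G x) (st G (a • x)) (Coef.conj_st G a x)
      (C.τ (t (a • x)) (st G (a • x)) (st G (r (a • x))) (conj_mem_of (ht (a • x))) (m (r (a • x)))) = _
    rw [h2, C.τ_comp a (t (a • x)) _ _ _ _ _ (conj_mem_of h3)]
    exact tau_congr C (h3.trans (ht x).symm) _ _ _
  · rw [hm0 _ (fun h => hx ((hrV x).1 h)), map_zero]
  · have hrx := (hrV x).2 hx
    change g.f _ (C.τ (t x) (st G x) (st G (r x)) (conj_mem_of (ht x)) (m (r x))) = _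
    rw [g.nat (t x) _ _ _ hx hrx, hm _ hrx, ← hc'.equiv (t x) x]
    exact tau_pt C' (ht x).symm _ _ _ c'

/-! ### operations on cochains -/

/-- image of a cochain -/
def mp {C C' : Coef.{u, w} G} {V : Set (Subgroup G)} (f : Coef.HomOn C C' V) {k : ℕ}
    (b : ∀ x : Fin k → Ω, C.M (st G x)) : ∀ x : Fin k → Ω, C'.M (st G x) := fun x => f.f _ (b x)

theorem mp_coch {C C' : Coef.{u, w} G} {V : Set (Subgroup G)} (hVi : IsInv V) (f : Coef.HomOn C C' V) {k : ℕ}
    {b : ∀ x : Fin k → Ω, C.M (st G x)} (hb : C.IsCoch V b) : C'.IsCoch V (mp f b) where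
  equiv g x := by
    by_cases hx : st G x ∈ V
    · change C'.τ g _ _ _ (f.f _ (b (g • x))) = f.f _ (b x)
      rw [← f.nat g _ _ _ hx ((inv_iff hVi g x).2 hx), hb.equiv]
    · change C'.τ g _ _ _ (f.f _ (b (g • x))) = f.f _ (b x)
      rw [hb.supp x hx, hb.supp _ (fun h => hx ((inv_iff hVi g x).1 h)), map_zero, map_zero, map_zero]
  supp x hx := by
    change f.f _ (b x) = 0
    rw [hb.supp x hx, map_zero]

theorem mp_dd {C C' : Coef.{u, w} G} {V : Set (Subgroup G)} (f : Coef.HomOn C C' V) {k : ℕ}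
    {b : ∀ x : Fin k → Ω, C.M (st G x)} (hb : C.IsCoch V b) {x : Fin (k + 1) → Ω} (hx : st G x ∈ V) :
    C'.dd (mp f b) x = f.f _ (C.dd b x) := by
  unfold Coef.dd
  rw [map_sum]
  refine Finset.sum_congr rfl fun i _ => ?_
  rw [map_zsmul]
  congr 1
  by_cases hy : st G (fun j => x (i.succAbove j)) ∈ V
  · exact (f.nat 1 _ _ _ hx hy _).symm
  · change C'.res _ (f.f _ (b _)) = _
    rw [hb.supp _ hy, map_zero, map_zero, map_zero, map_zero]

theorem add_coch {C : Coef.{u, w} G} {V : Set (Subgroup G)} {k : ℕ} {b c : ∀ x : Fin k → Ω, C.M (st G x)}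
    (hb : C.IsCoch V b) (hc : C.IsCoch V c) : C.IsCoch V (fun x => b x + c x) where
  equiv g x := by rw [map_add, hb.equiv, hc.equiv]
  supp x hx := by rw [hb.supp x hx, hc.supp x hx, add_zero]

theorem sub_coch {C : Coef.{u, w} G} {V : Set (Subgroup G)} {k : ℕ} {b c : ∀ x : Fin k → Ω, C.M (st G x)}
    (hb : C.IsCoch V b) (hc : C.IsCoch V c) : C.IsCoch V (fun x => b x - c x) where
  equiv g x := by rw [map_sub, hb.equiv, hc.equiv]
  supp x hx := by rw [hb.supp x hx, hc.supp x hx, sub_zero]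

theorem dd_add (C : Coef.{u, w} G) {k : ℕ} (b c : ∀ x : Fin k → Ω, C.M (st G x)) (x : Fin (k + 1) → Ω) :
    C.dd (fun y => b y + c y) x = C.dd b x + C.dd c x := by
  unfold Coef.dd
  rw [← Finset.sum_add_distrib]
  refine Finset.sum_congr rfl fun i _ => ?_
  rw [map_add, smul_add]

theorem dd_sub (C : Coef.{u, w} G) {k : ℕ} (b c : ∀ x : Fin k → Ω, C.M (st G x)) (x : Fin (k + 1) → Ω) :
    C.dd (fun y => b y - c y) x = C.dd b x - C.dd c x := by
  unfold Coef.dd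
  rw [← Finset.sum_sub_distrib]
  refine Finset.sum_congr rfl fun i _ => ?_
  rw [map_sub, smul_sub]

/-- the coboundary is equivariant -/
theorem dd_equiv (C : Coef.{u, w} G) {k : ℕ} {c : ∀ x : Fin k → Ω, C.M (st G x)}
    (hc : ∀ (g : G) (x : Fin k → Ω), C.τ g (st G x) (st G (g • x)) (Coef.conj_st G g x) (c (g • x)) = c x)
    (g : G) (x : Fin (k + 1) → Ω) :
    C.τ g (st G x) (st G (g • x)) (Coef.conj_st G g x) (C.dd c (g • x)) = C.dd c x := by
  unfold Coef.dd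
  rw [map_sum]
  refine Finset.sum_congr rfl fun i _ => ?_
  rw [map_zsmul]
  congr 1
  rw [← hc g (fun j => x (i.succAbove j))]
  have h0 : ∀ u ∈ st G x, g * u * g⁻¹ ∈ st G (g • fun j => x (i.succAbove j)) := fun u hu =>
    Coef.conj_st G g _ u (Coef.st_succAbove_le G x i hu)
  have h1 : ∀ u ∈ st G x, (1 * g) * u * (1 * g)⁻¹ ∈ st G (g • fun j => x (i.succAbove j)) := by
    rw [one_mul]
    exact h0
  have h2 : ∀ u ∈ st G x, (g * 1) * u * (g * 1)⁻¹ ∈ st G (g • fun j => x (i.succAbove j)) := by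
    rw [mul_one]
    exact h0
  have e1 := C.τ_comp g 1 (st G x) (st G (g • x)) (st G (g • fun j => x (i.succAbove j))) (Coef.conj_st G g x)
    (fun u hu => by
      rw [one_mul, inv_one, mul_one]
      exact Coef.st_succAbove_le G (g • x) i hu) h1 (c (g • fun j => x (i.succAbove j)))
  have e2 := C.τ_comp 1 g (st G x) (st G (fun j => x (i.succAbove j))) (st G (g • fun j => x (i.succAbove j)))
    (fun u hu => by
      rw [one_mul, inv_one, mul_one]
      exact Coef.st_succAbove_le G x i hu) (Coef.conj_st G g _) h2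
    (c (g • fun j => x (i.succAbove j)))
  have e3 := tau_eq C ((one_mul g).trans (mul_one g).symm) h1 h2 (c (g • fun j => x (i.succAbove j)))
  exact e1.trans (e3.trans e2.symm)

open Classical in
/-- truncation to `V` -/
noncomputable def tr (C : Coef.{u, w} G) (V : Set (Subgroup G)) {k : ℕ} (c : ∀ x : Fin k → Ω, C.M (st G x)) :
    ∀ x : Fin k → Ω, C.M (st G x) := fun x => if st G x ∈ V then c x else 0

theorem tr_pos (C : Coef.{u, w} G) {V : Set (Subgroup G)} {k : ℕ} (c : ∀ x : Fin k → Ω, C.M (st G x)) {x : Fin k → Ω}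
    (hx : st G x ∈ V) : tr C V c x = c x := if_pos hx

theorem tr_neg (C : Coef.{u, w} G) {V : Set (Subgroup G)} {k : ℕ} (c : ∀ x : Fin k → Ω, C.M (st G x)) {x : Fin k → Ω}
    (hx : st G x ∉ V) : tr C V c x = 0 := if_neg hx

theorem tr_coch {C : Coef.{u, w} G} {V : Set (Subgroup G)} (hVi : IsInv V) {k : ℕ} {c : ∀ x : Fin k → Ω, C.M (st G x)}
    (hc : ∀ (g : G) (x : Fin k → Ω), C.τ g (st G x) (st G (g • x)) (Coef.conj_st G g x) (c (g • x)) = c x) :
    C.IsCoch V (tr C V c) where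
  equiv g x := by
    by_cases hx : st G x ∈ V
    · rw [tr_pos C c hx, tr_pos C c ((inv_iff hVi g x).2 hx), hc]
    · rw [tr_neg C c hx, tr_neg C c (fun h => hx ((inv_iff hVi g x).1 h)), map_zero]
  supp x hx := tr_neg C c hx

/-- the key remark -/
theorem dd_eq_zero {C : Coef.{u, w} G} {V : Set (Subgroup G)} (hV : V.OrdConnected) {k : ℕ}
    {b : ∀ x : Fin k → Ω, C.M (st G x)} (hb : ∀ x, st G x ∉ V → b x = 0) {x : Fin (k + 1 + 1) → Ω} (hx : st G x ∈ V)
    (i : Fin (k + 1 + 1)) (hy : st G (fun j => x (i.succAbove j)) ∉ V) : C.dd b (fun j => x (i.succAbove j)) = 0 := by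
  unfold Coef.dd
  refine Finset.sum_eq_zero fun l _ => ?_
  rw [hb, map_zero, smul_zero]
  intro hz
  exact hy (hV.out hx hz ⟨Coef.st_succAbove_le G x i, Coef.st_succAbove_le G _ l⟩)

theorem dd_congr (C : Coef.{u, w} G) {k : ℕ} {b b' : ∀ x : Fin k → Ω, C.M (st G x)} {x : Fin (k + 1) → Ω}
    (h : ∀ i : Fin (k + 1), b (fun j => x (i.succAbove j)) = b' (fun j => x (i.succAbove j))) : C.dd b x = C.dd b' x := by
  unfold Coef.dd
  exact Finset.sum_congr rfl fun i _ => by rw [h i]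

theorem dd_tr {C : Coef.{u, w} G} {V : Set (Subgroup G)} (hV : V.OrdConnected) {k : ℕ}
    {b : ∀ x : Fin k → Ω, C.M (st G x)} (hb : ∀ x, st G x ∉ V → b x = 0)
    (hdd : ∀ x : Fin (k + 1 + 1) → Ω, C.dd (fun y => C.dd b y) x = 0) {x : Fin (k + 1 + 1) → Ω} (hx : st G x ∈ V) :
    C.dd (tr C V (C.dd b)) x = 0 := by
  rw [← hdd x]
  refine dd_congr C fun i => ?_
  by_cases hy : st G (fun j => x (i.succAbove j)) ∈ V
  · exact tr_pos C (C.dd b) hy
  · rw [tr_neg C (C.dd b) hy]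
    exact (dd_eq_zero hV hb hx i hy).symm

open Classical in
/-- preimages of cochains under an injective map -/
theorem exists_pre {C' C : Coef.{u, w} G} {V : Set (Subgroup G)} (hVi : IsInv V) (f : Coef.HomOn C' C V)
    (hinj : ∀ P ∈ V, Function.Injective (f.f P)) {k : ℕ} {c : ∀ x : Fin k → Ω, C.M (st G x)} (hc : C.IsCoch V c)
    (h : ∀ x, st G x ∈ V → ∃ m', f.f _ m' = c x) :
    ∃ e : ∀ x : Fin k → Ω, C'.M (st G x), C'.IsCoch V e ∧ ∀ x, f.f _ (e x) = c x := by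
  let e : ∀ x : Fin k → Ω, C'.M (st G x) := fun x => if hx : st G x ∈ V then (h x hx).choose else 0
  have he0 : ∀ x, st G x ∉ V → e x = 0 := fun x hx => dif_neg hx
  have he : ∀ x, f.f _ (e x) = c x := by
    intro x
    by_cases hx : st G x ∈ V
    · change f.f _ (if hx : st G x ∈ V then (h x hx).choose else 0) = _
      rw [dif_pos hx]
      exact (h x hx).choose_spec
    · rw [he0 x hx, map_zero, hc.supp x hx]
  refine ⟨e, ⟨fun g x => ?_, he0⟩, he⟩
  by_cases hx : st G x ∈ V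
  · apply hinj _ hx
    rw [f.nat g _ _ _ hx ((inv_iff hVi g x).2 hx), he, he, hc.equiv]
  · rw [he0 x hx, he0 _ (fun h => hx ((inv_iff hVi g x).1 h)), map_zero]

/-- restriction to the stabilizer of a face -/
def rs (C : Coef.{u, w} G) {k l : ℕ} (c : ∀ x : Fin k → Ω, C.M (st G x)) (x : Fin l → Ω) (y : Fin k → Ω) (h : st G x ≤ st G y) :
    C.M (st G x) := C.res h (c y)

theorem rs_congr (C : Coef.{u, w} G) {k l : ℕ} (c : ∀ x : Fin k → Ω, C.M (st G x)) (x : Fin l → Ω) {y y' : Fin k → Ω} (e : y = y')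
    (h : st G x ≤ st G y) (h' : st G x ≤ st G y') : rs C c x y h = rs C c x y' h' := by
  subst e
  rfl

theorem res_res (C : Coef.{u, w} G) {P Q R : Subgroup G} (h : P ≤ Q) (h' : Q ≤ R) (m : C.M R) :
    C.res h (C.res h' m) = C.res (h.trans h') m := by
  have h3 : ∀ u ∈ P, (1 * 1 : G) * u * (1 * 1 : G)⁻¹ ∈ R := fun u hu => by simpa using h' (h hu)
  have e1 := C.τ_comp 1 1 P Q R (fun u hu => by simpa using h hu) (fun u hu => by simpa using h' hu) h3 m
  exact e1.trans (tau_eq C (one_mul 1) _ _ m)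

/-- **`d d = 0`** -/
theorem Coef.dd_dd (C : Coef.{u, w} G) {k : ℕ} (c : ∀ x : Fin k → Ω, C.M (st G x)) (x : Fin (k + 2) → Ω) :
    C.dd (fun y => C.dd c y) x = 0 := by
  have hle : ∀ (i : Fin (k + 2)) (j : Fin (k + 1)), st G x ≤ st G (fun l => x (i.succAbove (j.succAbove l))) :=
    fun i j => (Coef.st_succAbove_le G x i).trans (Coef.st_succAbove_le G (fun l => x (i.succAbove l)) j)
  have e1 : C.dd (fun y => C.dd c y) x = ∑ i : Fin (k + 2), ∑ j : Fin (k + 1), ((-1 : ℤ) ^ (i + j : ℕ)) •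
      rs C c x (fun l => x (i.succAbove (j.succAbove l))) (hle i j) := by
    unfold Coef.dd
    refine Finset.sum_congr rfl fun i _ => ?_
    rw [map_sum, Finset.smul_sum]
    refine Finset.sum_congr rfl fun j _ => ?_
    rw [map_zsmul, smul_smul, ← pow_add, res_res]
    rfl
  rw [e1, ← Finset.sum_product']
  refine Finset.sum_involution (fun a _ => (a.1.succAbove a.2, a.2.predAbove a.1)) ?_ ?_ ?_ ?_
  · rintro ⟨i, j⟩ -
    have e2 : (fun l => x ((i.succAbove j).succAbove ((j.predAbove i).succAbove l))) =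
        fun l => x (i.succAbove (j.succAbove l)) := by
      funext l
      rw [Fin.succAbove_succAbove_succAbove_predAbove]
    change ((-1 : ℤ) ^ (i + j : ℕ)) • rs C c x _ (hle i j) +
      ((-1 : ℤ) ^ ((i.succAbove j : Fin (k + 2)) + (j.predAbove i : Fin (k + 1)) : ℕ)) • rs C c x _ (hle _ _) = 0
    rw [rs_congr C c x e2 (hle _ _) (hle i j), Fin.neg_one_pow_succAbove_add_predAbove, neg_smul, add_neg_cancel]
  · rintro ⟨i, j⟩ - -
    intro h
    exact Fin.succAbove_ne i j (congrArg Prod.fst h)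
  · intro a _
    exact Finset.mem_product.2 ⟨Finset.mem_univ _, Finset.mem_univ _⟩
  · rintro ⟨i, j⟩ -
    change ((i.succAbove j).succAbove (j.predAbove i), (j.predAbove i).predAbove (i.succAbove j)) = (i, j)
    rw [Fin.succAbove_succAbove_predAbove, Fin.predAbove_predAbove_succAbove]

theorem pre_coc {C' C : Coef.{u, w} G} {V : Set (Subgroup G)} (f : Coef.HomOn C' C V)
    (hinj : ∀ P ∈ V, Function.Injective (f.f P)) {k : ℕ} {c : ∀ x : Fin k → Ω, C.M (st G x)}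
    {e : ∀ x : Fin k → Ω, C'.M (st G x)} (he : C'.IsCoch V e) (h : ∀ x, f.f _ (e x) = c x) (hc : C.IsCoc V c) :
    C'.IsCoc V e := by
  intro x hx
  apply hinj _ hx
  rw [map_zero, ← mp_dd f he hx]
  have : mp f e = c := funext h
  rw [this]
  exact hc x hx

theorem dd_mp_eq {C C' : Coef.{u, w} G} {V : Set (Subgroup G)} (f : Coef.HomOn C C' V) {k : ℕ}
    {b : ∀ x : Fin k → Ω, C.M (st G x)} (hb : C.IsCoch V b) {x : Fin (k + 1) → Ω} (hx : st G x ∈ V) :
    C'.dd (fun y => f.f _ (b y)) x = f.f _ (C.dd b x) := mp_dd f hb hx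

/-- **short exact sequences**, the quotient -/
theorem Coef.van_ses1 {C' C C'' : Coef.{u, w} G} {V : Set (Subgroup G)} (hV : V.OrdConnected) (hVi : IsInv V)
    (f : Coef.HomOn C' C V) (g : Coef.HomOn C C'' V) (hinj : ∀ P ∈ V, Function.Injective (f.f P))
    (hex : ∀ P ∈ V, ∀ m, g.f P m = 0 ↔ ∃ m', f.f P m' = m) (hs : ∀ P ∈ V, Function.Surjective (g.f P)) {n : ℕ}
    (h1 : C.Van Ω V n) (h2 : C'.Van Ω V (n + 1)) : C''.Van Ω V n := by
  -- a cocycle of `C''` lifts to a cocycle of `C`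
  have key : ∀ c'' : (∀ x : Fin (n + 1) → Ω, C''.M (st G x)), C''.IsCoch V c'' → C''.IsCoc V c'' →
      ∃ c : (∀ x : Fin (n + 1) → Ω, C.M (st G x)), C.IsCoch V c ∧ C.IsCoc V c ∧
        ∀ x, st G x ∈ V → g.f _ (c x) = c'' x := by
    intro c'' hc'' hz
    obtain ⟨c, hc, hcg⟩ := Coef.exists_lift hVi g hs c'' hc''
    have hmp : ∀ x, mp g c x = c'' x := by
      intro x
      by_cases hx : st G x ∈ V
      · exact hcg x hx
      · rw [(mp_coch hVi g hc).supp x hx, hc''.supp x hx]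
    have ht := tr_coch hVi (C := C) (c := C.dd c) (dd_equiv C hc.equiv)
    obtain ⟨e, he, hfe⟩ := exists_pre hVi f hinj ht (by
      intro x hx
      rw [tr_pos C (C.dd c) hx, ← hex _ hx, ← mp_dd g hc hx, funext hmp]
      exact hz x hx)
    have hez : C'.IsCoc V e := pre_coc f hinj he hfe fun x hx => dd_tr hV hc.supp (Coef.dd_dd C c) hx
    obtain ⟨b, hb, hbe⟩ := h2 e he hez
    refine ⟨fun x => c x - mp f b x, sub_coch hc (mp_coch hVi f hb), fun x hx => ?_, fun x hx => ?_⟩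
    · rw [dd_sub, mp_dd f hb hx, ← hbe x hx, hfe, tr_pos C (C.dd c) hx, sub_self]
    · have h3 : g.f _ (mp f b x) = 0 := (hex _ hx _).2 ⟨b x, rfl⟩
      rw [map_sub, h3, sub_zero, hcg x hx]
  cases n with
  | zero =>
    intro c'' hc'' hz x
    obtain ⟨c, hc, hcz, hcg⟩ := key c'' hc'' hz
    by_cases hx : st G x ∈ V
    · rw [← hcg x hx, h1 c hc hcz x, map_zero]
    · exact hc''.supp x hx
  | succ n =>
    intro c'' hc'' hz
    obtain ⟨c, hc, hcz, hcg⟩ := key c'' hc'' hz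
    obtain ⟨a, ha, hac⟩ := h1 c hc hcz
    refine ⟨mp g a, mp_coch hVi g ha, fun x hx => ?_⟩
    rw [← hcg x hx, hac x hx, mp_dd g ha hx]

/-- **short exact sequences**, the middle term -/
theorem Coef.van_ses2 {C' C C'' : Coef.{u, w} G} {V : Set (Subgroup G)} (hV : V.OrdConnected) (hVi : IsInv V)
    (f : Coef.HomOn C' C V) (g : Coef.HomOn C C'' V) (hinj : ∀ P ∈ V, Function.Injective (f.f P))
    (hex : ∀ P ∈ V, ∀ m, g.f P m = 0 ↔ ∃ m', f.f P m' = m) (hs : ∀ P ∈ V, Function.Surjective (g.f P)) {n : ℕ}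
    (h1 : C'.Van Ω V n) (h2 : C''.Van Ω V n) : C.Van Ω V n := by
  cases n with
  | zero =>
    intro c hc hz x
    have h3 : ∀ x, mp g c x = 0 := h2 (mp g c) (mp_coch hVi g hc) fun x hx => by
      rw [mp_dd g hc hx, hz x hx, map_zero]
    obtain ⟨e, he, hfe⟩ := exists_pre hVi f hinj hc fun x hx => (hex _ hx _).1 (h3 x)
    rw [← hfe, h1 e he (pre_coc f hinj he hfe hz) x, map_zero]
  | succ n =>
    intro c hc hz
    obtain ⟨b'', hb'', hbc⟩ := h2 (mp g c) (mp_coch hVi g hc) fun x hx => by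
      rw [mp_dd g hc hx, hz x hx, map_zero]
    obtain ⟨b, hb, hbg⟩ := Coef.exists_lift hVi g hs b'' hb''
    have hmp : ∀ x, mp g b x = b'' x := by
      intro x
      by_cases hx : st G x ∈ V
      · exact hbg x hx
      · rw [(mp_coch hVi g hb).supp x hx, hb''.supp x hx]
    have ht := tr_coch hVi (C := C) (c := C.dd b) (dd_equiv C hb.equiv)
    have hw := sub_coch hc ht
    have hwz : C.IsCoc V (fun x => c x - tr C V (C.dd b) x) := by
      intro x hx
      rw [dd_sub, hz x hx, dd_tr hV hb.supp (Coef.dd_dd C b) hx, sub_zero]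
    obtain ⟨e, he, hfe⟩ := exists_pre hVi f hinj hw (by
      intro x hx
      rw [← hex _ hx, map_sub, tr_pos C (C.dd b) hx, ← mp_dd g hb hx, funext hmp, ← hbc x hx]
      exact sub_self _)
    obtain ⟨a, ha, hae⟩ := h1 e he (pre_coc f hinj he hfe hwz)
    refine ⟨fun x => b x + mp f a x, add_coch hb (mp_coch hVi f ha), fun x hx => ?_⟩
    rw [dd_add, mp_dd f ha hx, ← hae x hx, hfe, tr_pos C (C.dd b) hx]
    abel

end

end Cfsg.Agent.H87.Lim
end

-- part: H539/Lim/MainE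
section
/-!
# H2b: assembly of Theorem E (helper539, for S5242; pieces of helper119 and helper425)
-/

set_option autoImplicit false

namespace Cfsg.Agent.H539.Lim.ME

open MulAction Cfsg.Agent.H539.Lim
open Cfsg.Agent.H119.Lim (AllP CM KS kc)

universe u v w

variable {L : Type u} [Group L] {Ω : Type v} [MulAction L Ω]

theorem van_const {p : ℕ} [Fact p.Prime] [Finite L] [Finite Ω] (hΩ : PSet p L Ω) (D : Type u) [AddCommGroup D]
    [Finite D] (hD : IsPTors p D) {V : Set (Subgroup L)} (hV : V.OrdConnected) (hVi : IsInv V)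
    (hup : ∀ P ∈ V, ∀ Q : Subgroup L, P ≤ Q → IsPGroup p Q → Q ∈ V) (n : ℕ) :
    (H119.Lim.const L D).Van Ω V (n + 1) := by
  refine H234.Lim.Coef.van_of_mod (H119.Lim.const L D) (D := H425.Lim.Tr L D) hV hVi (fun P hP =>
    { toFun := fun m => ⟨m, fun _ _ => rfl⟩
      invFun := fun m => m.1
      left_inv := fun m => rfl
      right_inv := fun m => rfl
      map_add' := fun a b => rfl }) (fun g P Q h hP hQ m => rfl) ?_
  have : Finite (H425.Lim.Tr L D) := inferInstanceAs (Finite D)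
  have hD' : IsPTors p (H425.Lim.Tr L D) := hD
  refine H425.Lim.van_congr (fun k x => ?_) (H309.Lim.van_Q (D := H425.Lim.Tr L D) hΩ hD'
    {A | A ∈ V ∧ IsPGroup p A} (fun g A hA => ⟨hVi g A hA.1, hA.2.map _⟩) (fun A hA => hA.2) ?_ n)
  · constructor
    · rintro ⟨A, hA, hAx⟩
      exact hup A hA.1 _ hAx (H119.Lim.isPGroup_st hΩ x)
    · intro h
      exact ⟨_, ⟨h, H119.Lim.isPGroup_st hΩ x⟩, le_rfl⟩
  · intro A hA M hM hi z hz hpz a ha haM
    have : ∀ i ∈ Finset.range p, a ^ i • z = z := fun i _ => rfl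
    rw [Finset.sum_congr rfl this]
    simp

theorem centric_mono {p : ℕ} {P Q : Subgroup L} (h : P ≤ Q) (hP : Centric p P) : Centric p Q :=
  fun u hu hk => h (hP u (fun v hv => hu v (h hv)) hk)

theorem CC_ord (p : ℕ) (A : Subgroup L) : (H425.Lim.CC p A).OrdConnected :=
  ⟨fun _ h1 _ h2 _ h3 => ⟨h1.1.trans h3.1, centric_mono h3.1 h1.2.1, h2.2.2.to_le h3.2⟩⟩

theorem CC_inv (p : ℕ) {A : Subgroup L} (hA : A ≤ Subgroup.center L) : IsInv (H425.Lim.CC p A) :=
  fun g _ h => ⟨H425.Lim.cj_le hA h.1 g, H679.Lim.centric_cj g h.2.1, h.2.2.map _⟩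

/-- `H^n = 0` of the centre functor on the centric subgroups that are not centric modulo `A` -/
theorem van_Z_N {p : ℕ} [Fact p.Prime] [Finite L] [Finite Ω] (hΩ : PSet p L Ω) {A : Subgroup L}
    (hA : A ≤ Subgroup.center L) (hAp : IsPGroup p A) (n : ℕ) :
    (Coef.Z p L).Van Ω (H425.Lim.CC p A \ CM p A) n := by
  set V : Set (Subgroup L) := H425.Lim.CC p A \ CM p A with hVdef
  have hV : V.OrdConnected := H119.Lim.ordConnected_diff (CC_ord p A) (H119.Lim.CM_isUpperSet p A)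
  have hVi : IsInv V := H119.Lim.isInv_diff (CC_inv p hA) (H119.Lim.CM_isInv hA p)
  have hVC : V ⊆ H425.Lim.CC p A := fun _ h => h.1
  have hN : ∀ P ∈ V, ∃ u : L, u ∉ P ∧ (∃ k : ℕ, u ^ (p ^ k) = 1) ∧ ∀ v ∈ P, u * v * u⁻¹ * v⁻¹ ∈ A := by
    rintro P ⟨-, hP⟩
    by_contra h
    apply hP
    intro u h1 h2
    by_contra h3
    exact h ⟨u, h3, h2, h1⟩
  have hfinA : Finite (H425.Lim.AA A hA) := inferInstanceAs (Finite (Additive ↥A))
  have hfinZ : ∀ P : Subgroup L, Finite ((Coef.Z p L).M P) := fun P =>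
    inferInstanceAs (Finite (Additive ↥(zc p P)))
  have htorA : IsPTors p (H425.Lim.AA A hA) := by
    intro a
    obtain ⟨k, hk⟩ := hAp (Additive.toMul (show Additive ↥A from a))
    exact ⟨k, hk⟩
  have htorZ : ∀ P ∈ V, IsPTors p ((Coef.Z p L).M P) := by
    rintro P ⟨hP, -⟩ m
    obtain ⟨k, hk⟩ := hP.2.2 ⟨_, (H425.Lim.zval_mem m).1⟩
    refine ⟨k, H425.Lim.zval_inj ?_⟩
    have h1 : ∀ j : ℕ, H425.Lim.zval (j • m) = H425.Lim.zval m ^ j := by
      intro j
      induction j with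
      | zero => rw [zero_smul, pow_zero]; rfl
      | succ j ih => rw [succ_nsmul, H425.Lim.zval_add, ih, pow_succ]
    rw [h1]
    exact congrArg Subtype.val hk
  refine H87.Lim.Coef.van_ses2 hV hVi (H425.Lim.homAZ p A hA hVC) (H425.Lim.homZN p A hA V)
    (fun P hP => H425.Lim.homAZ_inj p A hA hVC hP) (fun P hP m => H425.Lim.homAZ_exact p A hA hVC hP m)
    (fun P _ => H425.Lim.homZN_surj p A hA V P) ?_ ?_
  · exact H425.Lim.van_NN hΩ _ A hA hV hVi (fun P hP => hP.1.2.2) (fun P hP => hP.1.1) hN (fun _ _ => hfinA)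
      (fun _ _ => htorA) (fun _ _ _ _ _ _ => rfl) n
  · refine H425.Lim.van_NN hΩ _ A hA hV hVi (fun P hP => hP.1.2.2) (fun P hP => hP.1.1) hN ?_ ?_ ?_ n
    · intro P hP
      have := hfinZ P
      exact Finite.of_surjective _ (H425.Lim.homZN_surj p A hA V P)
    · intro P hP m
      obtain ⟨z, rfl⟩ := H425.Lim.homZN_surj p A hA V P m
      obtain ⟨k, hk⟩ := htorZ P hP z
      exact ⟨k, by rw [← map_nsmul, hk, map_zero]⟩
    · intro P hP c hc h m
      obtain ⟨z, rfl⟩ := H425.Lim.homZN_surj p A hA V P m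
      rw [← (H425.Lim.homZN p A hA V).nat c P P h hP hP z, ← sub_eq_zero, ← map_sub,
        H425.Lim.homZN_eq_zero, sub_eq_add_neg, H425.Lim.zval_add, H425.Lim.zval_neg,
        H425.Lim.zval_tau h hP.1.2]
      have h1 := hc _ (H425.Lim.zval_mem z).1
      have h2 := Subgroup.mem_center_iff.mp (hA h1) c⁻¹
      set t := H425.Lim.zval z with ht
      have h3 : (c * t * c⁻¹ * t⁻¹) * (c⁻¹ * t * c * t⁻¹) = 1 := by
        calc (c * t * c⁻¹ * t⁻¹) * (c⁻¹ * t * c * t⁻¹)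
            = ((c * t * c⁻¹ * t⁻¹) * c⁻¹) * (t * c * t⁻¹) := by group
          _ = (c⁻¹ * (c * t * c⁻¹ * t⁻¹)) * (t * c * t⁻¹) := by rw [h2]
          _ = 1 := by group
      have e : c⁻¹ * t * c * t⁻¹ = (c * t * c⁻¹ * t⁻¹)⁻¹ := eq_inv_of_mul_eq_one_right h3
      rw [e]
      exact A.inv_mem h1

theorem normal_of_central {A : Subgroup L} (hA : A ≤ Subgroup.center L) : A.Normal :=
  ⟨fun a ha g => by
    rw [Subgroup.mem_center_iff.mp (hA ha) g, mul_inv_cancel_right]; exact ha⟩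

theorem van_Z_C {p : ℕ} [Fact p.Prime] [Finite L] [Finite Ω] (hΩ : PSet p L Ω) {A : Subgroup L}
    (hA : A ≤ Subgroup.center L) (hAp : IsPGroup p A) (hAst : ∀ x : Ω, A ≤ stabilizer L x) (n : ℕ) :
    (Coef.Z p L).Van Ω (AllP p A ∩ CM p A) (n + 2) := by
  have h1 : (Coef.Z p L).Van Ω (H425.Lim.CC p A) (n + 2) := by
    refine H425.Lim.cvan_congr _ (fun k x => ?_) (H539.Lim.PA.thmA hΩ n)
    exact ⟨fun h => ⟨H119.Lim.le_st_of hAst x, h, H119.Lim.isPGroup_st hΩ x⟩, fun h => h.2.1⟩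
  have h2 := H473.Lim.Coef.van_two3 (Coef.Z p L) (CC_ord p A) (CC_inv p hA) (H119.Lim.CM_isUpperSet p A)
    (H119.Lim.CM_isInv hA p) h1 (van_Z_N hΩ hA hAp (n + 3))
  refine H425.Lim.cvan_congr _ (fun k x => ?_) h2
  exact ⟨fun h => ⟨⟨h.1.1, h.1.2.2⟩, h.2⟩, fun h => ⟨⟨h.1.1, H119.Lim.centric_of_CM h.2, h.1.2⟩, h.2⟩⟩

/-- `H²(all; K) = 0` -/
theorem van_K_two {p : ℕ} [Fact p.Prime] [Finite L] [Finite Ω] (hΩ : PSet p L Ω) {A : Subgroup L}
    (hA : A ≤ Subgroup.center L) (hAp : IsPGroup p A) (hAst : ∀ x : Ω, A ≤ stabilizer L x) :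
    (KS A).Van Ω (AllP p A) 2 := by
  haveI : A.Normal := normal_of_central hA
  have hO : (AllP p A ∩ CM p A).OrdConnected :=
    ⟨fun _ h1 _ h2 _ h3 => ⟨(H119.Lim.AllP_ordConnected p A).out h1.1 h2.1 h3, H119.Lim.CM_isUpperSet p A h3.1 h1.2⟩⟩
  have hI : IsInv (AllP p A ∩ CM p A) := fun g P h => ⟨H119.Lim.AllP_isInv hA p g P h.1, H119.Lim.CM_isInv hA p g P h.2⟩
  have hfinA : Finite (H119.Lim.DA A hA) := inferInstanceAs (Finite (Additive ↥A))
  have htorA : IsPTors p (H119.Lim.DA A hA) := by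
    intro a
    obtain ⟨k, hk⟩ := hAp (Additive.toMul (α := ↥A) a)
    exact ⟨k, hk⟩
  have hN : (H119.Lim.NS p A).Van Ω (AllP p A ∩ CM p A) 3 := by
    refine H87.Lim.Coef.van_ses1 hO hI (H119.Lim.AtoZ hA p) (H119.Lim.ZtoN hAp)
      (fun P hP => H119.Lim.AtoZ_injective hA hP) (fun P hP m => ?_)
      (fun P hP => H119.Lim.ZtoN_surjective hAp hP) (van_Z_C hΩ hA hAp hAst 1)
      (van_const hΩ _ htorA hO hI ?_ 3)
    · exact H119.Lim.ZtoN_exact hA hAp hP m
    · rintro P ⟨h1, h2⟩ Q hPQ hQ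
      exact ⟨⟨h1.1.trans hPQ, hQ⟩, H119.Lim.CM_isUpperSet p A hPQ h2⟩
  have hZG : (H119.Lim.ZG p A).Van Ω (AllP p A ∩ CM p A) 2 := by
    refine H119.Lim.van_ZG hΩ hA hAp hAst ?_
    letI := H119.Lim.quotAct hAst
    exact H539.Lim.PA.thmA (H119.Lim.quotAct_pset hΩ hAp hAst) 0
  have hK : (KS A).Van Ω (AllP p A ∩ CM p A) 2 :=
    H87.Lim.Coef.van_ses1 hO hI (H119.Lim.incN p A (AllP p A ∩ CM p A)) (H119.Lim.toK hA hAp)
      (fun P _ => H119.Lim.incN_injective p A _ P) (fun P _ m => H119.Lim.toK_exact hA hAp P m)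
      (fun P hP => H119.Lim.toK_surjective hA hAp hP) hZG hN
  exact H473.Lim.Coef.van_two1 (KS A) (H119.Lim.AllP_ordConnected p A) (H119.Lim.AllP_isInv hA p)
    (H119.Lim.CM_isUpperSet p A) (H119.Lim.CM_isInv hA p) (H119.Lim.van_K_noncentric hΩ hA hAp 2) hK

/-- **Theorem E** -/
theorem thmE {p : ℕ} [Fact p.Prime] {L : Type u} [Group L] [Finite L] {Ω : Type v} [MulAction L Ω] [Finite Ω]
    (hΩ : PSet p L Ω) (A : Subgroup L) (hA : A ≤ Subgroup.center L) (hAp : IsPGroup p A)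
    (hAst : ∀ x : Ω, A ≤ stabilizer L x) (e : Ω → Ω → L → L)
    (he : ∀ x y, ∀ u ∈ stabilizer L x ⊓ stabilizer L y, e x y u ∈ A)
    (hmul : ∀ x y, ∀ u ∈ stabilizer L x ⊓ stabilizer L y, ∀ w ∈ stabilizer L x ⊓ stabilizer L y,
      e x y (u * w) = e x y u * e x y w)
    (heA : ∀ x y, ∀ u ∈ A, e x y u = 1)
    (heq : ∀ (l : L) x y, ∀ u ∈ stabilizer L x ⊓ stabilizer L y, e (l • x) (l • y) (l * u * l⁻¹) = e x y u)
    (hcoc : ∀ x y z, ∃ c : L, (∀ u ∈ stabilizer L x ⊓ stabilizer L y ⊓ stabilizer L z, c * u * c⁻¹ * u⁻¹ ∈ A) ∧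
      ∀ u ∈ stabilizer L x ⊓ stabilizer L y ⊓ stabilizer L z,
        e x y u * e y z u = e x z u * (c * u * c⁻¹ * u⁻¹)) :
    ∃ v : Ω → L → L, (∀ x, ∀ u ∈ stabilizer L x, v x u ∈ A) ∧
      (∀ x, ∀ u ∈ stabilizer L x, ∀ w ∈ stabilizer L x, v x (u * w) = v x u * v x w) ∧
      (∀ x, ∀ u ∈ A, v x u = 1) ∧
      (∀ (l : L) x, ∀ u ∈ stabilizer L x, v (l • x) (l * u * l⁻¹) = v x u) ∧
      ∀ x y, ∃ c : L, (∀ u ∈ stabilizer L x ⊓ stabilizer L y, c * u * c⁻¹ * u⁻¹ ∈ A) ∧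
        ∀ u ∈ stabilizer L x ⊓ stabilizer L y, e x y u * v x u = v y u * (c * u * c⁻¹ * u⁻¹) :=
  H425.Lim.thmE_of hΩ hA hAp hAst (van_K_two hΩ hA hAp hAst) e he hmul heA heq hcoc

end Cfsg.Agent.H539.Lim.ME
end
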